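import Cfsg.Agent.Lib.Fusion.Balance.Exists

/-!
# Labels are determined up to the centralizer

At a fully centralized `P` with `P ∩ T` self-centralizing in `T`, an identity map has only the labels
of elements of `C_S(P)`: a composite of labelled maps is followed in the stabilizer of `P`.
-/

set_option autoImplicit false
set_option maxHeartbeats 1000000
set_option linter.style.haveILetI false
set_option linter.unusedSectionVars false

open Subgroup
open scoped Classical Pointwise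

namespace CfsgLib.Fusion.Balance

open Cfsg (FusionSystem autInducedBy)
open Cfsg.FusionSystem (normalizerIn centralizerIn preimageAlong)
open CfsgLib.Fusion CfsgLib.Fusion.CentLift CfsgLib.Fusion.Meet

universe u

variable {Ω : Type u} [Group Ω] {S T : Subgroup Ω} {F : FusionSystem S} {E : FusionSystem T}
  {p : ℕ} [Finite S] [Fact p.Prime] {P Q R W D : Subgroup Ω} {f g : Ω → Ω}
  (h : Setup F p E E T) (hE : E.IsNormalIn F p) (hnil : Nil F T p) (hP : Rep F T P)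
  {M : LModel F p (P ⊓ T)}

include h hP in
theorem conj_mem_up {s : Ω} (hs : s ∈ normalizerIn S P) {x : Ω} (hx : x ∈ up T P) :
    s * x * s⁻¹ ∈ up T P :=
  ((isMap_conj (F := F) le_rfl hs.1).mono ((up_le h hP).trans inf_le_left)).map_mem_of_sup
    (fun t ht => Subgroup.mem_sup_left (show s * t * s⁻¹ ∈ normalizerIn T P from
      Subgroup.mem_inf.2 ⟨(Subgroup.mem_normalizer_iff.1 (h.normal hs.1) t).1 ht.1,
        mul_mem (mul_mem hs.2 ht.2) (inv_mem hs.2)⟩))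
    (fun q hq => Subgroup.mem_sup_right (show s * q * s⁻¹ ∈ P from
      (Subgroup.mem_normalizer_iff.1 hs.2 q).1 hq)) hx

include h hP in
/-- The subgroup above `P` is fully centralized. -/
theorem up_fc : F.IsFullyCentralized (up T P) := by
  have hUS : up T P ≤ S := (up_le h hP).trans inf_le_left
  refine ⟨hUS, fun Z hZ => ?_⟩
  obtain ⟨ψ, hψ, rfl⟩ := isConj_iff.1 hZ
  have hPU : P ≤ up T P := le_sup_right
  set P₃ := img P ψ with hP₃
  obtain ⟨hau, hre⟩ := IsSaturated.automized_receptive h.pgroup h.sat hP.normalized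
  obtain ⟨b, hb, hbP, hbN⟩ := exists_map_normalizer h.pgroup hau hre
    (isConj_symm (isConj_iff.2 ⟨ψ, hψ.mono hPU, rfl⟩) : F.IsConj P₃ P)
  have hψN : ∀ x ∈ up T P, ψ x ∈ normalizerIn S P₃ := fun x hx =>
    map_mem_normalizerIn hψ hPU hx (up_le h hP hx).2
  have hZN : img (up T P) ψ ≤ normalizerIn S P₃ := hψ.img_le_of_forall hψN
  have hcomp : IsMap F (up T P) (b ∘ ψ) := hψ.comp hb hψN
  have hle : ∀ x ∈ up T P, b (ψ x) ∈ up T P := fun x hx => hcomp.map_mem_of_sup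
    (fun t ht => Subgroup.mem_sup_left (show b (ψ t) ∈ normalizerIn T P from Subgroup.mem_inf.2
      ⟨cl_mem h.closed hcomp (Subgroup.mem_sup_left ht) ht.1,
        (hbN _ (hψN t (Subgroup.mem_sup_left ht))).2⟩))
    (fun q hq => Subgroup.mem_sup_right (show b (ψ q) ∈ P from hbP.le
      ((hb.mono (le_normalizerIn ((hψ.mono hPU).img_le))).mem_img.2
        ⟨ψ q, (hψ.mono hPU).mem_img.2 ⟨q, hq, rfl⟩, rfl⟩))) hx
  have hi : img (img (up T P) ψ) b = up T P := by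
    rw [img_img hψ]
    exact img_eq_of_map_le hUS hcomp le_rfl hle
  have hCN : centralizerIn S (img (up T P) ψ) ≤ normalizerIn S P₃ := fun z hz =>
    centralizerIn_le_normalizerIn ⟨hz.1, Subgroup.centralizer_le (hψ.img_mono hPU) hz.2⟩
  rw [← (hb.mono hCN).card_img]
  refine card_le_of_le' inf_le_left ((hb.mono hCN).img_le_of_forall fun z hz => ?_)
  have := map_mem_centralizerIn hb hZN (hCN hz) hz.2
  rwa [hi] at this

theorem Phi.one_of_mem {z : M.G} (hz : z ∈ hLoc h hP M) : Phi h hP M z 1 :=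
  ⟨(Subgroup.mem_inf.1 hz).1, 1, one_mem _, by rwa [inv_one, one_mul], id,
    LMap.id' ((up_le h hP).trans inf_le_left), fun x _ => by simp, fun x hx => hx⟩

theorem Phi.of_conj {s : Ω} (hs : s ∈ normalizerIn S P) : Phi h hP M (M.e s) (nuB h s) :=
  ⟨e_mem_hP' h hP hs, M.e s, e_mem_hP' h hP hs, by rw [inv_mul_cancel]; exact one_mem _,
    fun x => s * x * s⁻¹, LMap.conj hs.1 ((up_le h hP).trans inf_le_left),
    rz_conj h hP hs ((up_le h hP).trans (hP.nP_le h)), fun _ hx => conj_mem_up h hP hs hx⟩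

variable {h hP}

theorem Phi.mul {a b : M.G} {γ δ : Lbl h} (h1 : Phi h hP M a γ) (h2 : Phi h hP M b δ) :
    Phi h hP M (a * b) (γ * δ) := by
  obtain ⟨ha, n₁, hn₁, hl₁, k₁, lk₁, rk₁, mk₁⟩ := h1
  obtain ⟨hb, n₂, hn₂, hl₂, k₂, lk₂, rk₂, mk₂⟩ := h2
  refine ⟨mul_mem ha hb, n₁ * n₂, mul_mem hn₁ hn₂, ?_, k₁ ∘ k₂, lk₂.comp lk₁ mk₂,
    rk₂.comp rk₁ mk₂, fun x hx => mk₁ _ (mk₂ x hx)⟩
  rw [show (n₁ * n₂)⁻¹ * (a * b) = n₂⁻¹ * (n₁⁻¹ * a) * n₂⁻¹⁻¹ * (n₂⁻¹ * b) by group]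
  exact mul_mem (hLoc_conj h hP (inv_mem hn₂) hl₁) hl₂

theorem Phi.inv {a : M.G} {γ : Lbl h} (h1 : Phi h hP M a γ) : Phi h hP M a⁻¹ γ⁻¹ := by
  obtain ⟨ha, n, hn, hl, k, lk, rk, mk⟩ := h1
  obtain ⟨k', lk', -, h2⟩ := lk.exists_inv
  have hi : img (up T P) k = up T P :=
    img_eq_of_map_le ((up_le h hP).trans inf_le_left) lk.isMap le_rfl mk
  rw [hi] at lk' h2
  refine ⟨inv_mem ha, n⁻¹, inv_mem hn, ?_, k', lk', fun x hx => ?_, fun x hx => (h2 x hx).1⟩
  · rw [show n⁻¹⁻¹ * a⁻¹ = n * (n⁻¹ * a)⁻¹ * n⁻¹ by group]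
    exact hLoc_conj h hP hn (inv_mem hl)
  · have h3 := rk (k' x) (h2 x hx).1
    rw [(h2 x hx).2] at h3
    rw [h3]
    group

variable (h hP)

/-- Labels at the subgroups larger than `P`. -/
def Coh (P : Subgroup Ω) : Prop := ∀ (W : Subgroup Ω) (γ : Lbl h), Nat.card P < Nat.card W →
  F.IsFullyCentralized W → SelfC F T (W ⊓ T) → LMap h W id γ → CS h W γ

section
variable (hcoh : Coh h P)
include hcoh hnil

/-- The kernel of the action on `P`. -/
theorem phi_kernel {a : M.G} {γ : Lbl h} (ha : Phi h hP M a γ)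
    (hfix : ∀ x ∈ P, a * M.e x * a⁻¹ = M.e x) : CS h P γ := by
  haveI := M.fin
  obtain ⟨c, hc, hcl⟩ := exists_cent_mem h hnil hP hfix
  obtain ⟨-, n, hn, hnl, k, lk, rk, mk⟩ := ha
  have hUN := up_le h hP
  have hUR := hUN.trans (hP.nP_le h)
  have hcN : c ∈ normalizerIn S P := centralizerIn_le_normalizerIn hc
  have hl : n * (M.e c)⁻¹ ∈ hLoc h hP M := by
    rw [show n * (M.e c)⁻¹ = n * (n⁻¹ * a)⁻¹ * n⁻¹ * (a * (M.e c)⁻¹) by group]
    exact mul_mem (hLoc_conj h hP hn (inv_mem hnl)) hcl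
  set L := hLoc h hP M ⊓ Subgroup.normalizer (imgι M.ι (up T P) : Set M.G) with hL
  have hlN : n * (M.e c)⁻¹ ∈ Subgroup.normalizer (imgι M.ι (up T P) : Set M.G) := by
    refine conjBy_eq_iff.1 (conjBy_eq_of_le (conjBy_le_iff.2 fun z hz => ?_))
    obtain ⟨x, hx, rfl⟩ := (mem_imgι hUR).1 hz
    have hy := conj_mem_up h hP (inv_mem hcN) hx
    refine (mem_imgι hUR).2 ⟨k _, mk _ hy, ?_⟩
    show M.e (k _) = _
    rw [rk _ hy, rz_conj h hP (inv_mem hcN) hUR x hx, M.e_inv (hP.nP_le h hcN)]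
    show _ = n * (M.e c)⁻¹ * M.e x * (n * (M.e c)⁻¹)⁻¹
    group
  set Y := imgι M.ι (normalizerIn T P)
  have hYL : Y ≤ L := fun z hz => by
    refine Subgroup.mem_inf.2 ⟨?_, Subgroup.le_normalizer (imgι_mono le_sup_left hz)⟩
    obtain ⟨t, ht, rfl⟩ := (mem_imgι ((hP.nT_le h).trans (hP.nP_le h))).1 hz
    exact e_mem_h1 h hP ht
  set J := Subgroup.closure {b : M.G | b ∈ L ∧ (orderOf b).Coprime p} with hJ
  have hJL : J ≤ L := (Subgroup.closure_le _).2 fun b hb => hb.1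
  have hLJ : L ≤ Subgroup.normalizer (J : Set M.G) := by
    intro b hb
    refine conjBy_eq_iff.1 (conjBy_eq_of_le ?_)
    rw [conjBy, hJ, MonoidHom.map_closure, Subgroup.closure_le]
    rintro _ ⟨d, hd, rfl⟩
    refine Subgroup.subset_closure ⟨L.mul_mem (L.mul_mem hb hd.1) (L.inv_mem hb), ?_⟩
    show (orderOf (MulAut.conj b d)).Coprime p
    rw [MulEquiv.orderOf_eq]
    exact hd.2
  have hi : ¬ p ∣ Y.relIndex L := fun hd => not_dvd_relIndex_h1 h hP (hd.trans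
    (Dvd.intro _ (Subgroup.relIndex_mul_relIndex Y L (hLoc h hP M) hYL inf_le_left)))
  have hle := le_sup_of_pow_mem (p := p) hJL hYL hLJ hi fun b hb => by
    obtain ⟨j, hj⟩ := Components.exists_coprime_pow (p := p) b
    exact ⟨j, Subgroup.subset_closure ⟨pow_mem hb _, hj⟩⟩
  have hmem : n * (M.e c)⁻¹ ∈
      Subgroup.closure ({b : M.G | b ∈ L ∧ (orderOf b).Coprime p} ∪ Y) :=
    sup_le (Subgroup.closure_mono Set.subset_union_left)
      (fun z hz => Subgroup.subset_closure (Or.inr hz)) (hle (Subgroup.mem_inf.2 ⟨hl, hlN⟩))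
  obtain ⟨f₁, lf, rf, mf⟩ := piece_closure h hP (W := up T P) le_sup_right hUN (fun b hb => by
    have hbL : b ∈ L := hb.elim (fun hb => hb.1) (fun hb => hYL hb)
    exact ⟨(Subgroup.mem_inf.1 hbL).1, hb.imp (fun hb => hb.2) id, fun x hx =>
      (Subgroup.mem_normalizer_iff.1 (Subgroup.mem_inf.1 hbL).2 _).1 (ext1_mem_imgι hUR hx)⟩) hmem
  have hm : ∀ x ∈ up T P, c * x * c⁻¹ ∈ up T P := fun x hx => conj_mem_up h hP hcN hx
  have lk' : LMap h (up T P) (f₁ ∘ fun x => c * x * c⁻¹) (nuB h c) :=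
    one_mul (nuB h c) ▸ (LMap.conj hc.1 (hUN.trans inf_le_left)).comp lf hm
  have rk' : Rz M (up T P) (f₁ ∘ fun x => c * x * c⁻¹) n := by
    have := (rz_conj h hP hcN hUR).comp rf hm
    rwa [inv_mul_cancel_right] at this
  have hloop := lk.loop lk' (rz_ext h lk'.isMap lk.isMap hUR rk' rk)
  rw [img_eq_of_map_le (hUN.trans inf_le_left) lk.isMap le_rfl mk] at hloop
  obtain ⟨c', hc', hce⟩ := hcoh _ _ (card_lt_nT h hP) (up_fc h hP)
    (hP.selfC.mono (inf_le_inf_right _ le_sup_right) inf_le_right) hloop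
  refine ⟨c'⁻¹ * c, mul_mem (inv_mem ⟨hc'.1, Subgroup.centralizer_le (le_sup_right : P ≤ up T P) hc'.2⟩) hc, ?_⟩
  rw [nuB_mul h (inv_mem hc'.1) hc.1, nuB_inv h hc'.1, ← hce]
  group

/-- A labelled map of a larger subgroup fixing `P` is realized with its label. -/
theorem exists_phi {k : Ω → Ω} {γ : Lbl h} (hk : LMap h W k γ) (hPW : P < W)
    (hW : W ≤ normalizerIn S P) (hkP : img P k = P) :
    ∃ a : M.G, Phi h hP M a γ ∧ Rz M P k a := by
  have hex : ∀ (W' : Subgroup Ω) (f : Ω → Ω), IsMap F W' f → SelfC F T (W' ⊓ T) →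
      Nat.card P < Nat.card W' → ∃ γ : Lbl h, LMap h W' f γ :=
    fun _ _ hf _ _ => exists_lmap h hnil hf
  obtain ⟨a, ha, hr⟩ := exists_rz h hnil hP (M := M) hk.isMap hPW.le hW hkP
  obtain ⟨f₁, δ, lf, rf, hPhi⟩ := exists_ld h hP hex ha hPW.le hW fun x hx => by
    rw [← hr x hx]; exact ext1_mem_range _ _
  have hWR := hW.trans (hP.nP_le h)
  have he := rz_ext h hk.isMap lf.isMap hWR hr rf
  have hloop := lf.loop hk he
  set W' := img W f₁ with hW'
  have hkk : img W k = W' := IsMap.img_congr he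
  have hW'N : W' ≤ normalizerIn S P := hkk.ge.trans (hk.isMap.img_le_of_forall fun x hx => by
    have := map_mem_normalizerIn hk.isMap hPW.le hx (hW hx).2
    rwa [hkP] at this)
  have hPW' : P ≤ W' := (hkP.ge.trans (hk.isMap.img_mono hPW.le)).trans hkk.le
  have hcard : Nat.card P < Nat.card W' := by
    rw [hW', lf.isMap.card_img]
    exact card_lt_of_lt (hW.trans inf_le_left) hPW
  -- a fully centralized image of `W'`
  set s := {n : ℕ | ∃ θ, IsMap F W' θ ∧ img P θ = P ∧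
    n = Nat.card (centralizerIn S (img W' θ))} with hs
  have hne : s.Nonempty :=
    ⟨_, id, isMap_id (hW'N.trans inf_le_left), img_id, rfl⟩
  have hbdd : BddAbove s := ⟨Nat.card S, by
    rintro _ ⟨θ, -, -, rfl⟩
    exact card_le_of_le' le_rfl inf_le_left⟩
  obtain ⟨θ, hθ, hθP, hθn⟩ := Nat.sSup_mem hne hbdd
  set W'' := img W' θ with hW''
  have hW''N : W'' ≤ normalizerIn S P := hθ.img_le_of_forall fun x hx => by
    have := map_mem_normalizerIn hθ hPW' hx (hW'N hx).2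
    rwa [hθP] at this
  have hPW'' : P ≤ W'' := hθP.ge.trans (hθ.img_mono hPW')
  have hfc : F.IsFullyCentralized W'' := by
    refine ⟨hθ.img_le, fun Z hZ => ?_⟩
    obtain ⟨ψ, hψ, rfl⟩ := isConj_iff.1 hZ
    obtain ⟨hau, hre⟩ := IsSaturated.automized_receptive h.pgroup h.sat hP.normalized
    obtain ⟨b, hb, hbP, -⟩ := exists_map_normalizer h.pgroup hau hre
      (isConj_symm (isConj_iff.2 ⟨ψ, hψ.mono hPW'', rfl⟩) : F.IsConj (img P ψ) P)
    have hψN : ∀ x ∈ W'', ψ x ∈ normalizerIn S (img P ψ) := fun x hx =>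
      map_mem_normalizerIn hψ hPW'' hx (hW''N hx).2
    have hm1 : ∀ x ∈ W', θ x ∈ W'' := fun x hx => hθ.mem_img.2 ⟨x, hx, rfl⟩
    have hc1 : IsMap F W'' (b ∘ ψ) := hψ.comp hb hψN
    have hθ₂ : IsMap F W' ((b ∘ ψ) ∘ θ) := hθ.comp hc1 hm1
    have hP₂ : img P ((b ∘ ψ) ∘ θ) = P := by
      rw [← img_img (hθ.mono hPW'), hθP, ← img_img (hψ.mono hPW''), hbP]
    have hle : Nat.card (centralizerIn S (img W' ((b ∘ ψ) ∘ θ))) ≤ sSup s :=
      le_csSup hbdd ⟨_, hθ₂, hP₂, rfl⟩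
    rw [← hθn]
    refine le_trans ?_ hle
    rw [← img_img hθ, ← img_img hψ]
    have hCN : centralizerIn S (img W'' ψ) ≤ normalizerIn S (img P ψ) := fun z hz =>
      centralizerIn_le_normalizerIn ⟨hz.1, Subgroup.centralizer_le (hψ.img_mono hPW'') hz.2⟩
    rw [← (hb.mono hCN).card_img]
    exact card_le_of_le' inf_le_left ((hb.mono hCN).img_le_of_forall fun z hz =>
      map_mem_centralizerIn hb (hψ.img_le_of_forall hψN) (hCN hz) hz.2)
  obtain ⟨b, hb, hbr⟩ := exists_rz h hnil hP (M := M) hθ hPW' hW'N hθP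
  obtain ⟨fθ, ν, lθ, rθ, hPhiθ⟩ := exists_ld h hP hex hb hPW' hW'N fun x hx => by
    rw [← hbr x hx]; exact ext1_mem_range _ _
  have hW'R := hW'N.trans (hP.nP_le h)
  have lθ' := lθ.congr (rz_ext h hθ lθ.isMap hW'R hbr rθ)
  obtain ⟨θi, lθi, -, hθi⟩ := lθ'.exists_inv
  have hid := ((lθi.comp hloop fun y hy => (hθi y hy).1).comp lθ'
    fun y hy => (hθi y hy).1).congr (g := id) fun y hy => (hθi y hy).2.symm
  obtain ⟨c, hc, hce⟩ := hcoh _ _ (by rw [hW'', hθ.card_img]; exact hcard) hfc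
    (hP.selfC.mono (inf_le_inf_right _ hPW'') inf_le_right) hid
  have hcN : c ∈ normalizerIn S P :=
    centralizerIn_le_normalizerIn ⟨hc.1, Subgroup.centralizer_le hPW'' hc.2⟩
  refine ⟨b⁻¹ * M.e c * b * a, ?_, fun x hx => ?_⟩
  · have hh := (((hPhiθ.inv).mul (Phi.of_conj h hP (M := M) hcN)).mul hPhiθ).mul hPhi
    rwa [← hce, show ν⁻¹ * (ν * (γ * δ⁻¹ * ν⁻¹)) * ν * δ = γ by group] at hh
  · have hkx : k x ∈ P := mem_of_img_eq hk.isMap hPW.le hkP hx
    have h1 := hbr (k x) (hPW' hkx)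
    have hy : θ (k x) ∈ P := mem_of_img_eq hθ hPW' hθP hkx
    have h2 := rz_conj (M := M) h hP hcN (hP.le_nR h) (θ (k x)) hy
    have h3 : c * θ (k x) * c⁻¹ = θ (k x) := by
      rw [← Subgroup.mem_centralizer_iff.1 hc.2 _ (hPW'' hy), mul_inv_cancel_right]
    simp only [h3] at h2
    rw [show b⁻¹ * M.e c * b * a * M.e x * (b⁻¹ * M.e c * b * a)⁻¹ =
      b⁻¹ * (M.e c * (b * (a * M.e x * a⁻¹) * b⁻¹) * (M.e c)⁻¹) * b by group,
      ← hr x (hPW.le hx), ← h1, ← h2, h1]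
    group

end

/-- A labelled trivialization of a conjugate of `P`. -/
def Tr (P Q : Subgroup Ω) (φ : Ω → Ω) (c : Lbl h) : Prop :=
  LMap h (normalizerIn S Q) φ c ∧ img Q φ = P

/-- The map `f` on the conjugates of `P` below `P'` is realized with the label `γ`. -/
def Claim (M : LModel F p (P ⊓ T)) (P' : Subgroup Ω) (f : Ω → Ω) (γ : Lbl h) : Prop :=
  ∀ Q ≤ P', F.IsConj Q P → ∀ (φ : Ω → Ω) (c : Lbl h) (ψ : Ω → Ω) (d : Lbl h), Tr h P Q φ c →
    Tr h P (img Q f) ψ d →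
      ∃ a : M.G, Phi h hP M a (d * γ * c⁻¹) ∧ ∀ x ∈ Q, M.e (ψ (f x)) = a * M.e (φ x) * a⁻¹

include h hP in
theorem not_le_of_conj (hQ : F.IsConj Q P) : ¬ T ≤ Q := fun hle => by
  obtain ⟨f, hf, rfl⟩ := isConj_iff.1 hQ
  have hT : img T f = T := img_eq_of_map_le h.hTS (hf.mono hle) le_rfl
    fun x hx => cl_mem h.closed (hf.mono hle) hx hx
  exact hP.proper (hT.ge.trans (hf.img_mono hle))

include hnil hP in
theorem exists_tr (hQ : F.IsConj Q P) : ∃ φ c, Tr h P Q φ c := by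
  obtain ⟨hau, hre⟩ := IsSaturated.automized_receptive h.pgroup h.sat hP.normalized
  obtain ⟨φ, hφ, hφQ, -⟩ := exists_map_normalizer h.pgroup hau hre hQ
  obtain ⟨c, hc⟩ := exists_lmap h hnil hφ
  exact ⟨φ, c, hc, hφQ⟩

section
variable (hcoh : Coh h P)
include hcoh hnil

theorem claim_lt {P' : Subgroup Ω} {γ : Lbl h} (hf : LMap h P' f γ) (hQP : Q < P')
    {φ : Ω → Ω} {c : Lbl h} {ψ : Ω → Ω} {d : Lbl h} (hφ : Tr h P Q φ c)
    (hψ : Tr h P (img Q f) ψ d) :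
    ∃ a : M.G, Phi h hP M a (d * γ * c⁻¹) ∧ ∀ x ∈ Q, M.e (ψ (f x)) = a * M.e (φ x) * a⁻¹ := by
  obtain ⟨lφ, hφQ⟩ := hφ
  obtain ⟨lψ, hψQ⟩ := hψ
  have hP'S := hf.isMap.le
  haveI := finite_of_le hP'S
  set W₀ := normalizerIn P' Q with hW₀
  have hQW : Q < W₀ := lt_normalizerIn (h.pgroup.to_le hP'S) hQP.le hQP.ne
  have hW₀N : W₀ ≤ normalizerIn S Q := inf_le_inf_right _ hP'S
  have lφ₀ := lφ.mono hW₀N
  obtain ⟨φi, lφi, hφ1, hφ2⟩ := lφ₀.exists_inv
  set W₁ := img W₀ φ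
  have hW₁N : W₁ ≤ normalizerIn S P := lφ₀.isMap.img_le_of_forall fun x hx => by
    have := map_mem_normalizerIn lφ₀.isMap hQW.le hx hx.2
    rwa [hφQ] at this
  have hfN : ∀ x ∈ W₀, f x ∈ normalizerIn S (img Q f) := fun x hx =>
    map_mem_normalizerIn hf.isMap hQP.le hx.1 hx.2
  have hk : LMap h W₁ (ψ ∘ f ∘ φi) (d * (γ * c⁻¹)) :=
    (lφi.comp (hf.mono inf_le_left) fun y hy => (hφ2 y hy).1).comp lψ
      fun y hy => hfN _ (hφ2 y hy).1
  have hPW₁ : P ≤ W₁ := hφQ.ge.trans (lφ₀.isMap.img_mono hQW.le)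
  have hlt : P < W₁ := lt_of_le_of_ne hPW₁ fun e => by
    have h1 : Nat.card W₀ = Nat.card Q := by
      rw [← lφ₀.isMap.card_img, show img W₀ φ = P from e.symm, ← hφQ,
        (lφ₀.isMap.mono hQW.le).card_img]
    exact (card_lt_of_lt (inf_le_left.trans hP'S) hQW).ne' h1
  have hkey : ∀ x ∈ Q, (ψ ∘ f ∘ φi) (φ x) = ψ (f x) := fun x hx => by
    show ψ (f (φi (φ x))) = _
    rw [hφ1 x (hQW.le hx)]
  have hkP : img P (ψ ∘ f ∘ φi) = P := img_eq_of_map_le hP.normalized.1 hk.isMap hPW₁ fun y hy => by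
    obtain ⟨x, hx, rfl⟩ := (lφ₀.isMap.mono hQW.le).mem_img.1 (hφQ.ge hy)
    rw [hkey x hx]
    exact hψQ.le ((lψ.isMap.mono (le_normalizerIn (hf.isMap.mono hQP.le).img_le)).mem_img.2
      ⟨f x, (hf.isMap.mono hQP.le).mem_img.2 ⟨x, hx, rfl⟩, rfl⟩)
  obtain ⟨a, ha, har⟩ := exists_phi h hnil hP hcoh (M := M) hk hlt hW₁N hkP
  refine ⟨a, by rwa [mul_assoc], fun x hx => ?_⟩
  rw [← hkey x hx]
  exact har _ (hφQ.le ((lφ₀.isMap.mono hQW.le).mem_img.2 ⟨x, hx, rfl⟩))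

include hE in
theorem claim {P' : Subgroup Ω} {γ : Lbl h} (hf : LMap h P' f γ) : Claim h hP M P' f γ := by
  induction hf with
  | @top P' f α hα hTP hf he =>
    intro Q hQ hQc φ c ψ d hφ hψ
    refine claim_lt h hnil hP hcoh (LMap.top hα hTP hf he) (lt_of_le_of_ne hQ ?_) hφ hψ
    exact fun e => not_le_of_conj h hP hQc (e ▸ hTP)
  | @good Q' a hQ'S ha hs hco =>
    intro Q hQ hQc φ c ψ d hφ hψ
    rcases lt_or_eq_of_le hQ with hlt | rfl
    · exact claim_lt h hnil hP hcoh (LMap.good hQ'S ha hs hco) hlt hφ hψ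
    rw [img_autFun] at hψ
    have hQN := le_normalizerIn (S := S) hQ'S
    have hlt : Q < normalizerIn S Q :=
      lt_normalizerIn h.pgroup hQ'S fun e => not_le_of_conj h hP hQc (e ▸ h.hTS)
    obtain ⟨a₁, ha₁, ha₁e⟩ := claim_lt h hnil hP hcoh (LMap.id' (h := h) inf_le_left) hlt
      hφ (f := id) (by rwa [img_id])
    obtain ⟨b, hb, hbe, hbo⟩ :=
      Product.exists_aSub_transport (hφ.1.isMap.mono hQN) hφ.2 ha
    obtain ⟨z, hz, hze⟩ := Product.exists_lift_eq h hE M hP.inner hP.selfC (hP.le_nR h) rfl hb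
      (by rwa [hbo])
    have hzP : z ∈ hP' M := mem_hP' h hP fun x hx => by
      rw [← hze x hx]; exact ext1_mem_imgι (hP.le_nR h) (autFun_mem b hx)
    refine ⟨a₁ * z, ?_, fun x hx => ?_⟩
    · have := ha₁.mul (Phi.one_of_mem h hP (Subgroup.mem_inf.2 ⟨hzP, hz⟩))
      rwa [mul_one] at this
    · have hφx : φ x ∈ P := hφ.2.le ((hφ.1.isMap.mono hQN).mem_img.2 ⟨x, hx, rfl⟩)
      have h1 := ha₁e (autFun a x) (autFun_mem a hx)
      rw [← hbe x hx, hze _ hφx] at h1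
      show M.e (ψ (autFun a x)) = _
      rw [show M.e (ψ (autFun a x)) = _ from h1]
      group
  | mono _ hR ih => exact fun Q hQ => ih Q (hQ.trans hR)
  | @congr P' f f₂ γ hf he ih =>
    intro Q hQ hQc φ c ψ d hφ hψ
    rw [IsMap.img_congr fun x hx => he x (hQ hx)] at hψ
    obtain ⟨a, ha, hae⟩ := ih Q hQ hQc φ c ψ d hφ hψ
    exact ⟨a, ha, fun x hx => by rw [he x (hQ hx)]; exact hae x hx⟩
  | @comp P' R f f₂ γ δ hf hg hm ih1 ih2 =>
    intro Q hQ hQc φ c ψ d hφ hψ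
    have hfQ := hf.isMap.mono hQ
    have hQ₂ : img Q f ≤ R := hfQ.img_le_of_forall fun x hx => hm x (hQ hx)
    have hc₂ : F.IsConj (img Q f) P :=
      isConj_trans (isConj_symm (isConj_iff.2 ⟨f, hfQ, rfl⟩)) hQc
    obtain ⟨φ', c', hφ'⟩ := exists_tr h hnil hP hc₂
    rw [← img_img hfQ] at hψ
    obtain ⟨a₁, ha₁, he₁⟩ := ih1 Q hQ hQc φ c φ' c' hφ hφ'
    obtain ⟨a₂, ha₂, he₂⟩ := ih2 (img Q f) hQ₂ hc₂ φ' c' ψ d hφ' hψ
    refine ⟨a₂ * a₁, ?_, fun x hx => ?_⟩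
    · have := ha₂.mul ha₁
      rwa [show d * δ * c'⁻¹ * (c' * γ * c⁻¹) = d * (δ * γ) * c⁻¹ by group] at this
    · show M.e (ψ (f₂ (f x))) = _
      rw [he₂ (f x) (hfQ.mem_img.2 ⟨x, hx, rfl⟩), he₁ x hx]
      group

end

include hE hnil in
/-- Two labels differ by the label of an element of the centralizer. -/
theorem coherence {γ : Lbl h} (hid : LMap h P id γ) (hfc : F.IsFullyCentralized P)
    (hs : SelfC F T (P ⊓ T)) : CS h P γ := by
  induction hk : Nat.card S - Nat.card P using Nat.strong_induction_on generalizing P γ with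
  | _ n ih =>
  subst hk
  by_cases hT : T ≤ P
  · rw [hid.label_eq hT 1 (one_mem _) fun x hx => (autFun_one hx).symm,
      (lab_eq_one_iff h _).2 (one_mem _)]
    exact CS.one h P
  obtain ⟨f₀, hf₀, hn₁, hn₂⟩ := Product.exists_both_normalized h hfc.1
  set P₀ := img P f₀ with hP₀
  have hc : F.IsConj P P₀ := isConj_iff.2 ⟨f₀, hf₀, rfl⟩
  have hRep : Rep F T P₀ := ⟨hn₁, hn₂,
    by rw [hP₀, img_inf_T h hf₀]; exact hs.map h.closed (hf₀.mono inf_le_left), fun hle => by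
      obtain ⟨f', hf', h1, h2⟩ := hf₀.exists_inv
      have hT' : img T f' = T := img_eq_of_map_le h.hTS (hf'.mono hle) le_rfl
        fun x hx => cl_mem h.closed (hf'.mono hle) hx hx
      exact hT (hT'.ge.trans ((hf'.mono hle).img_le_of_forall fun x hx => (h2 x (hle hx)).1))⟩
  have hPc : Nat.card P₀ = Nat.card P := hf₀.card_img
  have hcoh : Coh h P₀ := fun W δ hW hWfc hWs hWid => ih _ (by
    have := card_le_of_le' le_rfl hWfc.1
    omega) hWid hWfc hWs rfl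
  obtain ⟨M⟩ := exists_lModel h.pgroup h.sat hn₂
  obtain ⟨φ, c, hφ⟩ := exists_tr h hnil hRep hc
  obtain ⟨a, ha, hae⟩ := claim h hE hnil hRep hcoh (M := M) hid P le_rfl hc φ c φ c hφ
    (by rwa [img_id])
  have hφP := hφ.1.isMap.mono (le_normalizerIn hfc.1)
  obtain ⟨c₀, hc₀, hce⟩ := phi_kernel h hnil hRep hcoh ha fun y hy => by
    obtain ⟨x, hx, rfl⟩ := hφP.mem_img.1 (hφ.2.ge hy)
    exact (hae x hx).symm
  have hCN : centralizerIn S P ≤ normalizerIn S P := fun z hz => centralizerIn_le_normalizerIn hz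
  have hle : img (centralizerIn S P) φ ≤ centralizerIn S P₀ :=
    (hφ.1.isMap.mono hCN).img_le_of_forall fun z hz => by
      have := map_mem_centralizerIn hφ.1.isMap (le_normalizerIn hfc.1) (hCN hz) hz.2
      rwa [hφ.2] at this
  have heq := eq_of_le_of_card_le inf_le_left hle
    ((hfc.2 P₀ hc).trans (hφ.1.isMap.mono hCN).card_img.ge)
  obtain ⟨c₁, hc₁, rfl⟩ := (hφ.1.isMap.mono hCN).mem_img.1 (heq.ge hc₀)
  refine ⟨c₁, hc₁, ?_⟩
  rw [hφ.1.twist c₁ (hCN hc₁)] at hce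
  exact mul_left_cancel (mul_right_cancel hce)

end CfsgLib.Fusion.Balance
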