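import Cfsg.Agent.Lib.Fusion.Balance.Piece

/-!
# Every map has a label
-/

set_option autoImplicit false
set_option maxHeartbeats 1000000
set_option linter.style.haveILetI false
set_option linter.unusedSectionVars false

open Subgroup
open scoped Classical Pointwise

namespace CfsgLib.Fusion.Balance

open Cfsg (FusionSystem autInducedBy)
open Cfsg.FusionSystem (normalizerIn centralizerIn preimageAlong)
open CfsgLib.Fusion CfsgLib.Fusion.CentLift CfsgLib.Fusion.Meet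

universe u

variable {Ω : Type u} [Group Ω] {S T : Subgroup Ω} {F : FusionSystem S} {E : FusionSystem T}
  {p : ℕ} [Finite S] [Fact p.Prime] {P Q R W D : Subgroup Ω} {f g : Ω → Ω}
  (h : Setup F p E E T) (hnil : Nil F T p)

include h in
/-- A realized map goes into `N_S(P ∩ T)`. -/
theorem rz_mem {M : LModel F p (P ⊓ T)} {a : M.G} (hf : IsMap F W f)
    (hW : W ≤ normalizerIn S (P ⊓ T)) (hr : Rz M W f a) {x : Ω} (hx : x ∈ W) :
    f x ∈ normalizerIn S (P ⊓ T) := by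
  by_contra hc
  have h1 : M.e (f x) = 1 := dif_neg hc
  rw [hr x hx] at h1
  have h2 : M.e x = 1 := by simpa using h1
  have hx1 : x = 1 := M.inj (hW hx) (one_mem _) (h2.trans (by
    rw [show M.e 1 = ext1 M.ι 1 from rfl, ext1_apply M.ι (one_mem _)]; exact (map_one _).symm))
  subst hx1
  rw [hf.map_one] at hc
  exact hc (one_mem _)

include h in
theorem rz_ext {M : LModel F p (P ⊓ T)} {a : M.G} {f' : Ω → Ω} (hf : IsMap F W f)
    (hf' : IsMap F W f') (hW : W ≤ normalizerIn S (P ⊓ T)) (hr : Rz M W f a)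
    (hr' : Rz M W f' a) : ∀ x ∈ W, f x = f' x := fun x hx =>
  M.inj (rz_mem h hf hW hr hx) (rz_mem h hf' hW hr' hx) ((hr x hx).trans (hr' x hx).symm)

include hnil in
/-- Every map on `P` with `P ∩ T` self-centralizing in `T` has a label. -/
theorem exists_lmap_selfC (hf : IsMap F P f) (hP : SelfC F T (P ⊓ T)) :
    ∃ γ, LMap h P f γ := by
  induction hk : Nat.card S - Nat.card P using Nat.strong_induction_on generalizing P f with
  | _ n ih =>
  subst hk
  by_cases hT : T ≤ P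
  · have hfT := hf.mono hT
    have hi : img T f = T := img_eq_of_map_le h.hTS hfT le_rfl
      fun x hx => cl_mem h.closed hfT hx hx
    exact ⟨_, LMap.top (autOf_mem hfT hi) hT hf fun x hx => (autFun_autOf hfT hi hx).symm⟩
  obtain ⟨f₀, hf₀, hn₁, hn₂⟩ := Product.exists_both_normalized h hf.le
  set P₀ := img P f₀ with hP₀
  have hPc : Nat.card P₀ = Nat.card P := hf₀.card_img
  have hPs : SelfC F T (P₀ ⊓ T) := by
    rw [hP₀, img_inf_T h hf₀]; exact hP.map h.closed (hf₀.mono inf_le_left)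
  have hT₀ : ¬ T ≤ P₀ := fun hle => by
    obtain ⟨f', hf', h1, h2⟩ := hf₀.exists_inv
    have hT' : img T f' = T := img_eq_of_map_le h.hTS (hf'.mono hle) le_rfl
      fun x hx => cl_mem h.closed (hf'.mono hle) hx hx
    exact hT (hT'.ge.trans ((hf'.mono hle).img_le_of_forall fun x hx => (h2 x (hle hx)).1))
  have hRep : Rep F T P₀ := ⟨hn₁, hn₂, hPs, hT₀⟩
  obtain ⟨hau, hre⟩ := IsSaturated.automized_receptive h.pgroup h.sat hn₁
  obtain ⟨φ, hφ, hφQ, hφN⟩ := exists_map_normalizer h.pgroup hau hre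
    (isConj_iff.2 ⟨f₀, hf₀, rfl⟩ : F.IsConj P P₀)
  obtain ⟨φ', hφ', hφ'Q, -⟩ := exists_map_normalizer h.pgroup hau hre
    (isConj_trans (isConj_symm (isConj_iff.2 ⟨f, hf, rfl⟩)) (isConj_iff.2 ⟨f₀, hf₀, rfl⟩) :
      F.IsConj (img P f) P₀)
  have hPN : P ≤ normalizerIn S P := le_normalizerIn hf.le
  have hfN : img P f ≤ normalizerIn S (img P f) := le_normalizerIn hf.img_le
  have hbig : ∀ {W : Subgroup Ω} {b : Ω → Ω}, IsMap F W b → SelfC F T (W ⊓ T) →
      Nat.card P < Nat.card W → ∃ γ, LMap h W b γ := fun {W b} hb hW hc => ih _ (by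
    have := card_le_of_le' le_rfl hb.le
    omega) hb hW rfl
  have hlt : ∀ {P' : Subgroup Ω}, P' ≤ S → ¬ T ≤ P' →
      Nat.card P' < Nat.card (normalizerIn S P') := fun {P'} hS' hT' =>
    card_lt_of_lt inf_le_left
      (lt_normalizerIn h.pgroup hS' fun e => hT' (e ▸ h.hTS))
  have hfT' : ¬ T ≤ img P f := fun hle => by
    obtain ⟨f', hf', h1, h2⟩ := hf.exists_inv
    have hT' : img T f' = T := img_eq_of_map_le h.hTS (hf'.mono hle) le_rfl
      fun x hx => cl_mem h.closed (hf'.mono hle) hx hx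
    exact hT (hT'.ge.trans ((hf'.mono hle).img_le_of_forall fun x hx => (h2 x (hle hx)).1))
  have hPfs : SelfC F T (img P f ⊓ T) := by
    rw [img_inf_T h hf]; exact hP.map h.closed (hf.mono inf_le_left)
  obtain ⟨c, hc⟩ := hbig hφ (hP.mono (inf_le_inf_right _ hPN) inf_le_right) (hlt hf.le hT)
  obtain ⟨c', hc'⟩ := hbig hφ' (hPfs.mono (inf_le_inf_right _ hfN) inf_le_right)
    (hf.card_img ▸ hlt hf.img_le hfT')
  obtain ⟨φi, hφi, hφi1, hφi2⟩ := (hc.mono hPN).exists_inv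
  rw [hφQ] at hφi hφi2
  have hmf : ∀ x ∈ P, f x ∈ img P f := fun x hx => hf.mem_img.2 ⟨x, hx, rfl⟩
  have hφ'P := hc'.mono hfN
  have hm : ∀ x ∈ P, φ' (f x) ∈ P₀ := fun x hx =>
    hφ'Q.le (hφ'P.isMap.mem_img.2 ⟨f x, hmf x hx, rfl⟩)
  have ha0 : IsMap F P₀ (φ' ∘ f ∘ φi) :=
    (hφi.isMap.comp hf fun y hy => (hφi2 y hy).1).comp hφ'P.isMap
      fun y hy => hmf _ (hφi2 y hy).1
  have hai : img P₀ (φ' ∘ f ∘ φi) = P₀ :=
    img_eq_of_map_le hn₁.1 ha0 le_rfl fun y hy => hm _ (hφi2 y hy).1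
  obtain ⟨M⟩ := exists_lModel h.pgroup h.sat hn₂
  have hP₀N := le_normalizerIn (S := S) hn₁.1
  obtain ⟨z, hz, hzr⟩ := exists_rz h hnil hRep (M := M) ha0 le_rfl hP₀N hai
  obtain ⟨b, μ, hb, hbr, -⟩ := exists_ld h hRep
    (fun W' b hb hW hc => hbig hb hW (hPc ▸ hc)) hz le_rfl hP₀N (fun x hx => by
      rw [← hzr x hx]; exact ext1_mem_range _ _)
  have hba := rz_ext h hb.isMap ha0 (hRep.le_nR h) hbr hzr
  have hφm : ∀ x ∈ P, φ x ∈ P₀ := fun x hx =>
    hφQ.le ((hc.mono hPN).isMap.mem_img.2 ⟨x, hx, rfl⟩)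
  obtain ⟨φ'i, hφ'i, hφ'i1, -⟩ := hφ'P.exists_inv
  rw [hφ'Q] at hφ'i
  have hak := (hc.mono hPN).comp hb hφm
  refine ⟨_, (hak.comp hφ'i fun x hx => ?_).congr fun x hx => ?_⟩
  · show b (φ x) ∈ P₀
    rw [hba _ (hφm x hx)]
    exact hai.le (ha0.mem_img.2 ⟨φ x, hφm x hx, rfl⟩)
  show f x = φ'i (b (φ x))
  rw [hba _ (hφm x hx)]
  show f x = φ'i (φ' (f (φi (φ x))))
  rw [hφi1 x hx, hφ'i1 _ (hmf x hx)]

include h in
/-- An essential subgroup meets `T` in a self-centralizing subgroup. -/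
theorem selfC_of_essential (hR : F.IsEssential p R) : SelfC F T (R ⊓ T) := by
  have hRS : R ≤ S := hR.1.1
  by_contra hns
  obtain ⟨Q, hRQ, n, hn, hnQ⟩ := SubsystemCentric.exists_inO_of_not_centric h.pgroup h.sat
    h.closed (fullSys_sub h) hRS fun hc => hns (selfC_of_isCentric h hc)
  obtain ⟨hau, hre⟩ := IsSaturated.automized_receptive h.pgroup h.sat hR.2.1
  obtain ⟨g, hg, hgR, -⟩ := exists_map_normalizer h.pgroup hau hre (isConj_symm hRQ)
  have hnN := FamilySat.rSub_le hn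
  have hO := (FamilySat.mem_rSub.1 hn).2.map hg (le_normalizerIn (isConj_le hRQ).2) hnN
  rw [hgR] at hO
  obtain ⟨a, ha, hae⟩ := hO
  have ha' : a ∈ autInducedBy R R := by
    rw [← inn_eq_autInducedBy, ← (isRadical_of_isEssential h.pgroup hR).2]
    exact ha
  obtain ⟨r, hr, hre'⟩ := mem_autInducedBy_iff.1 ha'
  have hgn : g n ∈ S := hg.mem_S hnN
  have hc : r⁻¹ * g n ∈ centralizerIn S R := by
    refine ⟨S.mul_mem (S.inv_mem (hRS hr)) hgn, Subgroup.mem_centralizer_iff.2 fun x hx => ?_⟩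
    have h1 := (hre' x hx).symm.trans (hae x hx)
    calc x * (r⁻¹ * g n) = r⁻¹ * (r * x * r⁻¹) * g n := by group
      _ = r⁻¹ * g n * x := by rw [h1]; group
  have hgnR : g n ∈ R := by
    have := R.mul_mem hr (centralizerIn_le_of_isCentric hR.1 hc)
    rwa [mul_inv_cancel_left] at this
  refine hnQ (hg.mem_of_mem_img (le_normalizerIn (isConj_le hRQ).2) hnN ?_)
  rw [hgR]; exact hgnR

include hnil in
/-- Every map has a label. -/
theorem exists_lmap (hf : IsMap F P f) : ∃ γ, LMap h P f γ := by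
  let EL : FusionSystem S := mkSystem F S (fun P f => ∃ γ, LMap h P f γ)
    (fun P f ⟨γ, hf⟩ => ⟨hf.isMap, hf.isMap.le, fun x hx => hf.isMap.mem_S hx⟩)
    (fun P f g ⟨γ, hl⟩ he => ⟨γ, hl.congr he⟩)
    (fun P t hP ht => ⟨_, LMap.conj ht hP⟩)
    (fun P R f g ⟨γ, hl⟩ ⟨δ, hl'⟩ hm => ⟨_, hl.comp hl' hm⟩)
    (fun P f f' ⟨γ, hl⟩ hf' he => by
      obtain ⟨k, hk, hk1, hk2⟩ := hl.exists_inv
      refine ⟨_, hk.congr fun y hy => ?_⟩
      obtain ⟨x, hx, rfl⟩ := hl.isMap.mem_img.1 hy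
      rw [he x hx, hk1 x hx])
  have key : IsMap EL P f := by
    refine isMap_of_autGroup_le h.pgroup h.sat (fun R hR α hα => ?_) hf
    have hRS : R ≤ S := hR.elim (fun e => e.le) fun hR => hR.1.1
    have hs : SelfC F T (R ⊓ T) := by
      rcases hR with rfl | hR
      · rw [inf_eq_right.2 h.hTS]; exact selfC_T h
      exact selfC_of_essential h hR
    exact (mem_autGroup_iff hRS).2 ((isMap_mkSystem_iff _).2
      (exists_lmap_selfC h hnil ((mem_autGroup_iff hRS).1 hα) hs))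
  exact (isMap_mkSystem_iff _).1 key

end CfsgLib.Fusion.Balance
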