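import Cfsg.Agent.Lib.Fusion.Balance.Nil
import Cfsg.Agent.Lib.Fusion.System.Meet.ProductLift

/-!
# Labels of maps in `Aut_F(T) / Aut_E(T)`

`LMap h P f γ`: the map `f` on `P` is a composite of restrictions of maps defined over `T`, labelled
by their classes in `Aut_F(T) / Aut_E(T)`, and of automorphisms of order prime to `p` moving a
subgroup `Q` inside `T` and restricting to maps of `E` on `Q ∩ T`, labelled `1`. The twist
`nuB (f x) = γ * nuB x * γ⁻¹` is exact.
-/

set_option autoImplicit false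
set_option maxHeartbeats 1000000
set_option linter.style.haveILetI false
set_option linter.unusedSectionVars false

open Subgroup
open scoped Classical Pointwise

namespace CfsgLib.Fusion.Balance

open Cfsg (FusionSystem autInducedBy)
open Cfsg.FusionSystem (normalizerIn centralizerIn)
open CfsgLib.Fusion CfsgLib.Fusion.CentLift CfsgLib.Fusion.Meet

universe u

variable {Ω : Type u} [Group Ω] {S T : Subgroup Ω} {F : FusionSystem S} {E : FusionSystem T}
  {p : ℕ} [Finite S] [Fact p.Prime] (h : Setup F p E E T) {P Q R W : Subgroup Ω} {f g : Ω → Ω}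

/-- `Aut_E(T)` inside `Aut_F(T)`. -/
def eSub (_h : Setup F p E E T) : Subgroup (F.autGroup T) :=
  (E.autGroup T).subgroupOf (F.autGroup T)

instance eSub_normal : (eSub h).Normal :=
  ⟨fun b hb a => conj_mem_autGroup h.side₁ le_rfl a.2 hb⟩

/-- The group of labels. -/
abbrev Lbl : Type u := F.autGroup T ⧸ eSub h

/-- The label of an automorphism of `T`. -/
def lab {α : MulAut T} (hα : α ∈ F.autGroup T) : Lbl h := QuotientGroup.mk ⟨α, hα⟩

theorem lab_eq_one_iff {α : MulAut T} (hα : α ∈ F.autGroup T) :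
    lab h hα = 1 ↔ α ∈ E.autGroup T := QuotientGroup.eq_one_iff _

theorem lab_mul {α β : MulAut T} (hα : α ∈ F.autGroup T) (hβ : β ∈ F.autGroup T) :
    lab h (mul_mem hα hβ) = lab h hα * lab h hβ := rfl

theorem lab_inv {α : MulAut T} (hα : α ∈ F.autGroup T) :
    lab h (inv_mem hα) = (lab h hα)⁻¹ := rfl

theorem lab_congr {α β : MulAut T} (hα : α ∈ F.autGroup T) (hβ : β ∈ F.autGroup T)
    (he : ∀ x ∈ T, autFun α x = autFun β x) : lab h hα = lab h hβ := by
  obtain rfl : α = β := autFun_ext he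
  rfl

theorem lab_surj (γ : Lbl h) : ∃ α, ∃ hα : α ∈ F.autGroup T, lab h hα = γ := by
  obtain ⟨⟨α, hα⟩, rfl⟩ := QuotientGroup.mk_surjective γ
  exact ⟨α, hα, rfl⟩

instance : Finite (Lbl h) := by
  haveI := finite_of_le h.hTS
  haveI := finite_mulAut (P := T)
  exact Finite.of_surjective _ QuotientGroup.mk_surjective

/-- The label of an element of `S`. -/
noncomputable def nuB (s : Ω) : Lbl h := lab h (nu_mem h s)

theorem nuB_one : nuB h 1 = 1 := by
  refine (lab_eq_one_iff h _).2 ?_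
  rw [nu_one h]
  exact one_mem _

theorem nuB_mul {s t : Ω} (hs : s ∈ S) (ht : t ∈ S) : nuB h (s * t) = nuB h s * nuB h t :=
  congrArg (QuotientGroup.mk (s := eSub h)) (Subtype.ext (nu_mul h hs ht))

theorem nuB_inv {s : Ω} (hs : s ∈ S) : nuB h s⁻¹ = (nuB h s)⁻¹ :=
  eq_inv_of_mul_eq_one_left (by rw [← nuB_mul h (inv_mem hs) hs, inv_mul_cancel, nuB_one])

theorem nuB_of_T {t : Ω} (ht : t ∈ T) : nuB h t = 1 :=
  (lab_eq_one_iff h _).2 ((mem_autGroup_iff le_rfl).2
    ((isMap_conj le_rfl ht).congr fun x hx => autFun_nu h (h.hTS ht) hx))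

theorem nuB_mul_T {s t : Ω} (hs : s ∈ S) (ht : t ∈ T) : nuB h (s * t) = nuB h s := by
  rw [nuB_mul h hs (h.hTS ht), nuB_of_T h ht, mul_one]

/-- Labels of elements centralizing `P`. -/
def CS (P : Subgroup Ω) (γ : Lbl h) : Prop := ∃ c ∈ centralizerIn S P, γ = nuB h c

theorem CS.one (P : Subgroup Ω) : CS h P 1 := ⟨1, one_mem _, (nuB_one h).symm⟩

variable {h}

theorem CS.anti {γ : Lbl h} (hg : CS h P γ) (hQ : Q ≤ P) : CS h Q γ := by
  obtain ⟨c, hc, rfl⟩ := hg
  exact ⟨c, ⟨hc.1, Subgroup.centralizer_le hQ hc.2⟩, rfl⟩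

variable (h)

/-- Maps with labels. -/
inductive LMap : Subgroup Ω → (Ω → Ω) → Lbl h → Prop
  | top {P : Subgroup Ω} {f : Ω → Ω} {α : MulAut T} (hα : α ∈ F.autGroup T) : T ≤ P →
      IsMap F P f → (∀ x ∈ T, f x = autFun α x) → LMap P f (lab h hα)
  | good {Q : Subgroup Ω} {a : MulAut Q} : Q ≤ S → a ∈ Product.aSub h Q →
      SelfC F T (Q ⊓ T) → (orderOf a).Coprime p → LMap Q (autFun a) 1
  | mono {P R : Subgroup Ω} {f : Ω → Ω} {γ : Lbl h} : LMap P f γ → R ≤ P → LMap R f γ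
  | congr {P : Subgroup Ω} {f g : Ω → Ω} {γ : Lbl h} : LMap P f γ →
      (∀ x ∈ P, g x = f x) → LMap P g γ
  | comp {P R : Subgroup Ω} {f g : Ω → Ω} {γ δ : Lbl h} : LMap P f γ → LMap R g δ →
      (∀ x ∈ P, f x ∈ R) → LMap P (g ∘ f) (δ * γ)

variable {h}

theorem LMap.isMap {γ : Lbl h} (hl : LMap h P f γ) : IsMap F P f := by
  induction hl with
  | top _ _ hf _ => exact hf
  | good hQ ha _ _ => exact (mem_autGroup_iff hQ).1 ha.1
  | mono _ hR ih => exact ih.mono hR
  | congr _ he ih => exact ih.congr he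
  | comp _ _ hm ih1 ih2 => exact ih1.comp ih2 hm

/-- The exact twist. -/
theorem LMap.twist {γ : Lbl h} (hl : LMap h P f γ) :
    ∀ x ∈ P, nuB h (f x) = γ * nuB h x * γ⁻¹ := by
  induction hl with
  | @top P f α hα hTP hf he =>
    intro x hx
    rw [nuB, nuB, ← lab_inv, ← lab_mul, ← lab_mul]
    refine lab_congr h _ _ fun t ht => ?_
    have hxS := hf.le hx
    have ht' := autFun_mem α⁻¹ ht
    rw [autFun_nu h (hf.mem_S hx) ht, autFun_mul _ _ ht, autFun_mul _ _ ht',
      autFun_nu h hxS ht', ← he _ ((Subgroup.mem_normalizer_iff.1 (h.normal hxS) _).1 ht'),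
      hf.map_conj hx (hTP ht'), he _ ht', PPrime.autFun_symm' ht]
  | @good Q a hQ ha _ _ =>
    intro x hx
    rw [one_mul, inv_one, mul_one,
      ← nuB_mul_T h (hQ hx) (ha.2.1 x hx), mul_inv_cancel_left]
  | mono _ hR ih => exact fun x hx => ih x (hR hx)
  | congr _ he ih => exact fun x hx => by rw [he x hx]; exact ih x hx
  | @comp P R f g γ δ _ _ hm ih1 ih2 =>
    intro x hx
    show nuB h (g (f x)) = _
    rw [ih2 _ (hm x hx), ih1 x hx]
    group

theorem LMap.conj {s : Ω} (hs : s ∈ S) (hP : P ≤ S) :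
    LMap h P (fun x => s * x * s⁻¹) (nuB h s) :=
  (LMap.top (nu_mem h s) h.hTS (isMap_conj le_rfl hs) fun _ hx => (autFun_nu h hs hx).symm).mono hP

theorem LMap.id' (hP : P ≤ S) : LMap h P id 1 :=
  (nuB_one h ▸ LMap.conj (one_mem S) hP).congr fun x _ => by simp

theorem LMap.of_T {t : Ω} (ht : t ∈ T) (hP : P ≤ S) : LMap h P (fun x => t * x * t⁻¹) 1 :=
  nuB_of_T h ht ▸ LMap.conj (h.hTS ht) hP

/-- Labels are fixed by the restriction to `T`. -/
theorem LMap.label_eq {γ : Lbl h} (hl : LMap h P f γ) (hT : T ≤ P) :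
    ∀ α, ∀ hα : α ∈ F.autGroup T, (∀ x ∈ T, f x = autFun α x) → γ = lab h hα := by
  induction hl with
  | top hβ _ _ he => exact fun α hα hαe => lab_congr h hβ hα fun x hx => by rw [← he x hx, hαe x hx]
  | @good Q a hQ ha _ _ =>
    intro α hα hαe
    refine ((lab_eq_one_iff h hα).2 ((mem_autGroup_iff le_rfl).2 ?_)).symm
    have h1 := ha.2.2
    rw [inf_eq_right.2 hT] at h1
    exact h1.congr fun x hx => (hαe x hx).symm
  | mono _ hR ih => exact ih (hT.trans hR)
  | congr _ he ih => exact fun α hα hαe => ih hT α hα fun x hx => by rw [← hαe x hx, he x (hT hx)]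
  | @comp P R f g γ δ hf hg hm ih1 ih2 =>
    intro α hα hαe
    have hfT := hf.isMap.mono hT
    have hi : img T f = T := img_eq_of_map_le h.hTS hfT le_rfl
      fun x hx => cl_mem h.closed hfT hx hx
    set β := autOf hfT hi
    have hβ : β ∈ F.autGroup T := autOf_mem hfT hi
    have hTR : T ≤ R := hi.ge.trans (hfT.img_le_of_forall fun x hx => hm x (hT hx))
    rw [ih1 hT β hβ fun x hx => (autFun_autOf hfT hi hx).symm,
      ih2 hTR (α * β⁻¹) (mul_mem hα (inv_mem hβ)) fun y hy => ?_, ← lab_mul]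
    · exact lab_congr h _ _ fun x hx => by rw [inv_mul_cancel_right]
    · have hy' := autFun_mem β⁻¹ hy
      rw [autFun_mul _ _ hy, ← hαe _ hy']
      show g y = g (f (autFun β⁻¹ y))
      rw [← autFun_autOf hfT hi hy', PPrime.autFun_symm' hy]

/-- Inverses of labelled maps. -/
theorem LMap.exists_inv {γ : Lbl h} (hl : LMap h P f γ) :
    ∃ f', LMap h (img P f) f' γ⁻¹ ∧ (∀ x ∈ P, f' (f x) = x) ∧
      ∀ y ∈ img P f, f' y ∈ P ∧ f (f' y) = y := by
  induction hl with
  | @top P f α hα hTP hf he =>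
    obtain ⟨f', hf', h1, h2⟩ := hf.exists_inv
    have hTi : T ≤ img P f := fun t ht => hf.mem_img.2
      ⟨_, hTP (autFun_mem α⁻¹ ht), by rw [he _ (autFun_mem α⁻¹ ht), PPrime.autFun_symm' ht]⟩
    refine ⟨f', lab_inv h hα ▸ LMap.top (inv_mem hα) hTi hf' fun x hx => ?_, h1, h2⟩
    conv_lhs => rw [← PPrime.autFun_symm' (α := α) hx, ← he _ (autFun_mem α⁻¹ hx)]
    exact h1 _ (hTP (autFun_mem α⁻¹ hx))
  | @good Q a hQ ha hs hco =>
    refine ⟨autFun a⁻¹, ?_, fun x hx => PPrime.autFun_symm hx, fun y hy => ?_⟩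
    · rw [img_autFun, inv_one]
      exact LMap.good hQ (inv_mem ha) hs (by rwa [orderOf_inv])
    · rw [img_autFun] at hy
      exact ⟨autFun_mem _ hy, PPrime.autFun_symm' hy⟩
  | @mono P R f γ hf hR ih =>
    obtain ⟨f', hf', h1, h2⟩ := ih
    refine ⟨f', hf'.mono (hf.isMap.img_mono hR), fun x hx => h1 x (hR hx), fun y hy => ?_⟩
    obtain ⟨x, hx, rfl⟩ := (hf.isMap.mono hR).mem_img.1 hy
    rw [h1 x (hR hx)]
    exact ⟨hx, rfl⟩
  | @congr P f g γ hf he ih =>
    obtain ⟨f', hf', h1, h2⟩ := ih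
    rw [IsMap.img_congr he]
    exact ⟨f', hf', fun x hx => by rw [he x hx, h1 x hx],
      fun y hy => ⟨(h2 y hy).1, by rw [he _ (h2 y hy).1, (h2 y hy).2]⟩⟩
  | @comp P R f g γ δ hf hg hm ih1 ih2 =>
    obtain ⟨f', hf', f1, f2⟩ := ih1
    obtain ⟨g', hg', g1, g2⟩ := ih2
    have hle : img P (g ∘ f) ≤ img R g := by
      rw [← img_img hf.isMap]
      exact hg.isMap.img_mono (hf.isMap.img_le_of_forall hm)
    have hback : ∀ y ∈ img P (g ∘ f), ∃ x ∈ P, g (f x) = y := fun y hy =>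
      (hf.isMap.comp hg.isMap hm).mem_img.1 hy
    refine ⟨f' ∘ g', ?_, fun x hx => ?_, fun y hy => ?_⟩
    · rw [mul_inv_rev]
      refine (hg'.mono hle).comp hf' fun y hy => ?_
      obtain ⟨x, hx, rfl⟩ := hback y hy
      rw [g1 _ (hm x hx)]
      exact hf.isMap.mem_img.2 ⟨x, hx, rfl⟩
    · show f' (g' (g (f x))) = x
      rw [g1 _ (hm x hx), f1 x hx]
    · obtain ⟨x, hx, rfl⟩ := hback y hy
      show f' (g' (g (f x))) ∈ P ∧ g (f (f' (g' (g (f x))))) = g (f x)
      rw [g1 _ (hm x hx), f1 x hx]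
      exact ⟨hx, rfl⟩

/-- Two labels of a map differ by a label of an identity map of its image. -/
theorem LMap.loop {γ δ : Lbl h} (hf : LMap h P f γ) (hg : LMap h P g δ)
    (he : ∀ x ∈ P, g x = f x) : LMap h (img P f) id (δ * γ⁻¹) := by
  obtain ⟨f', hf', -, h2⟩ := hf.exists_inv
  refine (hf'.comp hg fun y hy => (h2 y hy).1).congr fun y hy => ?_
  show y = g (f' y)
  rw [he _ (h2 y hy).1, (h2 y hy).2]

end CfsgLib.Fusion.Balance
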