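import Cfsg.Agent.Lib.Fusion.Balance.Sub
import Cfsg.Agent.Lib.Fusion.System.Meet.CentralProduct
import Cfsg.Agent.Lib.Fusion.System.Meet.FittingNormal

/-!
# Maps of the generalized Fitting subsystem and the layer of a normalizer system

For a generalized Fitting subsystem `D` of `F` with layer `L` over `T`, maps of `D` on subgroups of
`T` are maps of `L` and all maps are conjugations by the core modulo `T`. If the components of the
normalizer system of `X` lie over subgroups of `T` then its layer is contained in `L`.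
-/

set_option autoImplicit false
set_option maxHeartbeats 1000000
set_option linter.style.haveILetI false
set_option linter.unusedSectionVars false

open Subgroup
open scoped Classical Pointwise

namespace CfsgLib.Fusion.Balance

open Cfsg (FusionSystem autInducedBy)
open Cfsg.FusionSystem (normalizerIn centralizerIn)
open CfsgLib.Fusion CfsgLib.Fusion.CentLift CfsgLib.Fusion.Meet
open CfsgLib.Fusion.Transport (GIso SysIso)

universe u

variable {Ω : Type u} [Group Ω] {S T U V : Subgroup Ω} {F : FusionSystem S} {L : FusionSystem T}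
  {p : ℕ} [Finite S] [Fact p.Prime] {P X : Subgroup Ω} {f : Ω → Ω}

theorem exists_fitting (hS : IsPGroup p S) (hF : F.IsSaturated p) (hL : L.IsLayerOf F p) :
    ∃ D : FusionSystem (F.core ⊔ T),
      Cfsg.FusionSystem.IsCentralProductOf (Cfsg.innerFusionSystem F.core) L D := by
  have h := comm_core_layer hS hF hL
  haveI := finite_of_le h.cl₁.1
  haveI := finite_of_le h.cl₂.1
  exact exists_cp (hS.to_le h.cl₁.1) (hS.to_le h.cl₂.1) h.comm h.cen₁ h.cen₂

theorem fitting_maps (hS : IsPGroup p S) (hF : F.IsSaturated p) (hL : L.IsLayerOf F p)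
    {D : FusionSystem U}
    (hD : Cfsg.FusionSystem.IsCentralProductOf (Cfsg.innerFusionSystem F.core) L D)
    (hf : IsMap D P f) :
    (P ≤ T → IsMap L P f) ∧ ∃ a ∈ F.core, ∀ x ∈ P, (a * x * a⁻¹)⁻¹ * f x ∈ T := by
  have h := comm_core_layer hS hF hL
  haveI := finite_of_le h.cl₁.1
  haveI := finite_of_le h.cl₂.1
  obtain ⟨hP, f₁, f₂, hf₁, hf₂, hval⟩ :=
    ((cp_pair (hS.to_le h.cl₁.1) (hS.to_le h.cl₂.1) h.nor₁.1.1 h.nor₂.1.1 hD).2 P f).1 hf
  refine ⟨fun hPT => ?_, ?_⟩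
  · refine (hf₂.mono fun b hb => ?_).congr fun b hb => ?_
    · exact mem_pr_right (one_mem F.core) (hPT hb) (by rwa [one_mul])
    · have h1 := hval 1 (one_mem _) b (hPT hb) (by rwa [one_mul])
      rwa [one_mul, hf₁.map_one, one_mul] at h1
  · obtain ⟨φ, ⟨-, a, ha, he⟩, hφf⟩ := id hf₁
    refine ⟨a, ha, fun x hx => ?_⟩
    obtain ⟨q, hq, b, hb, rfl⟩ := exists_mul_of_mem_sup h.comm (hP hx)
    have hqP := mem_pr_left hq hb hx
    have hbP := mem_pr_right hq hb hx
    rw [hval q hq b hb hx, ← show a * q * a⁻¹ = f₁ q from (he ⟨q, hqP⟩).symm.trans (hφf ⟨q, hqP⟩)]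
    have hab : a * b * a⁻¹ = b := by rw [h.comm a ha b hb, mul_inv_cancel_right]
    have e : a * (q * b) * a⁻¹ = a * q * a⁻¹ * b := by
      conv_rhs => rw [← hab]
      group
    rw [e, mul_inv_rev, mul_assoc, inv_mul_cancel_left]
    exact T.mul_mem (T.inv_mem hb) (hf₂.mem_S hbP)

/-- Automorphisms of order prime to `p` of the generalized Fitting subsystem move only inside the
layer. -/
theorem fitting_disp (hS : IsPGroup p S) (hF : F.IsSaturated p) (hL : L.IsLayerOf F p)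
    {D : FusionSystem U}
    (hD : Cfsg.FusionSystem.IsCentralProductOf (Cfsg.innerFusionSystem F.core) L D)
    {a : MulAut P} (hP : P ≤ S) (ha : IsMap D P (autFun a)) (hco : (orderOf a).Coprime p) :
    ∀ x ∈ P, x⁻¹ * autFun a x ∈ T := by
  obtain ⟨-, c, hc, hd⟩ := fitting_maps hS hF hL hD ha
  exact disp_of_mod hS ((le_normalizerIn_of_stronglyClosed hL.1.1.2.2.2.1).trans inf_le_right) hP hco
    ((isNormal_core (F := F)).1 hc) hd

/-- The group of a quasisimple system is generated by displacements. -/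
theorem le_of_disp {K : FusionSystem V} (hKq : K.Quasisimple p) {M : Subgroup Ω}
    (hMn : ∀ v ∈ V, ∀ y ∈ M, v * y * v⁻¹ ∈ M)
    (hd : ∀ P : Subgroup Ω, P ≤ V → ∀ a : MulAut P, IsMap K P (autFun a) →
      (orderOf a).Coprime p → ∀ x ∈ P, x⁻¹ * autFun a x ∈ M) : V ≤ M := by
  have habs : Absorbs K p (V ⊓ M) := by
    have hn : ∀ s ∈ V, ∀ y ∈ V ⊓ M, s * y * s⁻¹ ∈ V ⊓ M := fun s hs y hy => Subgroup.mem_inf.2
      ⟨V.mul_mem (V.mul_mem hs hy.1) (V.inv_mem hs), hMn s hs y hy.2⟩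
    refine ⟨inf_le_left, fun s hs => Subgroup.mem_normalizer_iff.2 fun y => ⟨hn s hs y, fun hy => ?_⟩,
      fun Q hQ a ha x hx => Subgroup.mem_inf.2
        ⟨V.mul_mem (V.inv_mem (hQ hx)) (hQ (autFun_mem _ hx)),
          hd Q hQ _ ((mem_autGroup_iff hQ).1 a.2) (by rwa [Subgroup.orderOf_coe]) x hx⟩⟩
    simpa [mul_assoc] using hn s⁻¹ (V.inv_mem hs) _ hy
  intro v hv
  exact (hyperfocal_le habs (hKq.2.1.ge hv)).2

/-- If the components of the normalizer system lie over subgroups of the layer group, its layer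
lies in the layer. -/
theorem layer_sub (hS : IsPGroup p S) (hF : F.IsSaturated p) (hL : L.IsLayerOf F p)
    (hX : F.IsFullyNormalized X)
    (hcomp : ∀ (V : Subgroup Ω) (K : FusionSystem V), K.IsComponentIn (nQ F X hX.1) p → V ≤ T)
    {EN : FusionSystem U} (hEN : EN.IsLayerOf (nQ F X hX.1) p) : EN.IsSubsystemOf L := by
  obtain ⟨D, hD⟩ := exists_fitting hS hF hL
  have hDf : D.IsGeneralizedFittingOf F p := ⟨T, L, hL, hD⟩
  have hDn := (fitting_normal hS hF).2 _ D hDf
  have h : Setup F p D D (F.core ⊔ T) :=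
    ⟨hS, hF, Side.of_weaklyNormal hS hDn.1, Side.of_weaklyNormal hS hDn.1, inf_idem _⟩
  obtain ⟨D₀, hD₀, hmap⟩ := sub_main h hDn (nil_fitting hS hF hDf) hX hL.1.1.2.2.2.1 le_sup_right
    fun P a hP ha hco => fitting_disp hS hF hL hD (hP.trans h.hTS) ha hco
  have hNX : normalizerIn S X ≤ S := inf_le_left
  haveI := finite_of_le hNX
  have h1 := hEN.2.2 _ D₀ hD₀ fun V K hK => component_sub (hS.to_le hNX)
    (isSaturated_nQ hS hF hX) hK hD₀
    fun v hv => Subgroup.mem_inf.2 ⟨hcomp V K hK hv, (Transport.subnormal_le hK.1 hv).2⟩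
  refine Transport.subsystem_iff.2 fun P f hf => ?_
  have h2 := Transport.isMap_le_of_subsystem h1 hf
  exact (fitting_maps hS hF hL hD (hmap P f h2)).1 (h2.le.trans inf_le_left)

/-- A normal subsystem stays normal in a subsystem over the same group having the extensions. -/
theorem normal_restrict {G G' : FusionSystem S} {D : FusionSystem U} (hS : IsPGroup p S)
    (hG' : G'.IsSaturated p) (hsub : ∀ P f, IsMap G' P f → IsMap G P f)
    (hD : D.IsNormalIn G p) (hDG' : ∀ P f, IsMap D P f → IsMap G' P f)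
    (hext : ∀ f, IsMap G (U ⊔ centralizerIn S U) f → IsMap G' (U ⊔ centralizerIn S U) f) :
    D.IsNormalIn G' p := by
  have hs := Side.of_weaklyNormal hS hD.1
  have hcl : G'.StronglyClosed U := stronglyClosed_iff.2 ⟨hs.closed.1, fun R f hR hf x hx =>
    (stronglyClosed_iff.1 hs.closed).2 R f hR (hsub R f hf) x hx⟩
  refine ⟨⟨hD.1.1, hG', (isInvariantIn_iff_strongInv hS hG' (Transport.subsystem_iff.2 hDG') hcl).2
    fun P Q f g hPQ hQU hf hfQ hg => hs.inv P Q f g hPQ hQU hf hfQ (hsub Q g hg)⟩, fun α hα => ?_⟩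
  obtain ⟨β, hβ, h1, h2⟩ := hD.2 α hα
  have hB : U ⊔ centralizerIn S U ≤ S := sup_le hs.closed.1 inf_le_left
  exact ⟨β, (mem_autGroup_iff hB).2 (hext _ ((mem_autGroup_iff hB).1 hβ)), h1, h2⟩

/-- Normalizer systems over equal groups. -/
theorem component_nSystem {W : Subgroup Ω} {K : FusionSystem V} (e : W = normalizerIn S X)
    (hle : W ≤ normalizerIn S X) (hXS : X ≤ S)
    (hK : K.IsComponentIn (nSystem F W X hle hXS) p) : K.IsComponentIn (nQ F X hXS) p := by
  subst e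
  exact hK

/-- Maps of normalizer systems are carried along a map of the system. -/
theorem nMap_conj {N₁ N₂ X₂ : Subgroup Ω} {φ φ' : Ω → Ω} (hφ : IsMap F N₁ φ)
    (hφN : img N₁ φ = N₂) (hφX : img X φ = X₂) (hXN : X ≤ N₁) (hφ' : IsMap F N₂ φ')
    (h1 : ∀ x ∈ N₁, φ' (φ x) = x) (h2 : ∀ y ∈ N₂, φ' y ∈ N₁ ∧ φ (φ' y) = y)
    (hf : NMap F N₁ X P f) : NMap F N₂ X₂ (img P φ) (φ ∘ f ∘ φ') := by
  obtain ⟨hP, hval, k, hk, hkf, hkX⟩ := hf
  have hφP := hφ.mono hP
  have hle : P ⊔ X ≤ N₁ := sup_le hP hXN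
  have hφk := hφ.mono hle
  have hPle : img P φ ≤ N₂ := hφN ▸ hφ.img_mono hP
  have hXle : X₂ ≤ N₂ := hφX ▸ hφN ▸ hφ.img_mono hXN
  have hkN : ∀ z ∈ P ⊔ X, k z ∈ N₁ := fun z hz => hk.map_mem_of_sup
    (fun x hx => by rw [hkf x hx]; exact hval x hx)
    (fun x hx => hXN (mem_of_img_eq hk le_sup_right hkX hx)) hz
  have hsrc : img P φ ⊔ X₂ ≤ img (P ⊔ X) φ :=
    sup_le (hφk.img_mono le_sup_left) (hφX ▸ hφk.img_mono le_sup_right)
  have hm1 : ∀ z ∈ img P φ ⊔ X₂, φ' z ∈ P ⊔ X := fun z hz => by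
    obtain ⟨x, hx, rfl⟩ := hφk.mem_img.1 (hsrc hz)
    rwa [h1 x (hle hx)]
  refine ⟨hPle, fun y hy => ?_, φ ∘ k ∘ φ', ?_, fun y hy => ?_, ?_⟩
  · obtain ⟨x, hx, rfl⟩ := hφP.mem_img.1 hy
    show φ (f (φ' (φ x))) ∈ N₂
    rw [h1 x (hP hx), ← hφN]
    exact hφ.mem_img.2 ⟨_, hval x hx, rfl⟩
  · exact ((hφ'.mono (sup_le hPle hXle)).comp hk hm1).comp hφ fun z hz => hkN _ (hm1 z hz)
  · obtain ⟨x, hx, rfl⟩ := hφP.mem_img.1 hy
    show φ (k (φ' (φ x))) = φ (f (φ' (φ x)))
    rw [h1 x (hP hx), hkf x hx]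
  · calc img X₂ (φ ∘ k ∘ φ') = img (img X φ) (φ ∘ k ∘ φ') := by rw [hφX]
      _ = img X (φ ∘ k ∘ φ' ∘ φ) := img_img (hφ.mono hXN)
      _ = img X (φ ∘ k) := IsMap.img_congr fun x hx => by
          simp only [Function.comp_apply, h1 x (hXN hx)]
      _ = img (img X k) φ := (img_img (hk.mono le_sup_right)).symm
      _ = X₂ := by rw [hkX, hφX]

/-- A fully normalized subgroup and an overgroup of it can be moved to fully normalized ones, with
the normalizer system. -/
theorem exists_sysIso (hS : IsPGroup p S) (hF : F.IsSaturated p) (hX : F.IsFullyNormalized X)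
    {Y : Subgroup Ω} (hY : Y ≤ S) (hXY : normalizerIn S X ≤ normalizerIn S Y) :
    ∃ φ φ', IsMap F (normalizerIn S Y) φ ∧ ∃ hX' : F.IsFullyNormalized (img X φ),
      F.IsFullyNormalized (img Y φ) ∧ img (normalizerIn S X) φ = normalizerIn S (img X φ) ∧
      SysIso (nQ F X hX.1) (nQ F (img X φ) hX'.1) φ φ' := by
  obtain ⟨Y', hYY', hY'⟩ := exists_fullyNormalized (F := F) hY
  obtain ⟨hau, hre⟩ := IsSaturated.automized_receptive hS hF hY'
  obtain ⟨φ, hφ, hφY, -⟩ := exists_map_normalizer hS hau hre hYY'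
  have hφN := hφ.mono hXY
  have hXN : X ≤ normalizerIn S X := le_normalizerIn hX.1
  have hle : img (normalizerIn S X) φ ≤ normalizerIn S (img X φ) :=
    hφN.img_le_of_forall fun n hn => map_mem_normalizerIn hφN hXN hn hn.2
  have hXS' : img X φ ≤ S := (hφN.mono hXN).img_le
  have hconj : F.IsConj X (img X φ) := isConj_iff.2 ⟨φ, hφN.mono hXN, rfl⟩
  have hmax : Nat.card (normalizerIn S (img X φ)) ≤ Nat.card (normalizerIn S X) := hX.2 _ hconj
  have heq : img (normalizerIn S X) φ = normalizerIn S (img X φ) :=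
    eq_of_le_of_card_le inf_le_left hle (hφN.card_img.ge.trans' hmax)
  have hX' : F.IsFullyNormalized (img X φ) := ⟨hXS', fun Q hQ => by
    rw [← heq, hφN.card_img]
    exact hX.2 Q (isConj_trans hconj hQ)⟩
  obtain ⟨φ', hφ', h1, h2⟩ := hφN.exists_inv
  rw [heq] at hφ' h2
  have g : GIso (normalizerIn S X) (normalizerIn S (img X φ)) φ φ' :=
    Transport.giso_of_isMap hφN heq h1 h2
  have hX'N : img X φ ≤ normalizerIn S (img X φ) := le_normalizerIn hXS'
  have hinvX : img (img X φ) φ' = X := by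
    rw [img_img (hφN.mono hXN)]
    exact img_eq_self_of_fix fun x hx => h1 x (hXN hx)
  have hinvN : img (normalizerIn S (img X φ)) φ' = normalizerIn S X := by
    rw [← heq, img_img hφN]
    exact img_eq_self_of_fix h1
  refine ⟨φ, φ', hφ, hX', hφY.symm ▸ hY', heq, g, fun P f hf => isMap_nSystem_iff.2 ?_,
    fun P f hf => isMap_nSystem_iff.2 ?_⟩
  · exact nMap_conj hφN heq rfl hXN hφ' h1 h2 (isMap_nSystem_iff.1 hf)
  · exact nMap_conj hφ' hinvN hinvX hX'N hφN (fun y hy => (h2 y hy).2)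
      (fun x hx => ⟨g.map x hx, h1 x hx⟩) (isMap_nSystem_iff.1 hf)

end CfsgLib.Fusion.Balance
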