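import Cfsg.Agent.Lib.Fusion.Balance.Label

/-!
# The stabilizer of `P` in the model at `P ∩ T`

For `P` fully normalized with `R = P ∩ T` fully normalized and self-centralizing in `T`, the
stabilizer of `P` in the model at `R` realizes the maps of `N_F(P)`, has Sylow subgroup `N_S(P)`
and meets the local subgroup in a group with Sylow subgroup `N_T(P)`.
-/

set_option autoImplicit false
set_option maxHeartbeats 1000000
set_option linter.style.haveILetI false
set_option linter.unusedSectionVars false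

open Subgroup
open scoped Classical Pointwise

namespace CfsgLib.Fusion.Balance

open Cfsg (FusionSystem autInducedBy)
open Cfsg.FusionSystem (normalizerIn centralizerIn preimageAlong)
open CfsgLib.Fusion CfsgLib.Fusion.CentLift CfsgLib.Fusion.Meet

universe u

variable {Ω : Type u} [Group Ω] {S T : Subgroup Ω} {F : FusionSystem S} {E : FusionSystem T}
  {p : ℕ} {P Q R W D : Subgroup Ω} {f g : Ω → Ω}

/-- A group generated modulo `J` by a subgroup of index prime to `p`, all elements having some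
`p`-power in `J`. -/
theorem le_sup_of_pow_mem {G : Type*} [Group G] [Finite G] [Fact p.Prime] {J Y N : Subgroup G}
    (hJ : J ≤ N) (hY : Y ≤ N) (hn : N ≤ Subgroup.normalizer (J : Set G))
    (hi : ¬ p ∣ Y.relIndex N) (hpow : ∀ x ∈ N, ∃ j : ℕ, x ^ p ^ j ∈ J) : N ≤ J ⊔ Y := by
  haveI : (J.subgroupOf N).Normal := ⟨fun a ha b => (Subgroup.mem_normalizer_iff.1 (hn b.2) a).1 ha⟩
  have hq : IsPGroup p (N ⧸ J.subgroupOf N) := fun z => by
    obtain ⟨x, rfl⟩ := QuotientGroup.mk_surjective z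
    obtain ⟨j, hj⟩ := hpow x x.2
    exact ⟨j, by rw [← QuotientGroup.mk_pow, QuotientGroup.eq_one_iff, Subgroup.mem_subgroupOf,
      Subgroup.coe_pow]; exact hj⟩
  obtain ⟨k, hk⟩ := IsPGroup.iff_card.1 hq
  have h1 : (J ⊔ Y).relIndex N ∣ p ^ k := by
    have h0 : J.relIndex N = p ^ k := hk
    exact h0 ▸ Subgroup.relIndex_dvd_of_le_left N le_sup_left
  have h2 : (J ⊔ Y).relIndex N ∣ Y.relIndex N := Subgroup.relIndex_dvd_of_le_left N le_sup_right
  exact Subgroup.relIndex_eq_one.1 (Nat.eq_one_of_dvd_coprimes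
    (Nat.Coprime.pow_left k ((Fact.out : p.Prime).coprime_iff_not_dvd.2 hi)) h1 h2)

/-- A representative of a class at which the labels are computed. -/
structure Rep (F : FusionSystem S) (T P : Subgroup Ω) : Prop where
  normalized : F.IsFullyNormalized P
  inner : F.IsFullyNormalized (P ⊓ T)
  selfC : SelfC F T (P ⊓ T)
  proper : ¬ T ≤ P

theorem normalizerIn_le_inf (hT : S ≤ Subgroup.normalizer (T : Set Ω)) :
    normalizerIn S P ≤ normalizerIn S (P ⊓ T) := fun _ hn =>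
  ⟨hn.1, Subgroup.mem_normalizer_iff.2 fun x =>
    and_congr (Subgroup.mem_normalizer_iff.1 hn.2 x) (Subgroup.mem_normalizer_iff.1 (hT hn.1) x)⟩

variable [Finite S] [Fact p.Prime] (h : Setup F p E E T) (hnil : Nil F T p)
  (hP : Rep F T P) (M : LModel F p (P ⊓ T))

section
include h hP

theorem Rep.le : P ≤ S := hP.normalized.1

theorem Rep.le_nR : P ≤ normalizerIn S (P ⊓ T) :=
  (le_normalizerIn hP.normalized.1).trans (normalizerIn_le_inf h.normal)

theorem Rep.nP_le : normalizerIn S P ≤ normalizerIn S (P ⊓ T) := normalizerIn_le_inf h.normal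

theorem Rep.nT_le : normalizerIn T P ≤ normalizerIn S P := inf_le_inf_right _ h.hTS

end

/-- The stabilizer of `P` in the model. -/
def hP' (M : LModel F p (P ⊓ T)) : Subgroup M.G := Subgroup.normalizer (imgι M.ι P : Set M.G)

/-- Conjugation by `g` realizes `f` on `W`. -/
def Rz (M : LModel F p (P ⊓ T)) (W : Subgroup Ω) (f : Ω → Ω) (g : M.G) : Prop :=
  ∀ x ∈ W, M.e (f x) = g * M.e x * g⁻¹

variable {M}

theorem Rz.mono {g : M.G} (hr : Rz M W f g) (hD : D ≤ W) : Rz M D f g := fun x hx => hr x (hD hx)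

theorem Rz.comp {f₁ f₂ : Ω → Ω} {g₁ g₂ : M.G} (h₁ : Rz M W f₁ g₁) (h₂ : Rz M D f₂ g₂)
    (hm : ∀ x ∈ W, f₁ x ∈ D) : Rz M W (f₂ ∘ f₁) (g₂ * g₁) := fun x hx => by
  show M.e (f₂ (f₁ x)) = _
  rw [h₂ _ (hm x hx), h₁ x hx]
  group

section
include h hP

theorem rz_conj {s : Ω} (hs : s ∈ normalizerIn S P) (hW : W ≤ normalizerIn S (P ⊓ T)) :
    Rz M W (fun x => s * x * s⁻¹) (M.e s) := fun _ hx =>
  ext1_conj M.ι (hP.nP_le h hs) (hW hx)

/-- An element conjugating the image of `P` into itself stabilizes it. -/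
theorem mem_hP' {g : M.G} (hg : ∀ x ∈ P, g * M.e x * g⁻¹ ∈ imgι M.ι P) : g ∈ hP' M := by
  refine conjBy_eq_iff.1 (conjBy_eq_of_le (conjBy_le_iff.2 fun z hz => ?_))
  obtain ⟨x, hx, rfl⟩ := (mem_imgι (hP.le_nR h)).1 hz
  exact hg x hx

theorem e_mem_hP' {s : Ω} (hs : s ∈ normalizerIn S P) : M.e s ∈ hP' M :=
  mem_hP' h hP fun x hx => by
    rw [← rz_conj h hP hs (hP.le_nR h) x hx]
    exact ext1_mem_imgι (hP.le_nR h) ((Subgroup.mem_normalizer_iff.1 hs.2 x).1 hx)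

theorem hP'_conj {g : M.G} (hg : g ∈ hP' M) {x : Ω} (hx : x ∈ P) :
    g * M.e x * g⁻¹ ∈ imgι M.ι P :=
  (Subgroup.mem_normalizer_iff.1 hg _).1 (ext1_mem_imgι (hP.le_nR h) hx)

/-- Elements of `N_S(R)` in the stabilizer normalize `P`. -/
theorem mem_nP_of_e {u : Ω} (hu : u ∈ normalizerIn S (P ⊓ T)) (hg : M.e u ∈ hP' M) :
    u ∈ normalizerIn S P := by
  refine ⟨hu.1, ?_⟩
  refine conjBy_eq_iff.1 (eq_of_le_of_card_le hP.normalized.1 (conjBy_le_iff.2 fun x hx => ?_)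
    (card_conjBy u P).ge)
  refine mem_of_ext1_mem_imgι M.real.1 (hP.le_nR h)
    (mul_mem (mul_mem hu (hP.le_nR h hx)) (inv_mem hu)) ?_
  show M.e (u * x * u⁻¹) ∈ _
  rw [show M.e (u * x * u⁻¹) = _ from ext1_conj M.ι hu (hP.le_nR h hx)]
  exact hP'_conj h hP hg hx

/-- A map realized inside the stabilizer. -/
theorem rz_map {g : M.G} (hg : g ∈ hP' M) (hPW : P ≤ W) (hW : W ≤ normalizerIn S P)
    (hgW : ∀ x ∈ W, g * M.e x * g⁻¹ ∈ M.ι.range) :
    ∃ f, IsMap F W f ∧ Rz M W f g ∧ img P f = P ∧ ∀ x ∈ W, f x ∈ normalizerIn S P := by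
  obtain ⟨f, hf, hfN, hfe⟩ := M.conj_map (hW.trans (hP.nP_le h)) hgW
  have hi : img P f = P := img_eq_of_map_le hP.normalized.1 hf hPW fun x hx =>
    mem_of_ext1_mem_imgι M.real.1 (hP.le_nR h) (hfN x (hPW hx))
      (by show M.e (f x) ∈ _; rw [hfe x (hPW hx)]; exact hP'_conj h hP hg hx)
  refine ⟨f, hf, hfe, hi, fun x hx => ?_⟩
  have h1 := map_mem_normalizerIn hf hPW hx (hW hx).2
  rwa [hi] at h1

include hnil in
/-- Maps of `N_F(P)` are realized. -/
theorem exists_rz (hf : IsMap F W f) (hPW : P ≤ W) (hW : W ≤ normalizerIn S P)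
    (hi : img P f = P) : ∃ g ∈ hP' M, Rz M W f g := by
  have hRW : P ⊓ T ≤ W := inf_le_left.trans hPW
  have hiR : img (P ⊓ T) f = P ⊓ T := by
    rw [← img_inf_T h (hf.mono hPW), hi]
  have hmem : ∀ x ∈ W, f x ∈ normalizerIn S (P ⊓ T) := fun x hx => by
    have h1 := map_mem_normalizerIn hf hPW hx (hW hx).2
    rw [hi] at h1
    exact hP.nP_le h h1
  have hq : IsMap (nQ F (P ⊓ T) hP.inner.1) W f := isMap_nSystem_iff.2
    ⟨hW.trans (hP.nP_le h), hmem, f, by rwa [sup_eq_left.2 hRW], fun _ _ => rfl, hiR⟩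
  obtain ⟨-, -, -, g, hg⟩ :=
    (isMap_realized_iff M.real).1 (isMap_nR_of_nQ h.pgroup h.sat hnil hP.selfC hP.inner hq)
  refine ⟨g, mem_hP' h hP fun x hx => ?_, hg⟩
  rw [← hg x (hPW hx)]
  exact ext1_mem_imgι (hP.le_nR h) (mem_of_img_eq hf hPW hi hx)

/-- The Sylow subgroup of the stabilizer. -/
theorem exists_sylow_hP' :
    ∃ Y : Sylow p (hP' M), (Y : Subgroup (hP' M)) =
      (imgι M.ι (normalizerIn S P)).subgroupOf (hP' M) := by
  haveI := M.fin
  set H := hP' M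
  have hNN := hP.nP_le h
  have hle : imgι M.ι (normalizerIn S P) ≤ H := fun z hz => by
    obtain ⟨s, hs, rfl⟩ := (mem_imgι hNN).1 hz
    exact e_mem_hP' h hP hs
  have hNp : IsPGroup p (imgι M.ι (normalizerIn S P)) :=
    ((h.pgroup.to_le inf_le_left : IsPGroup p (normalizerIn S (P ⊓ T))).to_subgroup _).map _
  refine ⟨⟨(imgι M.ι (normalizerIn S P)).subgroupOf H,
    hNp.of_equiv (Subgroup.subgroupOfEquivOfLe hle).symm, fun {Z₀} hZ₀ hZ₀le => ?_⟩, rfl⟩
  set Z₁ := Z₀.map H.subtype with hZ₁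
  have hZ₀H : Z₁ ≤ H := Subgroup.map_subtype_le _
  have hPI : IsPGroup p (imgι M.ι P) :=
    ((h.pgroup.to_le inf_le_left : IsPGroup p (normalizerIn S (P ⊓ T))).to_subgroup _).map _
  have hK : IsPGroup p (Z₁ ⊔ imgι M.ι P : Subgroup M.G) :=
    IsPGroup.to_sup_of_normal_right' (hZ₀.map _) hPI hZ₀H
  obtain ⟨Z, hZ⟩ := hK.exists_le_sylow
  obtain ⟨Y, hY⟩ := M.sylow
  obtain ⟨y, hy⟩ := MulAction.exists_smul_eq M.G Z Y
  have hyr : ∀ z ∈ Z₁ ⊔ imgι M.ι P, y * z * y⁻¹ ∈ M.ι.range := fun z hz => by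
    rw [← hY, ← hy, Sylow.coe_subgroup_smul]
    exact ⟨z, hZ hz, rfl⟩
  have hPN := hP.le_nR h
  obtain ⟨f, hf, hfN, hfe⟩ := M.conj_map hPN fun x hx =>
    hyr _ (Subgroup.mem_sup_right (ext1_mem_imgι hPN hx))
  have hP'N : img P f ≤ normalizerIn S (P ⊓ T) := hf.img_le_of_forall hfN
  -- the preimage of the conjugate normalizes the image of `P`
  set D := preimageAlong M.ι (conjBy y Z₁) with hD
  have hDN : D ≤ normalizerIn S (img P f) := by
    intro u hu
    obtain ⟨huN, hue⟩ := mem_preimageAlong.1 hu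
    refine ⟨huN.1, ?_⟩
    refine conjBy_eq_iff.1 (eq_of_le_of_card_le hf.img_le (conjBy_le_iff.2 fun x hx => ?_)
      (card_conjBy u _).ge)
    obtain ⟨x, hx', rfl⟩ := hf.mem_img.1 hx
    have hw : M.e (u * f x * u⁻¹) = _ := ext1_conj M.ι huN (hfN x hx')
    rw [show ext1 M.ι (f x) = _ from hfe x hx'] at hw
    have hv := hue
    rw [mem_conjBy] at hv
    obtain ⟨x2, hx2, hx2e⟩ := (mem_imgι hPN).1
      ((Subgroup.mem_normalizer_iff.1 (hZ₀H hv) _).1 (ext1_mem_imgι hPN hx'))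
    refine hf.mem_img.2 ⟨x2, hx2, M.inj (hfN x2 hx2)
      (mul_mem (mul_mem huN (hfN x hx')) (inv_mem huN)) ?_⟩
    rw [hfe x2 hx2, hw, show M.e x2 = _ from hx2e]
    group
  have hc : Nat.card Z₁ ≤ Nat.card (imgι M.ι (normalizerIn S P)) := by
    have himg : imgι M.ι D = conjBy y Z₁ := by
      refine le_antisymm (fun z hz => ?_) fun z hz => ?_
      · obtain ⟨u, hu, rfl⟩ := (mem_imgι fun a ha => (mem_preimageAlong.1 ha).1).1 hz
        obtain ⟨huN, hue⟩ := mem_preimageAlong.1 hu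
        exact hue
      · obtain ⟨v, hv, rfl⟩ := hz
        obtain ⟨⟨u, hu⟩, hue⟩ := hyr v (Subgroup.mem_sup_left hv)
        have he : M.e u = MulAut.conj y v := (ext1_apply M.ι hu).trans hue
        exact (mem_imgι fun a ha => (mem_preimageAlong.1 ha).1).2
          ⟨u, mem_preimageAlong.2 ⟨hu, by show M.e u ∈ _; rw [he]; exact ⟨v, hv, rfl⟩⟩, he⟩
    rw [← card_conjBy y Z₁, ← himg, card_imgι M.real.1 fun a ha => (mem_preimageAlong.1 ha).1,
      card_imgι M.real.1 hNN]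
    exact (card_le_of_le' inf_le_left hDN).trans (hP.normalized.2 _ (isConj_iff.2 ⟨f, hf, rfl⟩))
  have hZ₁le : imgι M.ι (normalizerIn S P) ≤ Z₁ := fun z hz =>
    ⟨⟨z, hle hz⟩, hZ₀le (show (⟨z, hle hz⟩ : H) ∈ _ from hz), rfl⟩
  refine le_antisymm (fun z hz => ?_) hZ₀le
  rw [Subgroup.mem_subgroupOf, Subgroup.eq_of_le_of_card_ge hZ₁le hc]
  exact ⟨z, hz, rfl⟩

/-- The part of the stabilizer in the local subgroup meets `N_S(R)` in `N_T(P)`. -/
theorem mem_nT_of_e {u : Ω} (hu : u ∈ normalizerIn S (P ⊓ T))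
    (hH : M.e u ∈ hP' M) (hs : M.e u ∈ M.hSub h hP.selfC.le) : u ∈ normalizerIn T P :=
  ⟨(M.mem_of_mem_hSub h hP.inner hP.selfC.le hu hs).1, (mem_nP_of_e h hP hu hH).2⟩

theorem e_mem_h1 {t : Ω} (ht : t ∈ normalizerIn T P) :
    M.e t ∈ hP' M ⊓ M.hSub h hP.selfC.le :=
  ⟨e_mem_hP' h hP (hP.nT_le h ht),
    M.mem_hSub_of_T h hP.selfC.le ⟨ht.1, (hP.nP_le h (hP.nT_le h ht)).2⟩⟩

theorem imgι_eq_range_inf :
    imgι M.ι (normalizerIn T P) = M.ι.range ⊓ (hP' M ⊓ M.hSub h hP.selfC.le) := by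
  have hVN := (hP.nT_le h).trans (hP.nP_le h)
  refine le_antisymm (fun z hz => ?_) fun z hz => ?_
  · obtain ⟨t, ht, rfl⟩ := (mem_imgι hVN).1 hz
    exact ⟨ext1_mem_range _ t, e_mem_h1 h hP ht⟩
  · obtain ⟨⟨u, hu⟩, hue⟩ := hz.1
    have he : M.e u = z := (ext1_apply M.ι hu).trans hue
    rw [← he]
    exact ext1_mem_imgι hVN
      (mem_nT_of_e h hP hu (he ▸ (Subgroup.mem_inf.1 hz.2).1) (he ▸ (Subgroup.mem_inf.1 hz.2).2))

/-- `N_T(P)` is a Sylow subgroup of the stabilizer in the local subgroup. -/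
theorem not_dvd_relIndex_h1 :
    ¬ p ∣ (imgι M.ι (normalizerIn T P)).relIndex (hP' M ⊓ M.hSub h hP.selfC.le) := by
  haveI := M.fin
  haveI := M.hSub_normal h hP.inner hP.selfC.le
  obtain ⟨Y, hY⟩ := exists_sylow_hP' h hP (M := M)
  have h1 := not_dvd_relIndex_inf_of_normal Y ((M.hSub h hP.selfC.le).subgroupOf (hP' M))
  rw [← Subgroup.relIndex_map_map_of_injective _ _ (hP' M).subtype_injective,
    Subgroup.map_inf _ _ _ (hP' M).subtype_injective, hY, Subgroup.subgroupOf_map_subtype,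
    Subgroup.subgroupOf_map_subtype] at h1
  rw [inf_comm (hP' M)]
  intro hd
  refine h1 (hd.trans (Subgroup.relIndex_dvd_of_le_left _ ?_))
  rw [imgι_eq_range_inf h hP]
  rintro z ⟨⟨hz1, hz2⟩, hz3, -⟩
  exact ⟨imgι_le_range _ hz1, hz2, hz3⟩

include hnil in
/-- An element of order prime to `p` centralizing `R` lies in the local subgroup. -/
theorem mem_hSub_of_fix {g : M.G} (hco : (orderOf g).Coprime p)
    (hfix : ∀ x ∈ P ⊓ T, g * M.e x * g⁻¹ = M.e x) : g ∈ M.hSub h hP.selfC.le := by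
  have hRS : (P ⊓ T) ≤ S := hP.inner.1
  have hB := M.base_le_nQ
  have hm := (mem_autGroup_iff (base_le hRS)).1 (M.act_stab g).1
  have haR : ∀ x ∈ (P ⊓ T), autFun (M.act g) x = x := fun x hx => by
    have hxB : x ∈ base S (P ⊓ T) := Subgroup.mem_sup_left hx
    exact M.inj (hB (autFun_mem _ hxB)) (hB hxB) ((M.e_act g hxB).trans (hfix x hx))
  have hCB : centralizerIn S (P ⊓ T) ≤ base S (P ⊓ T) := le_sup_right
  have hiC : img (centralizerIn S (P ⊓ T)) (autFun (M.act g)) = centralizerIn S (P ⊓ T) :=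
    img_eq_of_map_le inf_le_left hm hCB fun x hx => stab_cent (M.act_stab g) hx
  have hco' : (orderOf (M.act g)).Coprime p :=
    Nat.Coprime.coprime_dvd_left (orderOf_map_dvd M.actHom g) hco
  have hC1 : autOf (hm.mono hCB) hiC = 1 := hnil (P ⊓ T) hP.selfC _ le_rfl _ (autFun (M.act g))
    (hm.mono (sup_le hCB le_sup_left)) (fun x hx => (autFun_autOf (hm.mono hCB) hiC hx).symm) haR
    (Nat.Coprime.coprime_dvd_left (Product.orderOf_dvd_of_agree hCB fun x hx =>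
      (autFun_autOf (hm.mono hCB) hiC hx).symm) hco')
  have ha1 : M.act g = 1 := autFun_ext fun x hx => by
    rw [autFun_one hx]
    obtain ⟨r, hr, c, hc, rfl⟩ := mem_base (C := centralizerIn S (P ⊓ T)) inf_le_right hx
    rw [autFun_map_mul _ (Subgroup.mem_sup_left hr) (Subgroup.mem_sup_right hc), haR r hr,
      ← autFun_autOf (hm.mono hCB) hiC hc, hC1, autFun_one hc]
  exact Subgroup.subset_closure (Or.inl ⟨by
    rw [M.mem_kSub, ha1]; exact Meet.Good.one h hP.selfC.le, hco⟩)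

include hnil in
/-- The centralizer of `P` in the model, modulo the local subgroup. -/
theorem exists_cent_mem {g : M.G} (hfix : ∀ x ∈ P, g * M.e x * g⁻¹ = M.e x) :
    ∃ c ∈ centralizerIn S P, g * (M.e c)⁻¹ ∈ hP' M ⊓ M.hSub h hP.selfC.le := by
  haveI := M.fin
  haveI := M.hSub_normal h hP.inner hP.selfC.le
  set H := hP' M with hH
  have hPN := hP.le_nR h
  let N : Subgroup H :=
    (Subgroup.centralizer (imgι M.ι P : Set M.G)).subgroupOf H
  have hNc : ∀ z : H, z ∈ N → ∀ x ∈ P, (z : M.G) * M.e x * (z : M.G)⁻¹ = M.e x := fun z hz x hx => by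
    have h1 := Subgroup.mem_centralizer_iff.1 (Subgroup.mem_subgroupOf.1 hz) _
      (ext1_mem_imgι hPN hx)
    show (z : M.G) * ext1 M.ι x * (z : M.G)⁻¹ = ext1 M.ι x
    rw [← h1, mul_inv_cancel_right]
  haveI : N.Normal := ⟨fun z hz a => Subgroup.mem_centralizer_iff.2 fun w hw => by
    obtain ⟨x, hx, rfl⟩ := (mem_imgι hPN).1 hw
    obtain ⟨x', hx', hxe⟩ := (mem_imgι hPN).1
      (hP'_conj h hP (inv_mem (a.2 : (a : M.G) ∈ H)) hx)
    have h1 := hNc z hz x' hx'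
    rw [show M.e x' = _ from hxe] at h1
    show M.e x * ((a : M.G) * z * (a : M.G)⁻¹) = (a : M.G) * z * (a : M.G)⁻¹ * M.e x
    calc M.e x * ((a : M.G) * z * (a : M.G)⁻¹)
        = (a : M.G) * ((a : M.G)⁻¹ * M.e x * (a : M.G)⁻¹⁻¹) * z * (a : M.G)⁻¹ := by group
      _ = (a : M.G) * (z * ((a : M.G)⁻¹ * M.e x * (a : M.G)⁻¹⁻¹) * (z : M.G)⁻¹) * z *
          (a : M.G)⁻¹ := by rw [h1]
      _ = (a : M.G) * z * (a : M.G)⁻¹ * M.e x := by group⟩
  obtain ⟨Y, hY⟩ := exists_sylow_hP' h hP (M := M)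
  set J := (M.hSub h hP.selfC.le).subgroupOf H
  have hgH : g ∈ H := mem_hP' h hP fun x hx => by rw [hfix x hx]; exact ext1_mem_imgι hPN hx
  have hgN : (⟨g, hgH⟩ : H) ∈ N := Subgroup.mem_centralizer_iff.2 fun w hw => by
    obtain ⟨x, hx, rfl⟩ := (mem_imgι hPN).1 hw
    show ext1 M.ι x * g = g * ext1 M.ι x
    conv_lhs => rw [show ext1 M.ι x = _ from (hfix x hx).symm]
    group
  have hle := le_sup_of_pow_mem (p := p) (J := J ⊓ N) (Y := (Y : Subgroup H) ⊓ N) inf_le_right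
    inf_le_right (by rw [Subgroup.normalizer_eq_top_iff.2 inferInstance]; exact le_top)
    (not_dvd_relIndex_inf_of_normal Y N) fun z hz => by
      obtain ⟨j, hj⟩ := Components.exists_coprime_pow (p := p) z
      refine ⟨j, Subgroup.mem_subgroupOf.2 ?_, pow_mem hz _⟩
      refine mem_hSub_of_fix h hnil hP (by rwa [Subgroup.orderOf_coe]) fun x hx =>
        hNc _ (pow_mem hz _) x hx.1
  have hmem := hle hgN
  rw [sup_comm, ← SetLike.mem_coe, Subgroup.mul_normal] at hmem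
  obtain ⟨y, hy, j, hj, hyj⟩ := Set.mem_mul.1 hmem
  obtain ⟨hy1, hy2⟩ := Subgroup.mem_inf.1 hy
  rw [hY, Subgroup.mem_subgroupOf] at hy1
  obtain ⟨c, hc, hce⟩ := (mem_imgι (hP.nP_le h)).1 hy1
  have hcC : c ∈ centralizerIn S P := ⟨hc.1, Subgroup.mem_centralizer_iff.2 fun x hx => by
    refine M.inj (mul_mem (hPN hx) (hP.nP_le h hc)) (mul_mem (hP.nP_le h hc) (hPN hx)) ?_
    rw [M.mul (hPN hx) (hP.nP_le h hc), M.mul (hP.nP_le h hc) (hPN hx), show M.e c = _ from hce]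
    exact Subgroup.mem_centralizer_iff.1 hy2 _ (ext1_mem_imgι hPN hx)⟩
  refine ⟨c, hcC, ?_⟩
  have hg : g = (y : M.G) * (j : M.G) := (congrArg Subtype.val hyj).symm
  rw [hg, show M.e c = _ from hce]
  exact Subgroup.mem_inf.2 ⟨mul_mem (mul_mem y.2 j.2) (inv_mem y.2),
    (M.hSub_normal h hP.inner hP.selfC.le).conj_mem _ (Subgroup.mem_inf.1 hj).1 _⟩

end

end CfsgLib.Fusion.Balance
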