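import Cfsg.Agent.Lib.Fusion.Balance.Layer
import Cfsg.Agent.Lib.Fusion.System.Components.Dichotomy

/-!
# E-balance

Every component of the normalizer system of a fully normalized subgroup lies over a subgroup of
the layer group.
-/

set_option autoImplicit false
set_option maxHeartbeats 1000000
set_option linter.style.haveILetI false
set_option linter.unusedSectionVars false

open Subgroup
open scoped Classical Pointwise

namespace CfsgLib.Fusion.Balance

open Cfsg (FusionSystem autInducedBy)
open Cfsg.FusionSystem (normalizerIn centralizerIn)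
open CfsgLib.Fusion CfsgLib.Fusion.CentLift CfsgLib.Fusion.Meet
open CfsgLib.Fusion.Transport (SysIso)

universe u

variable {Ω : Type u} [Group Ω] {S T V : Subgroup Ω} {F : FusionSystem S} {p : ℕ}

/-- The order of the group, then the index of the core. -/
noncomputable def meas (F : FusionSystem S) : ℕ :=
  Nat.card S * (Nat.card S + 1) + (Nat.card S - Nat.card F.core)

theorem meas_lt_of_lt {w a s b : ℕ} (h : w < s) :
    w * (w + 1) + (w - a) < s * (s + 1) + (s - b) := by
  have h2 : (w + 1) * (w + 1 + 1) ≤ s * (s + 1) := Nat.mul_le_mul h (by omega)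
  have h3 : (w + 1) * (w + 1 + 1) = w * (w + 1) + 2 * w + 2 := by ring
  omega

variable [Finite S] [Fact p.Prime]

theorem meas_lt {Y : Subgroup Ω} (hF : F.IsFullyNormalized Y) (hYQ : ¬ Y ≤ F.core) :
    meas (nQ F Y hF.1) < meas F := by
  have hWS : normalizerIn S Y ≤ S := inf_le_left
  haveI := finite_of_le hWS
  rcases hWS.eq_or_lt with he | hlt
  · have hcore : F.core ⊔ Y ≤ (nQ F Y hF.1).core := by
      refine sup_le (le_core (isNormal_iff.2 ⟨?_, fun P f hf => ?_⟩))
        (le_core (isNormal_iff.2 ⟨le_normalizerIn hF.1, fun P f hf => ?_⟩))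
      · exact isNormal_core.1.trans he.ge
      · obtain ⟨hP, hv, k, hk, hkf, hkY⟩ := isMap_nSystem_iff.1 hf
        obtain ⟨g, hg, hgk, hgQ⟩ := (isNormal_iff.1 (isNormal_core (F := F))).2 _ k hk
        have hle : P ⊔ F.core ⊔ Y ≤ P ⊔ Y ⊔ F.core := by rw [sup_right_comm]
        refine ⟨g, isMap_nSystem_iff.2 ⟨sup_le hP (isNormal_core.1.trans he.ge), fun x hx => ?_, g,
          hg.mono hle, fun _ _ => rfl, ?_⟩,
          fun x hx => (hgk x (Subgroup.mem_sup_left hx)).trans (hkf x hx), hgQ⟩
        · exact he.ge (hg.mem_S (hle (Subgroup.mem_sup_left hx)))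
        · rw [IsMap.img_congr fun x hx => hgk x (Subgroup.mem_sup_right hx)]
          exact hkY
      · obtain ⟨hP, hv, k, hk, hkf, hkY⟩ := isMap_nSystem_iff.1 hf
        refine ⟨k, isMap_nSystem_iff.2 ⟨sup_le hP (le_normalizerIn hF.1),
          fun x hx => he.ge (hk.mem_S hx), k, hk.mono (sup_le le_rfl le_sup_right),
          fun _ _ => rfl, hkY⟩, hkf, hkY⟩
    have h1 : Nat.card F.core < Nat.card (nQ F Y hF.1).core := by
      refine card_lt_of_lt (isNormal_core.1.trans hWS) (lt_of_lt_of_le ?_ hcore)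
      exact lt_of_le_of_ne le_sup_left fun e => hYQ (le_sup_right.trans e.ge)
    have h2 : Nat.card (nQ F Y hF.1).core ≤ Nat.card S :=
      card_le_of_le' le_rfl ((isNormal_core (F := nQ F Y hF.1)).1.trans hWS)
    have h3 : Nat.card (normalizerIn S Y) = Nat.card S := congrArg (fun A : Subgroup Ω => Nat.card A) he
    have h4 : Nat.card (normalizerIn S Y) * (Nat.card (normalizerIn S Y) + 1) =
        Nat.card S * (Nat.card S + 1) := by rw [h3]
    unfold meas
    omega
  · have h1 : Nat.card (normalizerIn S Y) < Nat.card S := card_lt_of_lt le_rfl hlt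
    exact meas_lt_of_lt h1

omit [Finite S] in
/-- The components of normalizer systems lie over subgroups of the layer group. -/
theorem comp_le_aux (n : ℕ) : ∀ (S : Subgroup Ω) (F : FusionSystem S), Finite S → IsPGroup p S →
    F.IsSaturated p → meas F = n → ∀ (TL : Subgroup Ω) (L : FusionSystem TL), L.IsLayerOf F p →
      ∀ (X : Subgroup Ω) (hX : F.IsFullyNormalized X) (V : Subgroup Ω) (K : FusionSystem V),
        K.IsComponentIn (nQ F X hX.1) p → V ≤ TL := by
  induction n using Nat.strong_induction_on with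
  | _ n ihF =>
  intro S F hfin hS hF hn TL L hL
  haveI := hfin
  subst hn
  obtain ⟨D, hD⟩ := exists_fitting hS hF hL
  have hDf : D.IsGeneralizedFittingOf F p := ⟨TL, L, hL, hD⟩
  have hDn := (fitting_normal hS hF).2 _ D hDf
  have hnil := nil_fitting hS hF hDf
  let Q := F.core
  let T := Q ⊔ TL
  have h : Setup F p D D T :=
    ⟨hS, hF, Side.of_weaklyNormal hS hDn.1, Side.of_weaklyNormal hS hDn.1, inf_idem _⟩
  have hQn : F.IsNormal Q := isNormal_core
  have hTL : F.StronglyClosed TL := hL.1.1.2.2.2.1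
  suffices H : ∀ (k : ℕ) (X : Subgroup Ω) (hX : F.IsFullyNormalized X),
      Nat.card T - Nat.card (X ⊓ T : Subgroup Ω) = k →
      ∀ (V : Subgroup Ω) (K : FusionSystem V), K.IsComponentIn (nQ F X hX.1) p → V ≤ TL from
    fun X hX => H _ X hX rfl
  intro k
  induction k using Nat.strong_induction_on with
  | _ k ihX =>
  intro X hX hk
  subst hk
  have hgrow : ∀ (X : Subgroup Ω), F.IsFullyNormalized X → ¬ T ≤ X →
      Nat.card (X ⊓ T : Subgroup Ω) < Nat.card (normalizerIn T X) := by
    intro X hX hTX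
    have hXT : X ⊓ T ≤ normalizerIn T X := fun x hx =>
      Subgroup.mem_inf.2 ⟨hx.2, Subgroup.le_normalizer hx.1⟩
    refine card_lt_of_lt ((inf_le_left : normalizerIn T X ≤ T).trans h.hTS)
      (lt_of_le_not_ge hXT fun hle => ?_)
    have hA : X ⊔ T ≤ S := sup_le hX.1 h.hTS
    haveI := finite_of_le hA
    have h1 := lt_normalizerIn (hS.to_le hA) (le_sup_left : X ≤ X ⊔ T)
      fun e => hTX (le_sup_right.trans e.ge)
    refine h1.2 fun m hm => ?_
    have hmA : m ∈ ((X ⊔ T : Subgroup Ω) : Set Ω) := hm.1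
    rw [coe_mul_of_left_le_normalizer_right X T (hX.1.trans h.normal)] at hmA
    obtain ⟨x, hx, t, ht, rfl⟩ := Set.mem_mul.1 hmA
    have htN := mul_mem (inv_mem (Subgroup.le_normalizer hx :
      x ∈ Subgroup.normalizer (X : Set Ω))) hm.2
    rw [inv_mul_cancel_left] at htN
    exact mul_mem hx (hle (Subgroup.mem_inf.2 ⟨ht, htN⟩)).1
  -- the claim when `X N_T(X)` is fully normalized
  have key : ∀ (X' : Subgroup Ω) (hX' : F.IsFullyNormalized X'),
      Nat.card (X' ⊓ T : Subgroup Ω) = Nat.card (X ⊓ T : Subgroup Ω) →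
      (T ≤ X' ∨ F.IsFullyNormalized (X' ⊔ normalizerIn T X')) →
      ∀ (V : Subgroup Ω) (K : FusionSystem V), K.IsComponentIn (nQ F X' hX'.1) p → V ≤ TL := by
    intro X' hX' hcard hYfn V K hK
    set U := normalizerIn T X' with hU
    have hWS : normalizerIn S X' ≤ S := inf_le_left
    haveI := finite_of_le hWS
    have hWp : IsPGroup p (normalizerIn S X') := hS.to_le hWS
    have hNs : (nQ F X' hX'.1).IsSaturated p := isSaturated_nQ hS hF hX'
    obtain ⟨DT, hDT, hDTm⟩ := sub_main h hDn hnil hX' h.closed le_rfl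
      fun P a hP _ _ x hx => T.mul_mem (T.inv_mem (hP hx)) (hP (autFun_mem a hx))
    have hVW := Transport.subnormal_le hK.1
    have hVS := hVW.trans hWS
    have hKN : ∀ {P : Subgroup Ω} {f : Ω → Ω}, IsMap K P f → IsMap (nQ F X' hX'.1) P f :=
      fun hf => Components.isMap_of_sub (Components.subnormal_isSubsystemOf hK.1) hf
    by_cases hVU : V ≤ U
    · have hKD := component_of_le hWp hNs hK hDT hVU
      refine le_of_disp hK.2 (fun v hv y hy => Components.conj_mem_of_stronglyClosed hTL (hVS hv) hy)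
        fun P hP a ha hco => fitting_disp hS hF hL hD (hP.trans hVS)
          (hDTm P _ (Components.isMap_of_sub (Components.subnormal_isSubsystemOf hKD.1) ha)) hco
    obtain ⟨hVC, hfix⟩ := comp_commute hK.1 ‹_› ‹_› hWp hNs hK.2 U DT hDT hVU
    by_cases hTX : T ≤ X'
    · -- the group is then trivial
      have hTU : T ≤ U := fun t ht => Subgroup.mem_inf.2 ⟨ht, Subgroup.le_normalizer (hTX ht)⟩
      refine absurd ((le_of_disp hK.2 (M := ⊥) (fun v _ y hy => ?_)
        fun P hP a ha hco x hx => ?_).trans bot_le) hVU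
      · rw [Subgroup.mem_bot.1 hy, mul_one, mul_inv_cancel]; exact one_mem _
      obtain ⟨g, hg, hga, hgU⟩ := hfix P _ ha
      have ha1 : a = 1 := hnil T (selfC_T h) P
        (fun y hy => ⟨hVS (hP hy), Subgroup.centralizer_le hTU (hVC (hP hy)).2⟩) a g
        ((isMap_of_nQ hX'.1 hg).mono (sup_le_sup_left hTU P)) hga (fun r hr => hgU r (hTU hr)) hco
      rw [ha1, autFun_one hx, inv_mul_cancel]
      exact one_mem _
    replace hYfn := hYfn.resolve_left hTX
    set Y := X' ⊔ U with hY
    have hUW : U ≤ normalizerIn S X' := inf_le_inf_right _ h.hTS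
    by_cases hYQ : Y ≤ Q
    · -- everything happens in the centralizer of the core
      have hXQ : X' ≤ Q := le_sup_left.trans hYQ
      have hUQ : U ≤ Q := le_sup_right.trans hYQ
      have hQT : Q ≤ T := le_sup_left
      have hXU : X' ≤ U := fun x hx =>
        Subgroup.mem_inf.2 ⟨hQT (hXQ hx), Subgroup.le_normalizer hx⟩
      have hSQ : ∀ s ∈ S, s ∈ Subgroup.normalizer (Q : Set Ω) := fun s hs =>
        (le_normalizerIn_of_stronglyClosed (stronglyClosed_of_isNormal hQn) hs).2
      have hVCQ : V ≤ centralizerIn S Q := by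
        refine fun v hv => Subgroup.mem_inf.2 ⟨hVS hv, ?_⟩
        refine le_of_disp hK.2 (M := Subgroup.centralizer (Q : Set Ω)) (fun v hv y hy => ?_)
          (fun P hP a ha hco x hx => ?_) hv
        · refine Subgroup.mem_centralizer_iff.2 fun q hq => ?_
          have h1 := (Subgroup.mem_normalizer_iff''.1 (hSQ v (hVS hv)) q).1 hq
          have h2 := Subgroup.mem_centralizer_iff.1 hy _ h1
          calc q * (v * y * v⁻¹) = v * (v⁻¹ * q * v * y) * v⁻¹ := by group
            _ = v * y * v⁻¹ * q := by rw [h2]; group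
        obtain ⟨g, hg, hga, hgU⟩ := hfix P _ ha
        obtain ⟨e, he, heg, heQ⟩ := (isNormal_iff.1 hQn).2 _ g (isMap_of_nQ hX'.1 hg)
        set W := P ⊔ U ⊔ Q with hW
        have hWle : W ≤ S := he.le
        haveI := finite_of_le hWle
        haveI := finite_mulAut (P := W)
        have hPW : P ≤ W := le_sup_left.trans le_sup_left
        have hUW' : U ≤ W := le_sup_right.trans le_sup_left
        have hei : img W e = W := img_eq_of_map_le hWle he le_rfl fun z hz => he.map_mem_of_sup
          (fun y hy => Subgroup.mem_sup_left (by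
            rw [heg y hy]
            exact hg.map_mem_of_sup
              (fun w hw => Subgroup.mem_sup_left (by rw [hga w hw]; exact autFun_mem a hw))
              (fun w hw => Subgroup.mem_sup_right (by rw [hgU w hw]; exact hw)) hy))
          (fun y hy => Subgroup.mem_sup_right (mem_of_img_eq he le_sup_right heQ hy)) hz
        obtain ⟨j, hjco, hja⟩ := exists_pow_coprime (autOf he hei) hco
        set G := autOf he hei ^ j with hG
        have hGP : ∀ y ∈ P, autFun G y = autFun a y := fun y hy => by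
          rw [hG, autFun_pow_eq hPW (α := a) (fun z hz => by
            rw [autFun_autOf he hei (hPW hz), heg z (Subgroup.mem_sup_left hz), hga z hz]) j y hy,
            hja]
        have hGU : ∀ y ∈ U, autFun G y = y := fun y hy => by
          rw [hG, autFun_pow_eq hUW' (α := (1 : MulAut U)) (fun z hz => by
            rw [autFun_autOf he hei (hUW' hz), heg z (Subgroup.mem_sup_right hz), hgU z hz,
              autFun_one hz]) j y hy, one_pow, autFun_one hy]
        have hGm : G ∈ F.autGroup W := pow_mem (autOf_mem he hei) j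
        have hQW : Q ≤ W := le_sup_right
        have hGQ := Components.fixed_of_centralizer_fixed hS hWle hQW hUW'
          (fun u hu => hSQ u (h.hTS hu.1)) (a := ⟨G, hGm⟩)
          (by rw [← Subgroup.orderOf_coe]; exact hjco)
          (fun q hq => cl_mem (stronglyClosed_of_isNormal hQn)
            ((mem_autGroup_iff hWle).1 hGm) (hQW hq) hq)
          hGU fun q hq => hGU q (Subgroup.mem_inf.2 ⟨hQT hq.1,
            Subgroup.centralizer_le_normalizer _ (Subgroup.centralizer_le hXU hq.2)⟩)
        refine Subgroup.mem_centralizer_iff.2 fun q hq => ?_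
        have hq' : x * q * x⁻¹ ∈ Q :=
          (Subgroup.mem_normalizer_iff.1 (hSQ x (hVS (hP hx))) q).1 hq
        have h1 := hGQ _ hq'
        rw [((mem_autGroup_iff hWle).1 hGm).map_conj (hPW hx) (hQW hq), hGP x hx, hGQ q hq] at h1
        calc q * (x⁻¹ * autFun a x) = x⁻¹ * (x * q * x⁻¹) * autFun a x := by group
          _ = _ := by rw [← h1]; group
      let C := Components.cSys F Q hQn.1
      have hCn : C.IsNormalIn F p := Components.cSys_isNormalIn hS hF hQn
      have hCW : centralizerIn S Q ≤ normalizerIn S X' := fun c hc => Subgroup.mem_inf.2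
        ⟨hc.1, Subgroup.centralizer_le_normalizer _ (Subgroup.centralizer_le hXQ hc.2)⟩
      haveI := finite_of_le (hCW.trans hWS)
      have hCN : C.IsSubsystemOf (nQ F X' hX'.1) := Transport.subsystem_iff.2 fun P f hf => by
        obtain ⟨h1, h2, g, hg, hgf, hgQ⟩ := isMap_cSystem_iff.1 hf
        exact isMap_nSystem_iff.2 ⟨h1.trans hCW, fun x hx => hCW (h2 x hx), g,
          hg.mono (sup_le_sup_left hXQ P), hgf, img_eq_self_of_fix fun x hx => hgQ x (hXQ hx)⟩
      have hCs := Side.of_weaklyNormal hS hCn.1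
      have hCcl : (nQ F X' hX'.1).StronglyClosed (centralizerIn S Q) := stronglyClosed_iff.2
        ⟨hCW, fun R f hR hf x hx =>
          (stronglyClosed_iff.1 hCs.closed).2 R f hR (isMap_of_nQ hX'.1 hf) x hx⟩
      have hCwn : C.IsWeaklyNormalIn (nQ F X' hX'.1) p :=
        ⟨hCn.1.1, hNs, (isInvariantIn_iff_strongInv hWp hNs hCN hCcl).2
          fun P R f g hPR hR hf hfR hg => hCs.inv P R f g hPR hR hf hfR (isMap_of_nQ hX'.1 hg)⟩
      obtain ⟨C₀, hC₀⟩ := Cfsg.Agent.S5140.result p (hS.to_le (hCW.trans hWS)) C hCn.1.1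
      have hKC := component_of_le hWp hNs hK
        (Cfsg.Agent.S5141.result p hWp _ hNs C hCwn C₀ hC₀) hVCQ
      exact le_of_sub (hL.2.1 V K (component_trans hKC
        ((Cfsg.FusionSystem.IsSubnormalIn.refl C₀ p).step
          (Cfsg.Agent.S5141.result p hS F hF C hCn.1 C₀ hC₀))))
    -- descend to the normalizer system of `Y`
    set SY := normalizerIn S Y with hSY
    have hSYS : SY ≤ S := inf_le_left
    haveI := finite_of_le hSYS
    have hSYp : IsPGroup p SY := hS.to_le hSYS
    have hMs : (nQ F Y hYfn.1).IsSaturated p := isSaturated_nQ hS hF hYfn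
    have hYW : Y ≤ normalizerIn S X' := sup_le (le_normalizerIn hX'.1) hUW
    have hWSY : normalizerIn S X' ≤ SY := fun s hs => by
      have hcl : ∀ s ∈ normalizerIn S X', ∀ z ∈ Y, s * z * s⁻¹ ∈ Y := fun s hs z hz =>
        (isMap_conj (F := F) hYfn.1 hs.1).map_mem_of_sup
          (fun x hx => Subgroup.mem_sup_left ((Subgroup.mem_normalizer_iff.1 hs.2 x).1 hx))
          (fun u hu => Subgroup.mem_sup_right (Subgroup.mem_inf.2
            ⟨(Subgroup.mem_normalizer_iff.1 (h.normal hs.1) u).1 hu.1,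
              mul_mem (mul_mem hs.2 hu.2) (inv_mem hs.2)⟩)) hz
      refine Subgroup.mem_inf.2 ⟨hs.1, Subgroup.mem_normalizer_iff.2 fun z => ⟨hcl s hs z, fun hz => ?_⟩⟩
      simpa [mul_assoc] using hcl s⁻¹ (inv_mem hs) _ hz
    have hWeq : normalizerIn S X' = normalizerIn SY X' :=
      le_antisymm (le_inf hWSY inf_le_right) (inf_le_inf_right _ hSYS)
    have hXSY : X' ≤ SY := (le_normalizerIn hX'.1).trans hWSY
    have hXM : (nQ F Y hYfn.1).IsFullyNormalized X' := ⟨hXSY, fun R hR => by
      obtain ⟨f, hf, rfl⟩ := isConj_iff.1 hR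
      rw [← hWeq]
      exact (card_le_of_le' inf_le_left (inf_le_inf_right _ hSYS)).trans
        (hX'.2 _ (isConj_iff.2 ⟨f, isMap_of_nQ hYfn.1 hf, rfl⟩))⟩
    set N' := nSystem (nQ F Y hYfn.1) (normalizerIn S X') X' hWeq.le hXSY with hN'
    have hN's : N'.IsSaturated p :=
      CentFocal.isSaturated_nSystem hSYp hMs hXM hWeq hWeq.le
    have hN'N : ∀ P f, IsMap N' P f → IsMap (nQ F X' hX'.1) P f := fun P f hf => by
      obtain ⟨h1, h2, e, he, hef, heX⟩ := isMap_nSystem_iff.1 hf
      exact isMap_nSystem_iff.2 ⟨h1, h2, e, isMap_of_nQ hYfn.1 he, hef, heX⟩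
    have hUcl : (nQ F X' hX'.1).StronglyClosed U := hDT.1.2.2.2.1
    have hto : ∀ P f, U ≤ P → IsMap (nQ F X' hX'.1) P f → IsMap N' P f := fun P f hUP hf => by
      obtain ⟨h1, h2, e, he, hef, heX⟩ := isMap_nSystem_iff.1 hf
      refine isMap_nSystem_iff.2 ⟨h1, h2, e, isMap_nSystem_iff.2 ⟨?_, ?_, e, ?_, fun _ _ => rfl, ?_⟩,
        hef, heX⟩
      · exact sup_le (h1.trans hWSY) hXSY
      · exact fun z hz => he.map_mem_of_sup
          (fun x hx => by rw [hef x hx]; exact hWSY (h2 x hx))
          (fun x hx => hXSY (mem_of_img_eq he le_sup_right heX hx)) hz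
      · exact he.mono (sup_le le_rfl (sup_le le_sup_right (hUP.trans le_sup_left)))
      · have hYd : Y ≤ P ⊔ X' := sup_le le_sup_right (hUP.trans le_sup_left)
        refine img_eq_of_map_le hYfn.1 he hYd fun z hz => (he.mono hYd).map_mem_of_sup
          (fun x hx => Subgroup.mem_sup_left (mem_of_img_eq he le_sup_right heX hx))
          (fun u hu => Subgroup.mem_sup_right (by
            rw [hef u (hUP hu)]
            exact cl_mem hUcl hf (hUP hu) hu)) hz
    set Z := CentFocal.cent (nQ F X' hX'.1) DT with hZ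
    have hZC : Z ≤ centralizerIn (normalizerIn S X') U := CentFocal.cent_le
    obtain ⟨D₂, hD₂, hD₂c⟩ := CentFocal.exists_normal_of_focal_le hWp hNs hUcl hZC
      (CentFocal.stronglyClosed_cent hWp hNs hDT) (CentFocal.focal_le_cent hWp hNs hDT)
    have hVZ : V ≤ Z := by
      refine le_of_disp hK.2 (fun v hv y hy => Components.conj_mem_of_stronglyClosed
        (CentFocal.stronglyClosed_cent hWp hNs hDT) (hVW hv) hy) fun P hP a ha _ x hx => ?_
      obtain ⟨g, hg, hga, hgU⟩ := hfix P _ ha
      refine CentFocal.focal_le_cent hWp hNs hDT (Subgroup.subset_closure ⟨x, hVC (hP hx), g,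
        hg.mono (sup_le_sup_right (Subgroup.zpowers_le.2 hx) _), hgU, ?_⟩)
      rw [hga x hx]
    have hD₂N' : ∀ P f, IsMap D₂ P f → IsMap N' P f := fun P f hf => by
      obtain ⟨φ, hφ, hφf⟩ := hf
      obtain ⟨-, -, g, hg, hgf, -⟩ := mem_centralizerHom_iff.1 (hD₂c P hφ)
      exact ((hto _ g le_sup_right hg).mono le_sup_left).congr fun x hx => by
        rw [hgf x hx, toFun_apply φ hx, hφf]
    have hUZ : U ≤ Z ⊔ centralizerIn (normalizerIn S X') Z :=
      (CentFocal.le_centralizerIn_of_le hUW hZC).trans le_sup_right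
    have hD₂n : D₂.IsNormalIn N' p :=
      normal_restrict hWp hN's hN'N hD₂ hD₂N' fun f hf => hto _ f hUZ hf
    have hKN' : K.IsComponentIn N' p := component_trans (component_of_le hWp hNs hK hD₂ hVZ)
      ((Cfsg.FusionSystem.IsSubnormalIn.refl D₂ p).step hD₂n)
    have hKM := component_nSystem hWeq hWeq.le hXSY hKN'
    obtain ⟨TM, LM, hLM, -⟩ := exists_layer hSYp hMs
    refine (ihF _ (meas_lt hYfn hYQ) SY _ ‹_› hSYp hMs rfl TM LM hLM X' hXM V K hKM).trans
      (le_of_sub (layer_sub hS hF hL hYfn (ihX _ ?_ Y hYfn rfl) hLM))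
    -- `Y ∩ T` is bigger than `X ∩ T`
    have hYT : U ≤ Y ⊓ T := le_inf le_sup_right inf_le_left
    have h1 : Nat.card (X' ⊓ T : Subgroup Ω) < Nat.card U := hgrow X' hX' hTX
    have h2 : Nat.card U ≤ Nat.card (Y ⊓ T : Subgroup Ω) :=
      card_le_of_le' (inf_le_right.trans h.hTS) hYT
    have h3 : Nat.card (Y ⊓ T : Subgroup Ω) ≤ Nat.card T := card_le_of_le' h.hTS inf_le_right
    omega
  intro V K hK
  by_cases hTX : T ≤ X
  · exact key X hX rfl (Or.inl hTX) V K hK
  -- move `X N_T(X)` to a fully normalized subgroup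
  have hUW : normalizerIn T X ≤ normalizerIn S X := inf_le_inf_right _ h.hTS
  have hYS : X ⊔ normalizerIn T X ≤ S := sup_le hX.1 (hUW.trans inf_le_left)
  have hNY : normalizerIn S X ≤ normalizerIn S (X ⊔ normalizerIn T X) := fun s hs => by
    refine Subgroup.mem_inf.2 ⟨hs.1, ?_⟩
    refine conjBy_eq_iff.1 (eq_of_le_of_card_le hYS (conjBy_le_iff.2 fun z hz => ?_)
      (card_conjBy s _).ge)
    exact (isMap_conj (F := F) hYS hs.1).map_mem_of_sup
      (fun x hx => Subgroup.mem_sup_left ((Subgroup.mem_normalizer_iff.1 hs.2 x).1 hx))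
      (fun u hu => Subgroup.mem_sup_right (Subgroup.mem_inf.2
        ⟨(Subgroup.mem_normalizer_iff.1 (h.normal hs.1) u).1 hu.1,
          mul_mem (mul_mem hs.2 hu.2) (inv_mem hs.2)⟩)) hz
  obtain ⟨φ, φ', hφ, hX', hY', heq, hI⟩ := exists_sysIso hS hF hX hYS hNY
  have hφN := hφ.mono hNY
  have hφX := hφN.mono (le_normalizerIn hX.1)
  have hUeq : img (normalizerIn T X) φ = normalizerIn T (img X φ) := by
    have h1 : normalizerIn T X = normalizerIn S X ⊓ T := le_antisymm
      (le_inf hUW inf_le_left) fun x hx => Subgroup.mem_inf.2 ⟨hx.2, hx.1.2⟩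
    rw [h1, ← img_inf_T h hφN, heq]
    exact le_antisymm (fun x hx => Subgroup.mem_inf.2 ⟨hx.2, hx.1.2⟩)
      (fun x hx => Subgroup.mem_inf.2 ⟨⟨h.hTS hx.1, hx.2⟩, hx.1⟩)
  have hYeq : img (X ⊔ normalizerIn T X) φ = img X φ ⊔ normalizerIn T (img X φ) := by
    have hφY := hφN.mono (sup_le (le_normalizerIn hX.1) hUW)
    rw [← hUeq]
    refine le_antisymm (hφY.img_le_of_forall fun z hz => hφY.map_mem_of_sup
      (fun x hx => Subgroup.mem_sup_left (hφX.mem_img.2 ⟨x, hx, rfl⟩))
      (fun u hu => Subgroup.mem_sup_right ((hφN.mono hUW).mem_img.2 ⟨u, hu, rfl⟩)) hz)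
      (sup_le (hφY.img_mono le_sup_left) (hφY.img_mono le_sup_right))
  have hWS : normalizerIn S X ≤ S := inf_le_left
  haveI := finite_of_le hWS
  obtain ⟨K', -, hK'⟩ := Transport.component_transport (hS.to_le hWS) hI hK
  have hVT := key (img X φ) hX'
    (by rw [img_inf_T h hφX]; exact (hφX.mono inf_le_left).card_img)
    (Or.inr (hYeq ▸ hY')) _ K' hK'
  intro v hv
  have hvW := Transport.subnormal_le hK.1 hv
  obtain ⟨ψ, hψ, hψ1, -⟩ := hφN.exists_inv
  rw [← hψ1 v hvW]
  refine cl_mem hTL hψ (hφN.mem_img.2 ⟨v, hvW, rfl⟩) (hVT ?_)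
  exact Subgroup.subset_closure ⟨v, hv, rfl⟩

/-- E-balance. -/
theorem layer_balance (hS : IsPGroup p S) (hF : F.IsSaturated p) {X : Subgroup Ω}
    (hX : F.IsFullyNormalized X) {L : FusionSystem T} (hL : L.IsLayerOf F p)
    {EN : FusionSystem V} (hEN : EN.IsLayerOf (nQ F X hX.1) p) : EN.IsSubsystemOf L :=
  layer_sub hS hF hL hX (comp_le_aux _ S F ‹_› hS hF rfl T L hL X hX) hEN

end CfsgLib.Fusion.Balance
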