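import Cfsg.Agent.Lib.Fusion.System.Meet.LayerNormal
import Cfsg.Agent.Lib.Fusion.System.Meet.Commute
import Cfsg.Agent.Lib.Fusion.System.Components.Fitting
import Cfsg.Agent.Lib.Fusion.System.CentralizerNormal

/-!
# The centralizer systems below the generalized Fitting subsystem are inner

`Nil F T p`: for `R ≤ T` containing its centralizers in `T`, an automorphism of order prime to `p`
of a subgroup of `C_S(R)` extending to a map fixing `R` is trivial. This holds for the group `T` of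
the generalized Fitting subsystem, and makes the normalizer systems of such `R` constrained, with
`R C_S(R)` normal.
-/

set_option autoImplicit false
set_option maxHeartbeats 1000000
set_option linter.style.haveILetI false
set_option linter.unusedSectionVars false

open Subgroup
open scoped Classical Pointwise

namespace CfsgLib.Fusion.Balance

open Cfsg (FusionSystem autInducedBy)
open Cfsg.FusionSystem (normalizerIn centralizerIn)
open CfsgLib.Fusion CfsgLib.Fusion.CentLift CfsgLib.Fusion.Meet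

universe u

variable {Ω : Type u} [Group Ω] {S T : Subgroup Ω} {F : FusionSystem S} {p : ℕ}

/-- Automorphisms of order prime to `p` centralizing a self-centralizing subgroup of `T` are
trivial on its centralizer. -/
def Nil (F : FusionSystem S) (T : Subgroup Ω) (p : ℕ) : Prop :=
  ∀ R : Subgroup Ω, SelfC F T R → ∀ P : Subgroup Ω, P ≤ centralizerIn S R →
    ∀ (a : MulAut P) (g : Ω → Ω), IsMap F (P ⊔ R) g → (∀ x ∈ P, g x = autFun a x) →
      (∀ r ∈ R, g r = r) → (orderOf a).Coprime p → a = 1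

variable [Finite S] [Fact p.Prime]

/-- An automorphism of order prime to `p` with fixed displacements is trivial. -/
theorem eq_one_of_disp {P : Subgroup Ω} (hS : IsPGroup p S) (hP : P ≤ S) {a : MulAut P}
    (hco : (orderOf a).Coprime p) {M : Subgroup Ω} (hM : M ≤ P)
    (hfix : ∀ x ∈ M, autFun a x = x) (hd : ∀ x ∈ P, x⁻¹ * autFun a x ∈ M) : a = 1 := by
  obtain ⟨n, hn⟩ := IsPGroup.iff_card.1 hS
  obtain ⟨m, hm⟩ := Components.exists_pow_pow_eq hco n
  have h1 : a ^ p ^ n = 1 := autFun_ext fun x hx => by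
    rw [pow_fix_step hP hn le_rfl hM hfix hd x hx, autFun_one hx]
  rw [← hm, h1, one_pow]

/-- A power with the action of a given automorphism of order prime to `p`, itself of such order. -/
theorem exists_pow_coprime {M : Type*} [Group M] [Finite M] {N : Type*} [Group N] (g : M) {a : N}
    (hco : (orderOf a).Coprime p) : ∃ k : ℕ, (orderOf (g ^ k)).Coprime p ∧ a ^ k = a := by
  obtain ⟨j, hj⟩ := Components.exists_coprime_pow (p := p) g
  obtain ⟨m, hm⟩ := Components.exists_pow_pow_eq hco j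
  refine ⟨p ^ j * m, ?_, by rw [pow_mul, hm]⟩
  rw [pow_mul]
  exact Nat.Coprime.coprime_dvd_left (orderOf_pow_dvd m) hj

/-- The core and the layer below a generalized Fitting subsystem. -/
theorem fitting_data {U : Subgroup Ω} {D : FusionSystem U} (hD : D.IsGeneralizedFittingOf F p) :
    ∃ (T : Subgroup Ω) (E : FusionSystem T), E.IsLayerOf F p ∧ U = F.core ⊔ T ∧
      E.IsSubsystemOf D ∧
      Cfsg.FusionSystem.IsCentralProductOf (Cfsg.innerFusionSystem F.core) E D := by
  obtain ⟨T, E, hE, hcp⟩ := hD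
  haveI := finite_of_le (normal_le hE.1)
  haveI : Finite F.core := finite_of_le (isNormal_core (F := F)).1
  exact ⟨T, E, hE, (cp_data hcp).2, Components.isSubsystemOf_centralProduct hcp, hcp⟩

/-- The generalized Fitting subsystem has the property `Nil`. -/
theorem nil_fitting (hS : IsPGroup p S) (hF : F.IsSaturated p) {D : FusionSystem T}
    (hD : D.IsGeneralizedFittingOf F p) : Nil F T p := by
  have hDn : D.IsNormalIn F p := (fitting_normal hS hF).2 T D hD
  have hT : F.StronglyClosed T := hDn.1.2.2.2.1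
  have hTS := hT.1
  obtain ⟨T', E, hE, hTeq, -, -⟩ := fitting_data hD
  have h : Setup F p D D T :=
    ⟨hS, hF, Side.of_weaklyNormal hS hDn.1, Side.of_weaklyNormal hS hDn.1, inf_idem T⟩
  intro R hR
  induction hk : Nat.card T - Nat.card R using Nat.strong_induction_on generalizing R with
  | _ k ih =>
  subst hk
  intro P hP a g hg hga hgR hco
  have hPS : P ≤ S := hP.trans inf_le_left
  by_cases hRT : R = T
  · subst hRT
    -- the top: displacements lie in the core
    have hQR : F.core ≤ R := hTeq ▸ le_sup_left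
    have hT'R : T' ≤ R := hTeq ▸ le_sup_right
    refine eq_one_of_disp hS hPS hco (M := P ⊓ R) inf_le_left
      (fun x hx => (hga x hx.1).symm.trans (hgR x hx.2)) fun x hx => ?_
    have hxC := hP hx
    have hax : autFun a x ∈ P := autFun_mem a hx
    refine ⟨P.mul_mem (P.inv_mem hx) hax, hQR ?_⟩
    refine Components.mem_core_of_layer hS hF hE (CentFocal.focal_le_cent hS hF hE.1
      (Subgroup.subset_closure ⟨x, ⟨hxC.1, Subgroup.centralizer_le hT'R hxC.2⟩, g,
        hg.mono (sup_le_sup (Subgroup.zpowers_le.2 hx) hT'R),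
        fun t ht => hgR t (hT'R ht), by rw [hga x hx]⟩)) ?_
    exact Subgroup.mul_mem _ (Subgroup.inv_mem _ (Subgroup.centralizer_le hQR hxC.2))
      (Subgroup.centralizer_le hQR (hP hax).2)
  obtain ⟨Q, hRQ, hQ⟩ := exists_fullyNormalized (F := F) (hR.le.trans hTS)
  obtain ⟨hau, hre⟩ := IsSaturated.automized_receptive hS hF hQ
  obtain ⟨φ, hφ, hφQ, -⟩ := exists_map_normalizer hS hau hre hRQ
  have hRN : R ≤ normalizerIn S R := le_normalizerIn (hR.le.trans hTS)
  have hQs : SelfC F T Q := hφQ ▸ hR.map hT (hφ.mono hRN)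
  have hPR : P ⊔ R ≤ normalizerIn S R := sup_le (hP.trans centralizerIn_le_normalizerIn) hRN
  have hQT : Q ≠ T := fun e => hRT (eq_of_le_of_card_le hTS hR.le (by rw [← isConj_card hRQ, e]))
  -- transport the automorphism
  have hφP := hφ.mono (le_sup_left.trans hPR : P ≤ normalizerIn S R)
  set P' := img P φ with hP'
  have hP'C : P' ≤ centralizerIn S Q := hφP.img_le_of_forall fun x hx => by
    have h1 := map_mem_centralizerIn hφ hRN (hPR (Subgroup.mem_sup_left hx)) (hP hx).2
    rwa [hφQ] at h1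
  obtain ⟨φi, hφi, hi1, hi2⟩ := (hφ.mono hPR).exists_inv
  have hsup : P' ⊔ Q ≤ img (P ⊔ R) φ := by
    refine sup_le ((hφ.mono hPR).img_mono le_sup_left) ?_
    rw [← hφQ]
    exact (hφ.mono hPR).img_mono le_sup_right
  have hgm : ∀ z ∈ P ⊔ R, g z ∈ P ⊔ R := fun z hz => hg.map_mem_of_sup
    (fun x hx => Subgroup.mem_sup_left (by rw [hga x hx]; exact autFun_mem a hx))
    (fun r hr => Subgroup.mem_sup_right (by rw [hgR r hr]; exact hr)) hz
  set g' := φ ∘ (g ∘ φi) with hg'
  have hg'm : IsMap F (P' ⊔ Q) g' := ((hφi.mono hsup).comp hg fun z hz => (hi2 z (hsup hz)).1).comp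
    (hφ.mono hPR) fun z hz => hgm _ (hi2 z (hsup hz)).1
  have hg'e : ∀ x ∈ P, g' (φ x) = φ (autFun a x) := fun x hx => by
    show φ (g (φi (φ x))) = _
    rw [hi1 x (Subgroup.mem_sup_left hx), hga x hx]
  have hg'Q : ∀ q ∈ Q, g' q = q := fun q hq => by
    obtain ⟨r, hr, rfl⟩ := (hφ.mono hRN).mem_img.1 (hφQ.ge hq)
    show φ (g (φi (φ r))) = _
    rw [hi1 r (Subgroup.mem_sup_right hr), hgR r hr]
  set a' := MulAut.congr (mapEquiv hφP) a with ha'
  have ha'e : ∀ x ∈ P, autFun a' (φ x) = φ (autFun a x) := fun x hx => autFun_congr hφP a hx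
  have hga' : ∀ y ∈ P', g' y = autFun a' y := fun y hy => by
    obtain ⟨x, hx, rfl⟩ := hφP.mem_img.1 hy
    rw [hg'e x hx, ha'e x hx]
  have hco' : (orderOf a').Coprime p := by rwa [ha', MulEquiv.orderOf_eq]
  suffices ha1 : a' = 1 by
    exact (MulAut.congr (mapEquiv hφP)).injective (ha1.trans (map_one _).symm)
  -- the normalizer system of `Q`
  have hQS := hQ.1
  set N := nQ F Q hQS with hN
  haveI : Finite (normalizerIn S Q) := finite_of_le (S := S) inf_le_left
  have hNp : IsPGroup p (normalizerIn S Q) := hS.to_le inf_le_left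
  have hNs : N.IsSaturated p := isSaturated_nQ hS hF hQ
  have hQN : Q ≤ normalizerIn S Q := le_normalizerIn hQS
  have hQn : N.IsNormal Q := isNormal_iff.2 ⟨hQN, fun W f hf => by
    obtain ⟨h1, h2, k, hk, hkf, hkQ⟩ := isMap_nSystem_iff.1 hf
    exact ⟨k, isMap_nSystem_iff.2 ⟨sup_le h1 hQN, fun x hx => hk.map_mem_of_sup
      (fun y hy => hkf y hy ▸ h2 y hy) (fun q hq => hQN (mem_of_img_eq hk le_sup_right hkQ hq)) hx,
      k, hk.mono (sup_le le_rfl le_sup_right), fun _ _ => rfl, hkQ⟩, hkf, hkQ⟩⟩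
  set U := centralizerIn (normalizerIn S Q) Q with hU
  set C : FusionSystem U := Components.cSys N Q hQN with hC
  have hCn : C.IsNormalIn N p := Components.cSys_isNormalIn hNp hNs hQn
  have hCs : Side N p C := Side.of_weaklyNormal hNp hCn.1
  have hUC : U ≤ centralizerIn S Q := fun y hy => ⟨hy.1.1, hy.2⟩
  have hCU : centralizerIn S Q ≤ U := fun y hy => ⟨centralizerIn_le_normalizerIn hy, hy.2⟩
  have hs : Setup N p C C U := ⟨hNp, hNs, hCs, hCs, inf_idem U⟩
  set V := normalizerIn T Q with hV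
  have hVT : N.StronglyClosed V := stronglyClosed_iff.2
    ⟨inf_le_inf_right _ hTS, fun W f hW hf x hx =>
      ⟨cl_mem hT (isMap_of_nQ hQS hf) hx (hW hx).1, (hf.mem_S hx).2⟩⟩
  have hUV : U ⊓ V ≤ Q := fun z hz => hQs.cent hTS ⟨hz.2.1, hz.1.2⟩
  set Y := P' ⊔ U ⊓ V with hY
  have hYQ : Y ≤ P' ⊔ Q := sup_le_sup_left hUV P'
  have hYU : Y ≤ U := sup_le (hP'C.trans hCU) inf_le_left
  have hVN : V ≤ normalizerIn (normalizerIn S Q) Y := by
    have key : ∀ t ∈ V, ∀ y ∈ Y, t * y * t⁻¹ ∈ Y := by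
      intro t ht y hy
      have htN : t ∈ normalizerIn S Q := ⟨hTS ht.1, ht.2⟩
      refine (isMap_conj (F := N) (hYU.trans inf_le_left) htN).map_mem_of_sup (fun x hx => ?_)
        (fun z hz => Subgroup.mem_sup_right (show t * z * t⁻¹ ∈ U ⊓ V from ⟨cl_mem hs.closed
          (isMap_conj (F := N) (inf_le_left.trans inf_le_left : U ⊓ V ≤ normalizerIn S Q) htN) hz hz.1,
          V.mul_mem (V.mul_mem ht hz.2) (V.inv_mem ht)⟩)) hy
      have hxC := hP'C hx
      have h2 : x⁻¹ * (t * x * t⁻¹) ∈ U ⊓ V := by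
        have h3 : t * x * t⁻¹ ∈ U := cl_mem hs.closed
          (isMap_conj (F := N) ((hP'C.trans hCU).trans inf_le_left) htN) hx (hCU hxC)
        refine ⟨U.mul_mem (U.inv_mem (hCU hxC)) h3, ?_, ?_⟩
        · rw [show x⁻¹ * (t * x * t⁻¹) = x⁻¹ * t * x⁻¹⁻¹ * t⁻¹ by group]
          exact T.mul_mem (Components.conj_mem_of_stronglyClosed hT (S.inv_mem hxC.1) ht.1)
            (T.inv_mem ht.1)
        · exact (U.mul_mem (U.inv_mem (hCU hxC)) h3).1.2
      rw [show t * x * t⁻¹ = x * (x⁻¹ * (t * x * t⁻¹)) by group]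
      exact mul_mem (Subgroup.mem_sup_left hx) (Subgroup.mem_sup_right h2)
    refine fun t ht => ⟨⟨hTS ht.1, ht.2⟩, Subgroup.mem_normalizer_iff.2 fun y =>
      ⟨key t ht y, fun hy => ?_⟩⟩
    simpa [mul_assoc] using key t⁻¹ (V.inv_mem ht) _ hy
  have hg'Y : ∀ y ∈ Y, g' y ∈ Y := fun y hy => (hg'm.mono hYQ).map_mem_of_sup
    (fun x hx => Subgroup.mem_sup_left (by rw [hga' x hx]; exact autFun_mem a' hx))
    (fun z hz => Subgroup.mem_sup_right (by rw [hg'Q z (hUV hz)]; exact hz)) hy
  have hiY : img Y g' = Y :=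
    img_eq_of_map_le (hYU.trans (inf_le_left.trans inf_le_left)) (hg'm.mono hYQ) le_rfl hg'Y
  have hYC : IsMap C Y g' := by
    have hWQ : Y ⊔ Q ≤ P' ⊔ Q := sup_le hYQ le_sup_right
    refine isMap_cSystem_iff.2 ⟨hYU, fun y hy => hYU (hg'Y y hy), g', isMap_nSystem_iff.2
      ⟨sup_le (hYU.trans inf_le_left) hQN, fun z hz => (hg'm.mono hWQ).map_mem_of_sup
        (fun y hy => hYU.trans inf_le_left (hg'Y y hy))
        (fun q hq => by rw [hg'Q q hq]; exact hQN hq) hz,
        g', hg'm.mono (sup_le hWQ le_sup_right), fun _ _ => rfl, img_eq_self_of_fix hg'Q⟩,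
      fun _ _ => rfl, hg'Q⟩
  set γ := autOf (hg'm.mono hYQ) hiY with hγ
  have hγe : ∀ y ∈ Y, autFun γ y = g' y := fun y hy => autFun_autOf _ hiY hy
  have hYS : Y ≤ S := hYU.trans (inf_le_left.trans inf_le_left)
  haveI := finite_of_le hYS
  haveI := finite_mulAut (P := Y)
  obtain ⟨j, hjco, hj1⟩ := exists_pow_coprime (p := p) γ hco'
  have hγp : ∀ x ∈ P', autFun (γ ^ j) x = autFun a' x := fun x hx => by
    rw [autFun_pow_eq (le_sup_left : P' ≤ Y) (α := a')
      (fun y hy => by rw [hγe y (Subgroup.mem_sup_left hy), hga' y hy]) j x hx, hj1]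
  have hγC : γ ∈ C.autGroup Y := (mem_autGroup_iff hYU).2 (hYC.congr fun y hy => hγe y hy)
  have hγfix : ∀ z ∈ U ⊓ V, autFun (γ ^ j) z = z := fun z hz => by
    have h1 : autFun γ z = z := (hγe z (Subgroup.mem_sup_right hz)).trans (hg'Q z (hUV hz))
    exact (autFun_pow_eq (le_sup_right : U ⊓ V ≤ Y) (α := 1)
      (fun y hy => by rw [hγe y (Subgroup.mem_sup_right hy), hg'Q y (hUV hy), autFun_one hy])
      j z hz).trans (by rw [one_pow, autFun_one hz])
  obtain ⟨k, hkm, hkγ, hkV⟩ := fixExt_of_fix hs hVT hCn hYU le_sup_right hVN (pow_mem hγC j)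
    hjco hγfix
  have hkF : IsMap F (Y ⊔ V) k := isMap_of_nQ hQS hkm
  -- the displacements centralize `V`
  have hka : ∀ x ∈ P', k x = autFun a' x := fun x hx => by
    rw [hkγ x (Subgroup.mem_sup_left hx), hγp x hx]
  set P'' := P' ⊓ centralizerIn S V with hP''
  have hdisp : ∀ x ∈ P', x⁻¹ * autFun a' x ∈ P'' := fun x hx => by
    refine ⟨P'.mul_mem (P'.inv_mem hx) (autFun_mem a' hx),
      hP'C.trans inf_le_left (P'.mul_mem (P'.inv_mem hx) (autFun_mem a' hx)),
      Subgroup.mem_centralizer_iff.2 fun t ht => ?_⟩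
    have hxY : x ∈ Y := Subgroup.mem_sup_left hx
    have hxC := hP'C hx
    have hz : x⁻¹ * (t * x * t⁻¹) ∈ Y :=
      mul_mem (inv_mem hxY) ((Subgroup.mem_normalizer_iff.1 (hVN ht).2 x).1 hxY)
    have hzT : x⁻¹ * (t * x * t⁻¹) ∈ T := by
      rw [show x⁻¹ * (t * x * t⁻¹) = x⁻¹ * t * x⁻¹⁻¹ * t⁻¹ by group]
      exact T.mul_mem (Components.conj_mem_of_stronglyClosed hT (S.inv_mem hxC.1) ht.1)
        (T.inv_mem ht.1)
    have hzV : x⁻¹ * (t * x * t⁻¹) ∈ V := ⟨hzT, (hYU hz).1.2⟩
    have h1 : k (t * x * t⁻¹) = t * k x * t⁻¹ := by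
      rw [hkF.map_conj (Subgroup.mem_sup_right ht) (Subgroup.mem_sup_left hxY), hkV t ht]
    have h2 : k (t * x * t⁻¹) = k x * (x⁻¹ * (t * x * t⁻¹)) := by
      conv_lhs => rw [show t * x * t⁻¹ = x * (x⁻¹ * (t * x * t⁻¹)) by group]
      rw [hkF.map_mul (Subgroup.mem_sup_left hxY) (Subgroup.mem_sup_left hz), hkV _ hzV]
    rw [h1, hka x hx] at h2
    calc t * (x⁻¹ * autFun a' x)
        = t * x⁻¹ * t⁻¹ * (t * autFun a' x * t⁻¹) * t := by group
      _ = t * x⁻¹ * t⁻¹ * (autFun a' x * (x⁻¹ * (t * x * t⁻¹))) * t := by rw [h2]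
      _ = _ := ?_
    -- `autFun a' x` and `x` differ by an element of `C_S(Q)` commuting with the central part
    have hzc : x⁻¹ * (t * x * t⁻¹) ∈ Q := hUV ⟨hYU hz, hzV⟩
    have hwC : x⁻¹ * autFun a' x ∈ centralizerIn S Q :=
      hP'C (P'.mul_mem (P'.inv_mem hx) (autFun_mem a' hx))
    have hcm := Subgroup.mem_centralizer_iff.1 hwC.2 _ hzc
    have hcx := Subgroup.mem_centralizer_iff.1 hxC.2 _ hzc
    calc t * x⁻¹ * t⁻¹ * (autFun a' x * (x⁻¹ * (t * x * t⁻¹))) * t
        = t * x⁻¹ * t⁻¹ * x * ((x⁻¹ * autFun a' x) * (x⁻¹ * (t * x * t⁻¹))) * t := by group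
      _ = t * x⁻¹ * t⁻¹ * x * ((x⁻¹ * (t * x * t⁻¹)) * (x⁻¹ * autFun a' x)) * t := by rw [hcm]
      _ = x⁻¹ * autFun a' x * t := by group
  have hP''S : P'' ≤ centralizerIn S V := inf_le_right
  have hstab : ∀ x ∈ P'', autFun a' x ∈ P'' := fun x hx => by
    refine ⟨autFun_mem a' hx.1, ?_⟩
    have h1 := (centralizerIn S V).mul_mem hx.2 (hdisp x hx.1).2
    rwa [mul_inv_cancel_left] at h1
  have hkP : IsMap F P'' k :=
    hkF.mono (inf_le_left.trans (le_sup_left.trans le_sup_left : P' ≤ Y ⊔ V))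
  have hiP : img P'' k = P'' := img_eq_of_map_le (inf_le_left.trans (hP'C.trans inf_le_left)) hkP
    le_rfl fun x hx => by rw [hka x hx.1]; exact hstab x hx
  set b := autOf hkP hiP with hb
  have hbe : ∀ x ∈ P'', autFun b x = autFun a' x := fun x hx => by
    rw [hb, autFun_autOf hkP hiP hx, hka x hx.1]
  have hlt : Nat.card T - Nat.card V < Nat.card T - Nat.card R := by
    haveI := finite_of_le hTS
    have h1 := card_T_sub_lt h hQs.le hQT (R := V) inf_le_left le_rfl
    rwa [isConj_card hRQ] at h1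
  have hb1 : b = 1 := ih _ hlt V (hQs.mono (le_normalizerIn hQs.le) inf_le_left) rfl P'' hP''S b k
    (hkF.mono (sup_le (inf_le_left.trans (le_sup_left.trans le_sup_left)) le_sup_right))
    (fun x hx => (autFun_autOf hkP hiP hx).symm) hkV
    (Nat.Coprime.coprime_dvd_left (orderOf_dvd_of_pow_eq_one (autFun_ext fun x hx => by
      rw [← autFun_pow_eq (inf_le_left : P'' ≤ P') (α := b) (fun y hy => (hbe y hy).symm) _ x hx,
        pow_orderOf_eq_one, autFun_one hx.1, autFun_one hx])) hco')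
  refine eq_one_of_disp hS (hP'C.trans inf_le_left) hco' (M := P'') inf_le_left (fun x hx => ?_)
    hdisp
  rw [← hbe x hx, hb1, autFun_one hx]

/-- The normalizer system of a self-centralizing fully normalized `R ≤ T` normalizes
`R C_S(R)`. -/
theorem isMap_nR_of_nQ (hS : IsPGroup p S) (hF : F.IsSaturated p) (hnil : Nil F T p)
    {R P : Subgroup Ω} (hR : SelfC F T R) (hRn : F.IsFullyNormalized R) {f : Ω → Ω}
    (hf : IsMap (nQ F R hRn.1) P f) : IsMap (nR F R hRn.1) P f := by
  have hRS := hRn.1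
  set N := nQ F R hRS with hN
  haveI : Finite (normalizerIn S R) := finite_of_le (S := S) inf_le_left
  have hNp : IsPGroup p (normalizerIn S R) := hS.to_le inf_le_left
  have hNs : N.IsSaturated p := isSaturated_nQ hS hF hRn
  have hRN : R ≤ normalizerIn S R := le_normalizerIn hRS
  have hBN := base_le_normalizerIn hRS
  refine isMap_of_autGroup_le hNp hNs (fun W hW α hα => ?_) hf
  have hWN : W ≤ normalizerIn S R := hW.elim (fun e => e.le) fun h => h.1.1
  have hαm := (mem_autGroup_iff hWN).1 hα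
  obtain ⟨-, -, k, hk, hkα, hkR⟩ := isMap_nSystem_iff.1 hαm
  have hCW : centralizerIn S R ≤ W := by
    rcases hW with rfl | hW
    · exact centralizerIn_le_normalizerIn
    by_contra hCn
    have hWc := centralizerIn_le_of_isCentric hW.1
    have hWS : W ≤ S := hWN.trans inf_le_left
    -- some element of `C_S(R)` outside `W` normalizes it
    set J := W ⊔ centralizerIn S R with hJ
    have hJS : J ≤ S := sup_le hWS inf_le_left
    have hlt : W < J := lt_of_le_of_ne le_sup_left fun e => hCn (le_sup_right.trans e.ge)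
    haveI := finite_of_le hJS
    haveI := finite_of_le hWN
    have hlt2 := lt_normalizerIn (hS.to_le hJS) hlt.le hlt.ne
    obtain ⟨n, hn, hnW⟩ := SetLike.exists_of_lt hlt2
    have hCJ : W ≤ Subgroup.normalizer (centralizerIn S R : Set Ω) := fun w hw => by
      have hwN := hWN hw
      refine Subgroup.mem_normalizer_iff.2 fun y => ?_
      constructor
      · intro hy
        refine ⟨S.mul_mem (S.mul_mem hwN.1 hy.1) (S.inv_mem hwN.1),
          Subgroup.mem_centralizer_iff.2 fun r hr => ?_⟩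
        have h2 := Subgroup.mem_centralizer_iff.1 hy.2 _
          ((Subgroup.mem_normalizer_iff.1 ((Subgroup.normalizer _).inv_mem hwN.2) r).1 hr)
        calc r * (w * y * w⁻¹) = w * (w⁻¹ * r * w⁻¹⁻¹ * y) * w⁻¹ := by group
          _ = w * (y * (w⁻¹ * r * w⁻¹⁻¹)) * w⁻¹ := by rw [h2]
          _ = w * y * w⁻¹ * r := by group
      · intro hy
        refine ⟨?_, Subgroup.mem_centralizer_iff.2 fun r hr => ?_⟩
        · have := S.mul_mem (S.mul_mem (S.inv_mem hwN.1) hy.1) hwN.1
          rwa [show w⁻¹ * (w * y * w⁻¹) * w = y by group] at this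
        have h2 := Subgroup.mem_centralizer_iff.1 hy.2 _
          ((Subgroup.mem_normalizer_iff.1 hwN.2 r).1 hr)
        calc r * y = w⁻¹ * (w * r * w⁻¹ * (w * y * w⁻¹)) * w := by group
          _ = w⁻¹ * (w * y * w⁻¹ * (w * r * w⁻¹)) * w := by rw [h2]
          _ = y * r := by group
    have hn1 : n ∈ ((W ⊔ centralizerIn S R : Subgroup Ω) : Set Ω) := hn.1
    rw [coe_mul_of_left_le_normalizer_right W _ hCJ] at hn1
    obtain ⟨w, hw, c, hc, rfl⟩ := Set.mem_mul.1 hn1
    have hcW : c ∉ W := fun h => hnW (W.mul_mem hw h)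
    have hcN : c ∈ Subgroup.normalizer (W : Set Ω) := by
      have := (Subgroup.normalizer (W : Set Ω)).mul_mem
        ((Subgroup.normalizer _).inv_mem (Subgroup.le_normalizer hw)) hn.2
      rwa [inv_mul_cancel_left] at this
    have hcN' : c ∈ normalizerIn S R := centralizerIn_le_normalizerIn hc
    have hCcl : ∀ β ∈ N.autGroup W, ∀ y ∈ W, y ∈ centralizerIn S R →
        autFun β y ∈ centralizerIn S R := fun β hβ y hy hyC => by
      obtain ⟨-, -, l, hl, hlβ, hlR⟩ := isMap_nSystem_iff.1 ((mem_autGroup_iff hWN).1 hβ)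
      have h1 := map_mem_centralizerIn hl le_sup_right (Subgroup.mem_sup_left hy) hyC.2
      rwa [hlR, hlβ y hy] at h1
    -- automorphisms fixing `R` and moving `W` inside `C_S(R)` form a normal `p`-subgroup
    haveI := finite_mulAut (P := W)
    set M := W ⊓ centralizerIn S R with hM
    let Φ : MulAut W → Prop := fun β =>
      (∃ l, IsMap F (W ⊔ R) l ∧ (∀ x ∈ W, l x = autFun β x) ∧ ∀ r ∈ R, l r = r) ∧
        ∀ x ∈ W, x⁻¹ * autFun β x ∈ M
    have hmulΦ : ∀ β γ, β ∈ N.autGroup W → Φ β → Φ γ → Φ (β * γ) := by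
      rintro β γ hβ ⟨⟨l, hl, hle, hlR⟩, hd⟩ ⟨⟨l', hl', hle', hlR'⟩, hd'⟩
      refine ⟨⟨l ∘ l', hl'.comp hl fun z hz => hl'.map_mem_of_sup
        (fun x hx => Subgroup.mem_sup_left (by rw [hle' x hx]; exact autFun_mem γ hx))
        (fun r hr => Subgroup.mem_sup_right (by rw [hlR' r hr]; exact hr)) hz,
        fun x hx => ?_, fun r hr => ?_⟩, fun x hx => ?_⟩
      · show l (l' x) = _
        rw [hle' x hx, hle _ (autFun_mem γ hx), autFun_mul _ _ hx]
      · show l (l' r) = r
        rw [hlR' r hr, hlR r hr]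
      · have h1 := M.mul_mem (hd' x hx) (hd _ (autFun_mem γ hx))
        rwa [show x⁻¹ * autFun γ x * ((autFun γ x)⁻¹ * autFun β (autFun γ x)) =
          x⁻¹ * autFun β (autFun γ x) by group, ← autFun_mul _ _ hx] at h1
    have honeΦ : Φ 1 := ⟨⟨id, isMap_id (sup_le hWS hRS), fun x hx => (autFun_one hx).symm,
      fun _ _ => rfl⟩, fun x hx => by rw [autFun_one hx, inv_mul_cancel]; exact one_mem _⟩
    have hpowΦ : ∀ β, β ∈ N.autGroup W → Φ β → ∀ m : ℕ, Φ (β ^ m) := fun β hβ hΦ m => by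
      induction m with
      | zero => rwa [pow_zero]
      | succ m ihm => rw [pow_succ]; exact hmulΦ _ _ (pow_mem hβ m) ihm hΦ
    let K : Subgroup (N.autGroup W) :=
      { carrier := {β | Φ β}
        one_mem' := honeΦ
        mul_mem' := fun {β γ} hβ hγ => hmulΦ _ _ β.2 hβ hγ
        inv_mem' := fun {β} hβ => by
          show Φ ((β : MulAut W)⁻¹)
          rw [show (β : MulAut W)⁻¹ = (β : MulAut W) ^ (Nat.card (MulAut W) - 1) from
            (eq_inv_of_mul_eq_one_left (by
              rw [← pow_succ, Nat.sub_add_cancel Nat.card_pos, pow_card_eq_one'])).symm]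
          exact hpowΦ _ β.2 hβ _ }
    haveI : K.Normal := ⟨fun β hβ γ => by
      obtain ⟨⟨l, hl, hle, hlR⟩, hd⟩ := (hβ : Φ β)
      have hγm := (mem_autGroup_iff hWN).1 γ.2
      obtain ⟨-, -, q, hq, hqγ, hqR⟩ := isMap_nSystem_iff.1 hγm
      obtain ⟨qi, hqi, hq1, hq2⟩ := hq.exists_inv
      have hqi' : img (W ⊔ R) q = W ⊔ R := img_eq_of_map_le (sup_le hWS hRS) hq le_rfl
        fun z hz => hq.map_mem_of_sup (fun x hx => Subgroup.mem_sup_left (by
          rw [hqγ x hx]; exact autFun_mem _ hx))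
          (fun r hr => Subgroup.mem_sup_right (mem_of_img_eq hq le_sup_right hqR hr)) hz
      rw [hqi'] at hqi hq2
      have hv : ∀ x ∈ W, qi x = autFun (γ : MulAut W)⁻¹ x := fun x hx => by
        have hx' := autFun_mem (γ : MulAut W)⁻¹ hx
        conv_lhs => rw [← PPrime.autFun_symm' (α := (γ : MulAut W)) hx, ← hqγ _ hx']
        exact hq1 _ (Subgroup.mem_sup_left hx')
      show Φ ((γ : MulAut W) * β * (γ : MulAut W)⁻¹)
      refine ⟨⟨q ∘ (l ∘ qi), (hqi.comp hl fun z hz => (hq2 z hz).1).comp hq fun z hz =>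
          hl.map_mem_of_sup (fun x hx => Subgroup.mem_sup_left (by
            rw [hle x hx]; exact autFun_mem _ hx))
            (fun r hr => Subgroup.mem_sup_right (by rw [hlR r hr]; exact hr)) (hq2 z hz).1,
        fun x hx => ?_, fun r hr => ?_⟩, fun x hx => ?_⟩
      · have hx' := autFun_mem (γ : MulAut W)⁻¹ hx
        show q (l (qi x)) = _
        rw [hv x hx, hle _ hx', hqγ _ (autFun_mem _ hx'), autFun_mul _ _ hx, autFun_mul _ _ hx']
      · show q (l (qi r)) = r
        obtain ⟨r', hr', hrr⟩ := (hq.mono le_sup_right).mem_img.1 (hqR.ge hr)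
        subst hrr
        rw [hq1 r' (Subgroup.mem_sup_right hr'), hlR r' hr']
      · have hx' := autFun_mem (γ : MulAut W)⁻¹ hx
        have h1 := hd _ hx'
        have h2 : autFun (γ : MulAut W) ((autFun (γ : MulAut W)⁻¹ x)⁻¹ *
            autFun (β : MulAut W) (autFun (γ : MulAut W)⁻¹ x)) ∈ M :=
          ⟨autFun_mem _ h1.1, hCcl _ γ.2 _ h1.1 h1.2⟩
        rw [hγm.map_mul (inv_mem hx') (autFun_mem _ hx'), hγm.map_inv hx',
          PPrime.autFun_symm' hx] at h2
        rw [autFun_mul _ _ hx, autFun_mul _ _ hx']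
        exact h2⟩
    have hKp : IsPGroup p K := fun β => by
      obtain ⟨j, hj⟩ := Components.exists_coprime_pow (p := p) ((β : N.autGroup W) : MulAut W)
      refine ⟨j, Subtype.ext (Subtype.ext ?_)⟩
      simp only [Subgroup.coe_pow, Subgroup.coe_one]
      set b := ((β : N.autGroup W) : MulAut W) ^ p ^ j with hb
      obtain ⟨⟨l, hl, hle, hlR⟩, hd⟩ := hpowΦ _ (β : N.autGroup W).2 β.2 (p ^ j)
      have hbN : b ∈ N.autGroup W := pow_mem (β : N.autGroup W).2 _
      have hMs : ∀ x ∈ M, autFun b x ∈ M := fun x hx =>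
        ⟨autFun_mem b hx.1, hCcl b hbN x hx.1 hx.2⟩
      have hlM := hl.mono (inf_le_left.trans le_sup_left : M ≤ W ⊔ R)
      have hiM : img M l = M := img_eq_of_map_le (inf_le_left.trans hWS) hlM le_rfl
        fun x hx => by rw [hle x hx.1]; exact hMs x hx
      have hm1 : autOf hlM hiM = 1 := hnil R hR M inf_le_right _ l
        (hl.mono (sup_le_sup_right inf_le_left R)) (fun x hx => (autFun_autOf hlM hiM hx).symm) hlR
        (Nat.Coprime.coprime_dvd_left (orderOf_dvd_of_pow_eq_one (autFun_ext fun x hx => by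
          rw [← autFun_pow_eq (inf_le_left : M ≤ W) (α := autOf hlM hiM) (fun y hy => by
            rw [autFun_autOf hlM hiM hy, hle y hy.1]) _ x hx, pow_orderOf_eq_one, autFun_one hx.1,
            autFun_one hx])) hj)
      refine eq_one_of_disp hS hWS hj (M := M) inf_le_left (fun x hx => ?_) hd
      rw [← hle x hx.1, ← autFun_autOf hlM hiM hx, hm1, autFun_one hx]
    have hcc : conjAut c hcN ∈ N.autGroup W := (mem_autGroup_iff hWN).2
      ((isMap_conj hWN hcN').congr fun x hx => autFun_conjAut hcN hx)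
    have hcK : (⟨_, hcc⟩ : N.autGroup W) ∈ K := by
      refine ⟨⟨fun x => c * x * c⁻¹, isMap_conj (sup_le hWS hRS) hc.1,
        fun x hx => (autFun_conjAut hcN hx).symm, fun r hr => by
          show c * r * c⁻¹ = r
          rw [← Subgroup.mem_centralizer_iff.1 hc.2 r hr, mul_inv_cancel_right]⟩, fun x hx => ?_⟩
      rw [autFun_conjAut hcN hx]
      refine ⟨W.mul_mem (W.inv_mem hx) ((Subgroup.mem_normalizer_iff.1 hcN x).1 hx), ?_⟩
      rw [show x⁻¹ * (c * x * c⁻¹) = x⁻¹ * c * x * c⁻¹ by group]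
      refine (centralizerIn S R).mul_mem ?_ ((centralizerIn S R).inv_mem hc)
      have := (Subgroup.mem_normalizer_iff.1 (hCJ (W.inv_mem hx)) c).1 hc
      rwa [inv_inv] at this
    have hrad := (isRadical_of_isEssential hNp hW).2
    have hcI : conjAut c hcN ∈ autInducedBy W W := by
      rw [← inn_eq_autInducedBy, ← hrad]
      exact ⟨_, CfsgLib.Coprime.le_pCore hKp hcK, rfl⟩
    obtain ⟨r, hr, hre⟩ := mem_autInducedBy_iff.1 hcI
    refine hcW ?_
    have hrc : r⁻¹ * c ∈ W := hWc ⟨(normalizerIn S R).mul_mem ((normalizerIn S R).inv_mem (hWN hr)) hcN',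
      Subgroup.mem_centralizer_iff.2 fun x hx => by
        have h1 := hre x hx
        rw [autFun_conjAut hcN hx] at h1
        calc x * (r⁻¹ * c) = r⁻¹ * (r * x * r⁻¹) * c := by group
          _ = r⁻¹ * c * x := by rw [← h1]; group⟩
    have := W.mul_mem hr hrc
    rwa [mul_inv_cancel_left] at this
  -- so the extension to `W R` stabilizes `R C_S(R)`
  have hWR : base S R ≤ W ⊔ R := sup_le le_sup_right (hCW.trans le_sup_left)
  have hWS : W ≤ S := hWN.trans inf_le_left
  have hkC : ∀ z ∈ base S R, k z ∈ base S R := fun z hz => (hk.mono hWR).map_mem_of_sup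
    (fun r hr => Subgroup.mem_sup_left (mem_of_img_eq hk le_sup_right hkR hr))
    (fun c hc => Subgroup.mem_sup_right (by
      have h1 := map_mem_centralizerIn hk le_sup_right (Subgroup.mem_sup_left (hCW hc)) hc.2
      rwa [hkR] at h1)) hz
  have hkB : img (base S R) k = base S R :=
    img_eq_of_map_le (base_le hRS) hk hWR hkC
  have hWB : W ⊔ base S R ≤ normalizerIn S R := sup_le hWN hBN
  have hkW := hk.mono (sup_le le_sup_left hWR : W ⊔ base S R ≤ W ⊔ R)
  refine (mem_autGroup_iff hWN).2 (isMap_nSystem_iff.2 ⟨hWN, fun x hx => hαm.mem_S hx, k,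
    isMap_nSystem_iff.2 ⟨hWB, fun x hx => hkW.map_mem_of_sup
      (fun y hy => hkα y hy ▸ hαm.mem_S hy) (fun y hy => hBN (hkC y hy)) hx,
      k, hk.mono (sup_le (sup_le le_sup_left hWR) le_sup_right), fun _ _ => rfl, hkR⟩,
      fun x hx => hkα x hx, hkB⟩)

end CfsgLib.Fusion.Balance
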