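import Cfsg.Agent.Lib.Fusion.Balance.Product

/-!
# Labelled maps on `T C_S(T)` and displacements

Modulo `T` a labelled map acts on `T C_S(T)` as an automorphism of `T C_S(T)` with its label, so
automorphisms of order prime to `p` with label `1` move elements only inside `T`. Labelled maps on
subgroups of `T` are maps of `E` followed by an automorphism of `T` with their label, and a map
between subgroups of `A` with label in the labels of `A` is a map of the system on `A`.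
-/

set_option autoImplicit false
set_option maxHeartbeats 1000000
set_option linter.style.haveILetI false
set_option linter.unusedSectionVars false

open Subgroup
open scoped Classical Pointwise

namespace CfsgLib.Fusion.Balance

open Cfsg (FusionSystem autInducedBy)
open Cfsg.FusionSystem (normalizerIn centralizerIn preimageAlong)
open CfsgLib.Fusion CfsgLib.Fusion.CentLift CfsgLib.Fusion.Meet

universe u

variable {Ω : Type u} [Group Ω] {S T : Subgroup Ω} {F : FusionSystem S} {E : FusionSystem T}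
  {p : ℕ} [Finite S] [Fact p.Prime] {A P Q R W D : Subgroup Ω} {f g : Ω → Ω}

/-- A conjugate modulo a subgroup normalized by `S`. -/
theorem disp_pow {N : Subgroup Ω} (hN : S ≤ Subgroup.normalizer (N : Set Ω)) (hP : P ≤ S)
    {a : MulAut P} {s : Ω} (hs : s ∈ S)
    (hd : ∀ x ∈ P, (s * x * s⁻¹)⁻¹ * autFun a x ∈ N) (k : ℕ) :
    ∀ x ∈ P, (s ^ k * x * (s ^ k)⁻¹)⁻¹ * autFun (a ^ k) x ∈ N := by
  induction k with
  | zero =>
    intro x hx
    rw [pow_zero, pow_zero, autFun_one hx]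
    simp
  | succ k ih =>
    intro x hx
    have h1 := (Subgroup.mem_normalizer_iff.1 (hN hs) _).1 (ih x hx)
    have h2 := hd _ (autFun_mem (a ^ k) hx)
    rw [pow_succ', pow_succ', autFun_mul _ _ hx]
    have h3 := N.mul_mem h1 h2
    convert h3 using 1
    group

/-- An automorphism of order prime to `p` that is a conjugation modulo `N` moves only inside `N`. -/
theorem disp_of_mod (hS : IsPGroup p S) {N : Subgroup Ω}
    (hN : S ≤ Subgroup.normalizer (N : Set Ω)) (hP : P ≤ S) {a : MulAut P}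
    (hco : (orderOf a).Coprime p) {s : Ω} (hs : s ∈ S)
    (hd : ∀ x ∈ P, (s * x * s⁻¹)⁻¹ * autFun a x ∈ N) : ∀ x ∈ P, x⁻¹ * autFun a x ∈ N := by
  obtain ⟨n, hn⟩ := IsPGroup.iff_card.1 hS
  have hsn : s ^ p ^ n = 1 := by
    have := orderOf_dvd_natCard (⟨s, hs⟩ : S)
    rw [hn, ← Subgroup.orderOf_coe] at this
    exact orderOf_dvd_iff_pow_eq_one.1 this
  obtain ⟨m, hm⟩ := Components.exists_pow_pow_eq hco n
  have h1 : ∀ x ∈ P, ((1 : Ω) * x * 1⁻¹)⁻¹ * autFun (a ^ p ^ n) x ∈ N := fun x hx => by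
    have := disp_pow hN hP hs hd (p ^ n) x hx
    rwa [hsn] at this
  intro x hx
  have := disp_pow hN hP (one_mem S) h1 m x hx
  rw [hm, one_pow] at this
  simpa using this

/-- Moving inside `M` and fixing `P ∩ M` modulo `N`, an automorphism of order prime to `p` moves
only inside `N`. -/
theorem disp_step (hS : IsPGroup p S) {M N : Subgroup Ω}
    (hN : S ≤ Subgroup.normalizer (N : Set Ω)) (hP : P ≤ S) {a : MulAut P}
    (hco : (orderOf a).Coprime p) (hM : ∀ x ∈ P, x⁻¹ * autFun a x ∈ M)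
    (hMN : ∀ z ∈ P ⊓ M, z⁻¹ * autFun a z ∈ N) : ∀ x ∈ P, x⁻¹ * autFun a x ∈ N := by
  intro x hx
  set y := x⁻¹ * autFun a x with hy
  have hyP : y ∈ P := P.mul_mem (P.inv_mem hx) (autFun_mem a hx)
  have hyS := hP hyP
  have key : ∀ k : ℕ, (x * y ^ k)⁻¹ * autFun (a ^ k) x ∈ N := by
    intro k
    induction k with
    | zero => rw [pow_zero, pow_zero, autFun_one hx, mul_one, inv_mul_cancel]; exact one_mem _
    | succ k ih =>
      have hxy : x * y ^ k ∈ P := P.mul_mem hx (P.pow_mem hyP k)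
      have hw : (x * y ^ k)⁻¹ * autFun (a ^ k) x ∈ P :=
        P.mul_mem (P.inv_mem hxy) (autFun_mem _ hx)
      set w := (x * y ^ k)⁻¹ * autFun (a ^ k) x with hwd
      have e1 : autFun (a ^ (k + 1)) x = autFun a x * autFun a (y ^ k) * autFun a w := by
        rw [pow_succ', autFun_mul _ _ hx, ← autFun_map_mul a hx (P.pow_mem hyP k),
          ← autFun_map_mul a hxy hw, hwd, mul_inv_cancel_left]
      have hyk : y ^ k ∈ P ⊓ M := ⟨P.pow_mem hyP k, M.pow_mem (hM x hx) k⟩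
      -- `autFun a w ∈ N`
      have hwN : autFun a w ∈ N := by
        have h1 := hMN w ⟨hw, ?_⟩
        · simpa using N.mul_mem ih h1
        rw [hwd, mul_inv_rev, mul_assoc]
        refine M.mul_mem (M.inv_mem hyk.2) ?_
        have : ∀ j : ℕ, x⁻¹ * autFun (a ^ j) x ∈ M := by
          intro j
          induction j with
          | zero => rw [pow_zero, autFun_one hx, inv_mul_cancel]; exact one_mem _
          | succ j ihj =>
            have h2 := M.mul_mem ihj (hM _ (autFun_mem (a ^ j) hx))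
            rwa [show x⁻¹ * autFun (a ^ j) x * ((autFun (a ^ j) x)⁻¹ * autFun a (autFun (a ^ j) x))
              = x⁻¹ * autFun a (autFun (a ^ j) x) by group, ← autFun_mul _ _ hx, ← pow_succ'] at h2
        exact this k
      have h4 := hMN _ hyk
      rw [e1, show autFun a x = x * y by rw [hy]; group, pow_succ' y]
      have h5 := N.mul_mem h4 hwN
      convert h5 using 1
      group
  have hk := key (orderOf a)
  rw [pow_orderOf_eq_one, autFun_one hx, mul_inv_rev, mul_assoc, inv_mul_cancel, mul_one] at hk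
  have hk' := N.inv_mem hk
  rw [inv_inv] at hk'
  obtain ⟨n, hn⟩ := IsPGroup.iff_card.1 hS
  have hyn : y ^ p ^ n = 1 := by
    have := orderOf_dvd_natCard (⟨y, hyS⟩ : S)
    rw [hn, ← Subgroup.orderOf_coe] at this
    exact orderOf_dvd_iff_pow_eq_one.1 this
  have hcop : Nat.Coprime (orderOf a) (p ^ n) := Nat.Coprime.pow_right n hco
  have hg := Int.gcd_eq_gcd_ab (orderOf a) (p ^ n : ℕ)
  rw [Int.gcd_natCast_natCast, hcop] at hg
  have e2 : y = (y ^ orderOf a) ^ Int.gcdA (orderOf a) (p ^ n : ℕ) := by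
    conv_lhs => rw [← zpow_one y, show (1 : ℤ) = _ from hg, zpow_add, zpow_mul, zpow_mul,
      zpow_natCast, zpow_natCast, hyn, one_zpow, mul_one]
  rw [e2]
  exact N.zpow_mem hk' _

variable (h : Setup F p E E T)

theorem nuB_of_cent {c : Ω} (hc : c ∈ centralizerIn S T) : nuB h c = 1 := by
  refine (lab_eq_one_iff h _).2 ?_
  rw [show nu h c = 1 from autFun_ext fun x hx => by
    rw [autFun_nu h hc.1 hx, autFun_one hx, ← Subgroup.mem_centralizer_iff.1 hc.2 x hx,
      mul_inv_cancel_right]]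
  exact one_mem _

/-- `T C_S(T)` consists of the elements with trivial label. -/
theorem mem_base_iff {x : Ω} : x ∈ base S T ↔ x ∈ S ∧ nuB h x = 1 := by
  refine ⟨fun hx => ?_, fun hx => mem_TC_of_nuB h hx.1 hx.2⟩
  obtain ⟨t, ht, c, hc, rfl⟩ := mem_base (A := T) (C := centralizerIn S T) inf_le_right hx
  exact ⟨S.mul_mem (h.hTS ht) hc.1,
    by rw [nuB_mul h (h.hTS ht) hc.1, nuB_of_T h ht, nuB_of_cent h hc, mul_one]⟩

include h in
theorem base_normal : S ≤ Subgroup.normalizer (base S T : Set Ω) := fun s hs => by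
  refine conjBy_eq_iff.1 (eq_of_le_of_card_le (base_le h.hTS) (conjBy_le_iff.2 fun x hx => ?_)
    (card_conjBy s _).ge)
  obtain ⟨hxS, hx1⟩ := (mem_base_iff h).1 hx
  refine (mem_base_iff h).2 ⟨S.mul_mem (S.mul_mem hs hxS) (S.inv_mem hs), ?_⟩
  rw [nuB_mul h (S.mul_mem hs hxS) (S.inv_mem hs), nuB_mul h hs hxS, hx1, mul_one,
    nuB_inv h hs, mul_inv_cancel]

theorem nuB_pow {s : Ω} (hs : s ∈ S) (k : ℕ) : nuB h (s ^ k) = nuB h s ^ k := by
  induction k with
  | zero => rw [pow_zero, pow_zero, nuB_one]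
  | succ k ih => rw [pow_succ, pow_succ, nuB_mul h (S.pow_mem hs k) hs, ih]

variable {h}

theorem LMap.pow {a : MulAut P} {γ : Lbl h} (hP : P ≤ S) (hl : LMap h P (autFun a) γ) (k : ℕ) :
    LMap h P (autFun (a ^ k)) (γ ^ k) := by
  induction k with
  | zero => rw [pow_zero, pow_zero]; exact (LMap.id' hP).congr fun x hx => autFun_one hx
  | succ k ih =>
    rw [pow_succ' γ, pow_succ' a]
    exact (ih.comp hl fun x hx => autFun_mem _ hx).congr fun x hx => autFun_mul _ _ hx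

/-- An automorphism of order prime to `p` with label in the labels of `A` also has label `1`. -/
theorem LMap.coprime_one {a : MulAut P} {γ : Lbl h} (hP : P ≤ S) (hl : LMap h P (autFun a) γ)
    (hγ : γ ∈ lam h A) (hco : (orderOf a).Coprime p) : LMap h P (autFun a) 1 := by
  obtain ⟨n, hn⟩ := IsPGroup.iff_card.1 h.pgroup
  obtain ⟨s, hs, rfl⟩ := hγ
  obtain ⟨m, hm⟩ := Components.exists_pow_pow_eq hco n
  have h1 := (hl.pow hP (p ^ n)).pow hP m
  have hsn : s ^ p ^ n = 1 := by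
    have := orderOf_dvd_natCard (⟨s, hs.2⟩ : S)
    rw [hn, ← Subgroup.orderOf_coe] at this
    exact orderOf_dvd_iff_pow_eq_one.1 this
  rwa [hm, ← nuB_pow h hs.2, hsn, nuB_one, one_pow] at h1

variable (hE : E.IsNormalIn F p) (hnil : Nil F T p)

include hnil in
/-- Modulo `T`, a labelled map acts on `T C_S(T)` as an automorphism with its label. -/
theorem LMap.exists_outer {γ : Lbl h} (hl : LMap h P f γ) :
    ∃ (b : Ω → Ω) (α : MulAut T) (hα : α ∈ F.autGroup T),
      IsMap F (base S T) b ∧ (∀ x ∈ base S T, b x ∈ base S T) ∧ (∀ t ∈ T, b t = autFun α t) ∧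
        lab h hα = γ ∧ ∀ x ∈ P ⊓ base S T, (b x)⁻¹ * f x ∈ T := by
  have hBS : base S T ≤ S := base_le h.hTS
  have hTB : T ≤ base S T := le_sup_left
  induction hl with
  | @top P f α hα hTP hf he =>
    have hn : F.IsFullyNormalized T := ⟨h.hTS, fun Q hQ => by
      obtain ⟨f, hf, rfl⟩ := isConj_iff.1 hQ
      rw [img_eq_of_map_le h.hTS hf le_rfl fun x hx => cl_mem h.closed hf hx hx]⟩
    set W := P ⊓ base S T
    have hTW : T ≤ W := le_inf hTP hTB
    have hSN : S ≤ normalizerIn S T := le_inf le_rfl h.normal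
    have hfW := hf.mono (inf_le_left : W ≤ P)
    have hq : IsMap (nQ F T hn.1) W f := isMap_nSystem_iff.2
      ⟨fun x hx => hSN (hfW.le hx), fun x hx => hSN (hfW.mem_S hx), f,
        by rwa [sup_eq_left.2 hTW], fun _ _ => rfl,
        img_eq_of_map_le h.hTS hfW hTW fun x hx => cl_mem h.closed hfW (hTW hx) hx⟩
    obtain ⟨-, -, k, hk, hke, hkB⟩ :=
      isMap_nSystem_iff.1 (isMap_nR_of_nQ h.pgroup h.sat hnil (selfC_T h) hn hq)
    obtain ⟨-, -, k', hk', hk'e, -⟩ := isMap_nSystem_iff.1 hk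
    have hkF : IsMap F (base S T) k := (hk'.mono (le_sup_right.trans le_sup_left)).congr
      fun x hx => (hk'e x (Subgroup.mem_sup_right hx)).symm
    refine ⟨k, α, hα, hkF, fun x hx => hkB.le (hkF.mem_img.2 ⟨x, hx, rfl⟩),
      fun t ht => by rw [hke t (hTW ht), he t ht], rfl, fun x hx => ?_⟩
    rw [hke x hx, inv_mul_cancel]
    exact one_mem _
  | @good Q a hQ ha _ _ =>
    exact ⟨id, 1, one_mem _, isMap_id hBS, fun x hx => hx, fun t ht => (autFun_one ht).symm,
      (lab_eq_one_iff h _).2 (one_mem _), fun x hx => ha.2.1 x hx.1⟩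
  | mono _ hR ih =>
    obtain ⟨b, α, hα, hb, hbm, hbT, hl, hd⟩ := ih
    exact ⟨b, α, hα, hb, hbm, hbT, hl, fun x hx => hd x ⟨hR hx.1, hx.2⟩⟩
  | congr _ he ih =>
    obtain ⟨b, α, hα, hb, hbm, hbT, hl, hd⟩ := ih
    exact ⟨b, α, hα, hb, hbm, hbT, hl, fun x hx => by rw [he x hx.1]; exact hd x hx⟩
  | @comp P R f g γ δ hf hg hm ih1 ih2 =>
    obtain ⟨b₁, α₁, hα₁, hb₁, hbm₁, hbT₁, hl₁, hd₁⟩ := ih1
    obtain ⟨b₂, α₂, hα₂, hb₂, hbm₂, hbT₂, hl₂, hd₂⟩ := ih2
    refine ⟨b₂ ∘ b₁, α₂ * α₁, mul_mem hα₂ hα₁, hb₁.comp hb₂ hbm₁,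
      fun x hx => hbm₂ _ (hbm₁ x hx), fun t ht => ?_, by rw [lab_mul h hα₂ hα₁, hl₁, hl₂], fun x hx => ?_⟩
    · show b₂ (b₁ t) = _
      rw [hbT₁ t ht, hbT₂ _ (autFun_mem _ ht), autFun_mul _ _ ht]
    have ht := hd₁ x hx
    have hfx : f x ∈ base S T := by
      have := mul_mem (hbm₁ x hx.2) (hTB ht)
      rwa [mul_inv_cancel_left] at this
    have h2 := hd₂ (f x) ⟨hm x hx.1, hfx⟩
    show (b₂ (b₁ x))⁻¹ * g (f x) ∈ T
    rw [show (b₂ (b₁ x))⁻¹ * g (f x) = (b₂ (b₁ x))⁻¹ * b₂ (f x) * ((b₂ (f x))⁻¹ * g (f x)) by group,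
      ← hb₂.map_inv (hbm₁ x hx.2), ← hb₂.map_mul (inv_mem (hbm₁ x hx.2)) hfx]
    exact T.mul_mem (cl_mem h.closed hb₂ (hTB ht) ht) h2

include h hnil in
/-- `T C_S(T)` is strongly closed. -/
theorem base_mem (hf : IsMap F P f) {x : Ω} (hx : x ∈ P) (hxB : x ∈ base S T) :
    f x ∈ base S T := by
  obtain ⟨γ, hl⟩ := exists_lmap h hnil hf
  obtain ⟨b, α, hα, -, hbm, -, -, hd⟩ := hl.exists_outer hnil
  have := mul_mem (hbm x hxB) (Subgroup.mem_sup_left (T := centralizerIn S T) (hd x ⟨hx, hxB⟩))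
  rwa [mul_inv_cancel_left] at this

include h hnil in
/-- An automorphism of `T C_S(T)` fixing `T` is induced by `C_S(T)`. -/
theorem exists_inner {q : MulAut (base S T : Subgroup Ω)} (hq : q ∈ F.autGroup (base S T))
    (hfix : ∀ t ∈ T, autFun q t = t) :
    ∃ c ∈ centralizerIn S T, ∀ x ∈ base S T, autFun q x = c * x * c⁻¹ := by
  let B := base S T
  have hBS : B ≤ S := base_le h.hTS
  have hTB : T ≤ B := le_sup_left
  haveI := finite_of_le hBS
  haveI := finite_mulAut (P := B)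
  have hTst : ∀ a ∈ F.autGroup B, ∀ t ∈ T, autFun a t ∈ T := fun a ha t ht =>
    cl_mem h.closed ((mem_autGroup_iff hBS).1 ha) (hTB ht) ht
  let K : Subgroup (MulAut B) :=
    { carrier := {a | a ∈ F.autGroup B ∧ ∀ t ∈ T, autFun a t = t}
      one_mem' := ⟨one_mem _, fun t ht => autFun_one (hTB ht)⟩
      mul_mem' := fun {a b} ha hb => ⟨mul_mem ha.1 hb.1, fun t ht => by
        rw [autFun_mul _ _ (hTB ht), hb.2 t ht, ha.2 t ht]⟩
      inv_mem' := fun {a} ha => ⟨inv_mem ha.1, fun t ht => by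
        conv_lhs => rw [← ha.2 t ht]
        exact PPrime.autFun_symm (hTB ht)⟩ }
  have hKp : IsPGroup p K := fun a => by
    obtain ⟨j, hj⟩ := Components.exists_coprime_pow (p := p) (a : MulAut B)
    refine ⟨j, Subtype.ext ?_⟩
    rw [Subgroup.coe_pow, Subgroup.coe_one]
    set b := (a : MulAut B) ^ p ^ j with hb
    have hbK : b ∈ K := pow_mem a.2 _
    have hbm := (mem_autGroup_iff hBS).1 hbK.1
    have hCB : centralizerIn S T ≤ B := le_sup_right
    have hiT : img T (autFun b) = T := img_eq_self_of_fix hbK.2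
    have hiC : img (centralizerIn S T) (autFun b) = centralizerIn S T :=
      img_eq_of_map_le inf_le_left hbm hCB fun x hx => by
        have h1 := map_mem_centralizerIn hbm hTB (hCB hx) hx.2
        rwa [hiT] at h1
    have hC1 : autOf (hbm.mono hCB) hiC = 1 := hnil T (selfC_T h) _ le_rfl _ (autFun b)
      (hbm.mono (sup_le hCB hTB)) (fun x hx => (autFun_autOf (hbm.mono hCB) hiC hx).symm) hbK.2
      (Nat.Coprime.coprime_dvd_left (Product.orderOf_dvd_of_agree hCB fun x hx =>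
        (autFun_autOf (hbm.mono hCB) hiC hx).symm) hj)
    refine autFun_ext fun x hx => ?_
    rw [autFun_one hx]
    obtain ⟨t, ht, c, hc, rfl⟩ := mem_base (C := centralizerIn S T) inf_le_right hx
    rw [autFun_map_mul _ (hTB ht) (hCB hc), hbK.2 t ht, ← autFun_autOf (hbm.mono hCB) hiC hc, hC1,
      autFun_one hc]
  have hBn : F.IsFullyNormalized B := ⟨hBS, fun R _ => by
    rw [show normalizerIn S B = S from inf_eq_left.2 (base_normal h)]
    exact card_le_of_le' le_rfl inf_le_left⟩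
  obtain ⟨-, hi⟩ := (isFullyAutomized_iff h.pgroup).1
    (IsSaturated.automized_receptive h.pgroup h.sat hBn).1
  obtain ⟨k, hk, hkK⟩ := exists_conj_le_of_not_dvd_relIndex (isPGroup_autInducedBy h.pgroup)
    (autInducedBy_le_autGroup hBS) hi hKp fun a ha => ha.1
  have hconj : k⁻¹ * q * k ∈ K := ⟨mul_mem (mul_mem (inv_mem hk) hq) hk, fun t ht => by
    rw [autFun_mul _ _ (hTB ht), autFun_mul _ _ (autFun_mem k (hTB ht)),
      hfix _ (hTst k hk t ht), PPrime.autFun_symm (hTB ht)]⟩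
  have h1 := hkK (conj_mem_conjBy (g := k) hconj)
  rw [show k * (k⁻¹ * q * k) * k⁻¹ = q by group] at h1
  obtain ⟨c, hc, hce⟩ := mem_autInducedBy_iff.1 h1
  refine ⟨c, ⟨hc, Subgroup.mem_centralizer_iff.2 fun t ht => ?_⟩, hce⟩
  have h2 := hce t (hTB ht)
  rw [hfix t ht] at h2
  calc t * c = c * t * c⁻¹ * c := by rw [← h2]
    _ = c * t := by group

include hE hnil in
/-- An automorphism of order prime to `p` with label `1` moves only inside `T`. -/
theorem LMap.disp_T {a : MulAut P} (hP : P ≤ S) (hl : LMap h P (autFun a) 1)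
    (hco : (orderOf a).Coprime p) : ∀ x ∈ P, x⁻¹ * autFun a x ∈ T := by
  have hTB : T ≤ base S T := le_sup_left
  refine disp_step h.pgroup h.normal hP hco (M := base S T) (fun x hx => ?_) fun z hz => ?_
  · refine (mem_base_iff h).2 ⟨S.mul_mem (S.inv_mem (hP hx)) (hP (autFun_mem a hx)), ?_⟩
    rw [nuB_mul h (inv_mem (hP hx)) (hP (autFun_mem a hx)), nuB_inv h (hP hx), hl.twist x hx]
    group
  obtain ⟨b, α, hα, hb, hbm, hbT, hlab, hd⟩ := hl.exists_outer hnil
  have hαE : α ∈ E.autGroup T := (lab_eq_one_iff h hα).1 hlab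
  obtain ⟨β, hβ, hβT, hβC⟩ := hE.2 α hαE
  have hBS : base S T ≤ S := base_le h.hTS
  haveI := finite_of_le hBS
  have hβm := (mem_autGroup_iff hBS).1 hβ
  have hβT' : ∀ t ∈ T, autFun β t = autFun α t := fun t ht => by
    rw [autFun_apply β (hTB ht), autFun_apply α ht]
    exact hβT ⟨t, ht⟩
  have hβmod : ∀ x ∈ base S T, x⁻¹ * autFun β x ∈ T := fun x hx => by
    obtain ⟨t, ht, c, hc, rfl⟩ := mem_base (C := centralizerIn S T) inf_le_right hx
    have hcB : c ∈ base S T := Subgroup.mem_sup_right hc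
    rw [autFun_map_mul β (hTB ht) hcB, hβT' t ht,
      show (t * c)⁻¹ * (autFun α t * autFun β c) =
        c⁻¹ * (t⁻¹ * autFun α t) * c⁻¹⁻¹ * (c⁻¹ * autFun β c) by group]
    refine T.mul_mem ((Subgroup.mem_normalizer_iff.1 (h.normal (S.inv_mem hc.1)) _).1
      (T.mul_mem (T.inv_mem ht) (autFun_mem α ht))) ?_
    have h1 := hβC ⟨c, hcB⟩ hc
    rw [← autFun_apply β hcB] at h1
    exact h1.1
  have hib : img (base S T) b = base S T := img_eq_of_map_le hBS hb le_rfl hbm
  obtain ⟨c, hc, hce⟩ := exists_inner (h := h) hnil (q := β⁻¹ * autOf hb hib)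
    (mul_mem (inv_mem hβ) (autOf_mem hb hib)) fun t ht => by
      rw [autFun_mul _ _ (hTB ht), autFun_autOf hb hib (hTB ht), hbT t ht, ← hβT' t ht,
        PPrime.autFun_symm (hTB ht)]
  set P' := P ⊓ base S T with hP'
  have ham := hl.isMap.mono (inf_le_left : P' ≤ P)
  have hia : img P' (autFun a) = P' := img_eq_of_map_le (inf_le_left.trans hP) ham le_rfl
    fun x hx => Subgroup.mem_inf.2 ⟨autFun_mem a hx.1, by
      have h3 := mul_mem (hbm x hx.2) (hTB (hd x hx))
      rwa [mul_inv_cancel_left] at h3⟩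
  have hmod : ∀ x ∈ P', (c * x * c⁻¹)⁻¹ * autFun (autOf ham hia) x ∈ T := fun x hx => by
    rw [autFun_autOf ham hia hx]
    have hy : autFun (β⁻¹ * autOf hb hib) x ∈ base S T := autFun_mem _ hx.2
    have h3 := hβmod _ hy
    rw [← autFun_mul _ _ hx.2, mul_inv_cancel_left, autFun_autOf hb hib hx.2, hce x hx.2] at h3
    have h4 := T.mul_mem h3 (hd x hx)
    convert h4 using 1
    group
  have := disp_of_mod h.pgroup h.normal (inf_le_left.trans hP)
    (Nat.Coprime.coprime_dvd_left (Product.orderOf_dvd_of_agree inf_le_left fun x hx =>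
      (autFun_autOf ham hia hx).symm) hco) hc.1 hmod z hz
  rwa [autFun_autOf ham hia hz] at this

/-- A labelled map on a subgroup of `T` is a map of `E` followed by an automorphism of `T` with
its label. -/
theorem LMap.exists_split {γ : Lbl h} (hl : LMap h P f γ) :
    ∃ (α : MulAut T) (hα : α ∈ F.autGroup T) (e : Ω → Ω), IsMap E (P ⊓ T) e ∧
      lab h hα = γ ∧ ∀ x ∈ P ⊓ T, f x = autFun α (e x) := by
  induction hl with
  | @top P f α hα hTP hf he =>
    exact ⟨α, hα, id, isMap_id inf_le_right, rfl, fun x hx => he x hx.2⟩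
  | @good Q a hQ ha _ _ =>
    exact ⟨1, one_mem _, autFun a, ha.2.2, (lab_eq_one_iff h _).2 (one_mem _),
      fun x hx => (autFun_one (ha.2.2.mem_S hx)).symm⟩
  | mono _ hR ih =>
    obtain ⟨α, hα, e, he, hl, hd⟩ := ih
    exact ⟨α, hα, e, he.mono (inf_le_inf_right _ hR), hl, fun x hx => hd x ⟨hR hx.1, hx.2⟩⟩
  | congr _ hfg ih =>
    obtain ⟨α, hα, e, he, hl, hd⟩ := ih
    exact ⟨α, hα, e, he, hl, fun x hx => by rw [hfg x hx.1]; exact hd x hx⟩
  | @comp P R f g γ δ hf hg hm ih1 ih2 =>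
    obtain ⟨α₁, hα₁, e₁, he₁, hl₁, hd₁⟩ := ih1
    obtain ⟨α₂, hα₂, e₂, he₂, hl₂, hd₂⟩ := ih2
    have hi := (mem_autGroup_iff h.hTS).1 (inv_mem hα₁)
    have hW : ∀ x ∈ P ⊓ T, f x ∈ R ⊓ T := fun x hx =>
      ⟨hm x hx.1, cl_mem h.closed hf.isMap hx.1 hx.2⟩
    have hfP := hf.isMap.mono (inf_le_left : P ⊓ T ≤ P)
    set W := img (P ⊓ T) f
    have hWR : W ≤ R ⊓ T := hfP.img_le_of_forall hW
    obtain ⟨k, hk, hke⟩ := h.side₁.inv W T e₂ (autFun α₁⁻¹) (hWR.trans inf_le_right) le_rfl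
      (he₂.mono hWR) (fun x hx => he₂.mem_S (hWR hx)) hi
    have hm2 : ∀ x ∈ P ⊓ T, e₁ x ∈ img W (autFun α₁⁻¹) := fun x hx =>
      (hi.mono (hWR.trans inf_le_right)).mem_img.2 ⟨f x, hfP.mem_img.2 ⟨x, hx, rfl⟩, by
        rw [hd₁ x hx, PPrime.autFun_symm (he₁.mem_S hx)]⟩
    refine ⟨α₂ * α₁, mul_mem hα₂ hα₁, k ∘ e₁, he₁.comp hk hm2, by rw [lab_mul h hα₂ hα₁, hl₁, hl₂],
      fun x hx => ?_⟩
    show g (f x) = autFun (α₂ * α₁) (k (e₁ x))
    have hfx := hW x hx
    rw [hd₂ _ hfx, autFun_mul _ _ (hk.mem_S (hm2 x hx))]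
    congr 1
    have e3 : k (e₁ x) = autFun α₁⁻¹ (e₂ (f x)) := by
      rw [← hke (f x) (hfP.mem_img.2 ⟨x, hx, rfl⟩), hd₁ x hx,
        PPrime.autFun_symm (he₁.mem_S hx)]
    rw [e3, PPrime.autFun_symm' (he₂.mem_S hfx)]

/-- A map with label `1` on a subgroup of `T` is a map of `E`. -/
theorem LMap.isMap_E (hl : LMap h P f 1) (hP : P ≤ T) : IsMap E P f := by
  obtain ⟨α, hα, e, he, hlab, hd⟩ := hl.exists_split
  rw [inf_eq_left.2 hP] at he hd
  exact (he.comp ((mem_autGroup_iff le_rfl).1 ((lab_eq_one_iff h hα).1 hlab))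
    fun x hx => he.mem_S hx).congr hd

variable (hcT : centralizerIn S T ≤ A) (hTA : T ≤ A) (hAS : A ≤ S)

include hcT hTA hAS in
/-- Maps of the system on `A` are the maps with labels in the labels of `A`. -/
theorem bmap_of_lmap {γ : Lbl h} (hl : LMap h P f γ) (hP : P ≤ A) (hγ : γ ∈ lam h A) :
    BMap h A P f := by
  obtain ⟨hPpre, hb⟩ := decomp_one h hcT hTA hAS hl hP
  obtain ⟨a, ha, rfl⟩ := hγ
  have hq : LMap h (pre h A (nuB h a)) (fun z => a⁻¹ * z * a⁻¹⁻¹) (nuB h a)⁻¹ :=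
    nuB_inv h ha.2 ▸ LMap.conj (S.inv_mem ha.2) (pre_le h _)
  have hb1 := hb _ hq
  refine (hb1.comp (BMap.of_conj hcT hTA hAS ha.1 le_rfl) fun x hx =>
    hb1.mem hcT hTA hAS hx).congr fun x _ => ?_
  show f x = a * (a⁻¹ * f x * a⁻¹⁻¹) * a⁻¹
  group

end CfsgLib.Fusion.Balance
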