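import Cfsg.Agent.Lib.Fusion.Balance.Local
import Cfsg.Agent.Lib.Fusion.AlperinTame

/-!
# Labels of the maps realized by the stabilizer of `P`

Conjugation by an element of the stabilizer of `P` in the local subgroup is labelled `1`; every
element of the stabilizer is one normalizing `N_T(P)` times one in the local subgroup, and
conjugation by it gets the label of the first.
-/

set_option autoImplicit false
set_option maxHeartbeats 1000000
set_option linter.style.haveILetI false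
set_option linter.unusedSectionVars false

open Subgroup
open scoped Classical Pointwise

namespace CfsgLib.Fusion.Balance

open Cfsg (FusionSystem autInducedBy)
open Cfsg.FusionSystem (normalizerIn centralizerIn preimageAlong)
open CfsgLib.Fusion CfsgLib.Fusion.CentLift CfsgLib.Fusion.Meet

universe u

variable {Ω : Type u} [Group Ω] {S T : Subgroup Ω} {F : FusionSystem S} {E : FusionSystem T}
  {p : ℕ} [Finite S] [Fact p.Prime] {P Q R W D : Subgroup Ω} {f g : Ω → Ω}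
  (h : Setup F p E E T) (hnil : Nil F T p) (hP : Rep F T P) (M : LModel F p (P ⊓ T))

/-- The stabilizer of `P` in the local subgroup. -/
def hLoc : Subgroup M.G := hP' M ⊓ M.hSub h hP.selfC.le

/-- The subgroup above `P` at which labels are read. -/
def up (T P : Subgroup Ω) : Subgroup Ω := normalizerIn T P ⊔ P

/-- An element of the stabilizer with a label. -/
def Phi (g : M.G) (γ : Lbl h) : Prop :=
  g ∈ hP' M ∧ ∃ n : M.G, n ∈ hP' M ∧ n⁻¹ * g ∈ hLoc h hP M ∧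
    ∃ k, LMap h (up T P) k γ ∧ Rz M (up T P) k n ∧ ∀ x ∈ up T P, k x ∈ up T P

variable {M}

theorem hLoc_conj {a z : M.G} (ha : a ∈ hP' M) (hz : z ∈ hLoc h hP M) :
    a * z * a⁻¹ ∈ hLoc h hP M :=
  Subgroup.mem_inf.2 ⟨mul_mem (mul_mem ha (Subgroup.mem_inf.1 hz).1) (inv_mem ha),
    (M.hSub_normal h hP.inner hP.selfC.le).conj_mem _ hz.2 a⟩

theorem le_normalizer_hLoc : hP' M ≤ Subgroup.normalizer (hLoc h hP M : Set M.G) := fun a ha =>
  Subgroup.mem_normalizer_iff.2 fun z => ⟨hLoc_conj h hP ha, fun hz => by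
    have := hLoc_conj h hP (inv_mem ha) hz
    rwa [show a⁻¹ * (a * z * a⁻¹) * a⁻¹⁻¹ = z by group] at this⟩

include hP h in
theorem up_le : up T P ≤ normalizerIn S P :=
  sup_le (hP.nT_le h) (le_normalizerIn hP.normalized.1)

include hP h in
theorem sup_nT_le (hW : W ≤ normalizerIn S P) : normalizerIn T P ⊔ W ≤ normalizerIn S P :=
  sup_le (hP.nT_le h) hW

include hP h in
theorem card_lt_nT : Nat.card P < Nat.card (up T P) := by
  refine card_lt_of_lt ((up_le h hP).trans inf_le_left) (lt_of_le_of_ne le_sup_right fun e => ?_)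
  -- otherwise `N_T(P) ≤ P`, so `P ∩ T` would be its own normalizer in `(P ∩ T) N_T(P ∩ T)`
  have hle : normalizerIn T P ≤ P := le_sup_left.trans e.ge
  have hRT : P ⊓ T ≠ T := fun e' => hP.proper (e'.ge.trans inf_le_left)
  have hPN := hP.le_nR h
  set J := P ⊔ normalizerIn T (P ⊓ T) with hJ
  have hJS : J ≤ S := sup_le hP.normalized.1 (inf_le_left.trans h.hTS)
  haveI := finite_of_le hJS
  have hlt : P < J := lt_of_le_of_ne le_sup_left fun e' => by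
    have h1 : normalizerIn T (P ⊓ T) ≤ P ⊓ T := le_inf (le_sup_right.trans e'.ge) inf_le_left
    exact (lt_normalizerIn_T h inf_le_right hRT).not_ge h1
  obtain ⟨z, hz, hzP⟩ :=
    SetLike.exists_of_lt (lt_normalizerIn (h.pgroup.to_le hJS) hlt.le hlt.ne)
  have hn : P ≤ Subgroup.normalizer (normalizerIn T (P ⊓ T) : Set Ω) := fun x hx => by
    haveI : Finite (normalizerIn T (P ⊓ T)) := finite_of_le (inf_le_left.trans h.hTS)
    exact conjBy_eq_iff.1 (eq_of_le_of_card_le (inf_le_left.trans h.hTS) (conjBy_le_iff.2 fun y hy =>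
      Subgroup.mem_inf.2 ⟨(Subgroup.mem_normalizer_iff.1 (h.normal (hPN hx).1) y).1 hy.1,
        mul_mem (mul_mem (hPN hx).2 hy.2) (inv_mem (hPN hx).2)⟩) (card_conjBy x _).ge)
  have hz1 : z ∈ ((P ⊔ normalizerIn T (P ⊓ T) : Subgroup Ω) : Set Ω) := hz.1
  rw [coe_mul_of_left_le_normalizer_right P _ hn] at hz1
  obtain ⟨x, hx, t, ht, rfl⟩ := Set.mem_mul.1 hz1
  have htP : t ∈ Subgroup.normalizer (P : Set Ω) := by
    have := mul_mem (inv_mem (Subgroup.le_normalizer hx)) hz.2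
    rwa [inv_mul_cancel_left] at this
  exact hzP (P.mul_mem hx (hle ⟨ht.1, htP⟩))

/-- An element of order prime to `p` of the stabilizer in the local subgroup. -/
theorem piece_coprime {g : M.G} (hg : g ∈ hLoc h hP M) (hco : (orderOf g).Coprime p)
    (hPW : P ≤ W) (hW : W ≤ normalizerIn S P)
    (hgW : ∀ x ∈ W, g * M.e x * g⁻¹ ∈ imgι M.ι W) :
    ∃ f, LMap h W f 1 ∧ Rz M W f g ∧ ∀ x ∈ W, f x ∈ W := by
  have hWN := hW.trans (hP.nP_le h)
  have hWS : W ≤ S := hW.trans inf_le_left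
  have hRW : P ⊓ T ≤ W := inf_le_left.trans hPW
  obtain ⟨f, hf, hfe, -, hfN⟩ := rz_map h hP hg.1 hPW hW fun x hx => imgι_le_range _ (hgW x hx)
  have hfW : ∀ x ∈ W, f x ∈ W := fun x hx => mem_of_ext1_mem_imgι M.real.1 hWN
    (hP.nP_le h (hfN x hx)) (by show M.e (f x) ∈ _; rw [hfe x hx]; exact hgW x hx)
  have hi := img_eq_of_map_le hWS hf le_rfl hfW
  set a := autOf hf hi with ha
  have hae : ∀ x ∈ W, autFun a x = f x := fun x hx => autFun_autOf hf hi hx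
  have haco : (orderOf a).Coprime p := Nat.Coprime.coprime_dvd_left
    (M.orderOf_dvd hWN fun x hx => by rw [hae x hx, hfe x hx]) hco
  have hdisp : ∀ x ∈ W, x⁻¹ * autFun a x ∈ T := fun x hx => by
    rw [hae x hx]
    refine (M.mem_of_mem_hSub h hP.inner hP.selfC.le
      (mul_mem (inv_mem (hWN hx)) (hWN (hfW x hx))) ?_).1
    rw [M.mul (inv_mem (hWN hx)) (hWN (hfW x hx)), M.e_inv (hWN hx), hfe x hx,
      show (M.e x)⁻¹ * (g * M.e x * g⁻¹) = ((M.e x)⁻¹ * g * (M.e x)⁻¹⁻¹) * g⁻¹ by group]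
    exact mul_mem ((M.hSub_normal h hP.inner hP.selfC.le).conj_mem g hg.2 _) (inv_mem hg.2)
  have hfT : ∀ x ∈ W ⊓ T, f x ∈ W ⊓ T := fun x hx => ⟨hfW x hx.1, cl_mem h.closed hf hx.1 hx.2⟩
  have hiT := img_eq_of_map_le (inf_le_left.trans hWS) hf inf_le_left hfT
  set b := autOf (hf.mono inf_le_left) hiT
  have hbe : ∀ x ∈ W ⊓ T, autFun b x = f x := fun x hx => autFun_autOf _ hiT hx
  have hb : b ∈ E.autGroup (W ⊓ T) := by
    have hK := M.hSub_le h hP.inner hP.selfC.le hg.2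
    rw [M.mem_kSub] at hK
    have hRR : ∀ x ∈ P ⊓ T, autFun b x = autFun (M.act g) x := fun x hx => by
      have hxB : x ∈ base S (P ⊓ T) := Subgroup.mem_sup_left hx
      rw [hbe x ⟨hRW hx, hx.2⟩]
      exact M.inj (hP.nP_le h (hfN x (hRW hx))) (M.base_le_nQ (autFun_mem _ hxB))
        ((hfe x (hRW hx)).trans (M.e_act g hxB).symm)
    refine h.side₁.ext_centric h.pgroup inf_le_right (le_inf hRW inf_le_right)
      (fun x hx => (hP.nP_le h (hW hx.1)).2)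
      ⟨inf_le_right, fun R' hR' => ?_⟩ (autOf_mem _ hiT) (Nat.Coprime.coprime_dvd_left
        (Product.orderOf_dvd_of_agree inf_le_left fun x hx => by rw [hae x hx.1, hbe x hx]) haco)
      (fun x hx => by rw [hRR x hx]; exact stab_mem (M.act_stab g) hx)
      ((hK.2.2.1.mono le_sup_left).congr hRR)
    obtain ⟨φ, hφ, rfl⟩ := isConj_iff.1 hR'
    exact hP.selfC.2 φ (hφ.ofSubsystem h.side₁.sub)
  refine ⟨f, (LMap.good hWS ⟨autOf_mem hf hi, hdisp, ?_⟩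
    (hP.selfC.mono (le_inf hRW inf_le_right) inf_le_right) haco).congr
      (fun x hx => (hae x hx).symm), hfe, hfW⟩
  exact ((mem_autGroup_iff inf_le_right).1 hb).congr fun x hx => by rw [hae x hx.1, hbe x hx]

/-- Elements of the subgroup generated by such elements. -/
theorem piece_closure {s : Set M.G} (hPW : P ≤ W) (hW : W ≤ normalizerIn S P)
    (hs : ∀ g ∈ s, g ∈ hLoc h hP M ∧ ((orderOf g).Coprime p ∨ g ∈ imgι M.ι (normalizerIn T P)) ∧
      ∀ x ∈ W, g * M.e x * g⁻¹ ∈ imgι M.ι W)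
    {g : M.G} (hg : g ∈ Subgroup.closure s) :
    ∃ f, LMap h W f 1 ∧ Rz M W f g ∧ ∀ x ∈ W, f x ∈ W := by
  have hWN := hW.trans (hP.nP_le h)
  induction hg using Subgroup.closure_induction with
  | mem z hz =>
    obtain ⟨hzL, hzt, hzW⟩ := hs z hz
    rcases hzt with hco | hzT
    · exact piece_coprime h hP hzL hco hPW hW hzW
    obtain ⟨t, ht, rfl⟩ := (mem_imgι ((hP.nT_le h).trans (hP.nP_le h))).1 hzT
    have htN := hP.nT_le h ht
    refine ⟨fun x => t * x * t⁻¹, LMap.of_T ht.1 (hW.trans inf_le_left),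
      rz_conj h hP htN hWN, fun x hx => ?_⟩
    refine mem_of_ext1_mem_imgι M.real.1 hWN
      (mul_mem (mul_mem (hP.nP_le h htN) (hWN hx)) (inv_mem (hP.nP_le h htN))) ?_
    rw [show ext1 M.ι (t * x * t⁻¹) = _ from rz_conj h hP htN hWN x hx]
    exact hzW x hx
  | one => exact ⟨id, LMap.id' (hW.trans inf_le_left), fun x _ => by simp, fun x hx => hx⟩
  | mul a b _ _ ha hb =>
    obtain ⟨fa, la, ra, ma⟩ := ha
    obtain ⟨fb, lb, rb, mb⟩ := hb
    exact ⟨fa ∘ fb, (lb.comp la mb).congr (fun _ _ => rfl) |> fun l => by rwa [one_mul] at l,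
      rb.comp ra mb, fun x hx => ma _ (mb x hx)⟩
  | inv a _ ha =>
    obtain ⟨fa, la, ra, ma⟩ := ha
    obtain ⟨fi, li, h1, h2⟩ := la.exists_inv
    rw [img_eq_of_map_le (hW.trans inf_le_left) la.isMap le_rfl ma, inv_one] at li
    rw [img_eq_of_map_le (hW.trans inf_le_left) la.isMap le_rfl ma] at h2
    refine ⟨fi, li, fun x hx => ?_, fun x hx => (h2 x hx).1⟩
    have := ra (fi x) (h2 x hx).1
    rw [(h2 x hx).2] at this
    rw [this]
    group

/-- Elements of order prime to `p` of `hLoc Y` lie in `hLoc`. -/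
theorem mem_hLoc_of_coprime (hY : W ≤ normalizerIn S P) {z : M.G}
    (hz : z ∈ hLoc h hP M ⊔ imgι M.ι W) (hco : (orderOf z).Coprime p) : z ∈ hLoc h hP M := by
  have hWH : imgι M.ι W ≤ hP' M := fun w hw => by
    obtain ⟨x, hx, rfl⟩ := (mem_imgι (hY.trans (hP.nP_le h))).1 hw
    exact e_mem_hP' h hP (hY hx)
  have hzH : z ∈ hP' M := sup_le inf_le_left hWH hz
  rw [← SetLike.mem_coe,
    coe_mul_of_right_le_normalizer_left _ _ (hWH.trans (le_normalizer_hLoc h hP))] at hz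
  obtain ⟨a, ha, b, hb, rfl⟩ := Set.mem_mul.1 hz
  obtain ⟨n, hn⟩ := ((h.pgroup.to_le inf_le_left :
    IsPGroup p (normalizerIn S (P ⊓ T))).to_subgroup _).map M.ι ⟨b, hb⟩
  refine Meet.mem_of_coprime_of_pow (fun x hx => hLoc_conj h hP hzH hx) (hco.pow_right n)
    (δ := b) (congrArg Subtype.val hn) ?_
  rwa [mul_inv_cancel_right]

theorem not_dvd_relIndex_sup (hW : W ≤ normalizerIn S P) (hV : normalizerIn T P ≤ W) :
    ¬ p ∣ (imgι M.ι W).relIndex (hLoc h hP M ⊔ imgι M.ι W) := by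
  haveI := M.fin
  set H := hP' M
  have hWH : imgι M.ι W ≤ H := fun w hw => by
    obtain ⟨x, hx, rfl⟩ := (mem_imgι (hW.trans (hP.nP_le h))).1 hw
    exact e_mem_hP' h hP (hW hx)
  have hLH : hLoc h hP M ≤ H := inf_le_left
  haveI : ((hLoc h hP M).subgroupOf H).Normal :=
    ⟨fun z hz a => hLoc_conj h hP a.2 hz⟩
  rw [← Subgroup.relIndex_subgroupOf (sup_le hLH hWH), Subgroup.subgroupOf_sup hLH hWH,
    Product.relIndex_sup_of_normal, Subgroup.relIndex_subgroupOf hLH]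
  exact fun hd => not_dvd_relIndex_h1 h hP
    (hd.trans (Subgroup.relIndex_dvd_of_le_left _ (imgι_mono hV)))

/-- Chains of tame intersections in `hLoc Y` give labelled maps. -/
theorem chain_piece {W₁ : Subgroup Ω} (hW₁ : W₁ ≤ normalizerIn S P)
    (Y : Sylow p (hLoc h hP M ⊔ imgι M.ι W₁ : Subgroup M.G))
    (hY : (Y : Subgroup (hLoc h hP M ⊔ imgι M.ι W₁ : Subgroup M.G)) =
      (imgι M.ι W₁).subgroupOf _)
    {D : Subgroup (hLoc h hP M ⊔ imgι M.ι W₁ : Subgroup M.G)}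
    {z : (hLoc h hP M ⊔ imgι M.ι W₁ : Subgroup M.G)} (hc : TameChain Y D z) :
    ∀ D₀ : Subgroup Ω, P ≤ D₀ → D₀ ≤ W₁ →
      (∀ x ∈ D₀, ∃ d ∈ D, (d : M.G) = M.e x) →
      ∃ u ∈ W₁, (z : M.G)⁻¹ * (M.e u)⁻¹ ∈ hLoc h hP M ∧
        ∃ f, LMap h D₀ f (nuB h u) ∧ Rz M D₀ f (z : M.G)⁻¹ := by
  haveI := M.fin
  have hW₁N := hW₁.trans (hP.nP_le h)
  have hW₁S : W₁ ≤ S := hW₁.trans inf_le_left
  have hKH : hLoc h hP M ⊔ imgι M.ι W₁ ≤ hP' M := sup_le inf_le_left fun w hw => by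
    obtain ⟨x, hx, rfl⟩ := (mem_imgι hW₁N).1 hw
    exact e_mem_hP' h hP (hW₁ hx)
  induction hc with
  | nil D =>
    intro D₀ _ hD₀ _
    refine ⟨1, one_mem _, ?_, id, ?_, fun x _ => by simp⟩
    · rw [show M.e 1 = 1 by
        rw [show M.e 1 = ext1 M.ι 1 from rfl, ext1_apply M.ι (one_mem _)]; exact map_one _]
      simp
    · rw [nuB_one]; exact LMap.id' (hD₀.trans hW₁S)
  | @cons D z Q x hT hx hD hc ih =>
    intro D₀ hPD hD₀ hmem
    let K : Subgroup M.G := hLoc h hP M ⊔ imgι M.ι W₁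
    let V' : Subgroup K := (Y : Subgroup K) ⊓ (Q : Subgroup K)
    let N : Subgroup K := Subgroup.normalizer (V' : Set K)
    let W₂ := preimageAlong M.ι (V'.map K.subtype)
    have hW₂e : ∀ w ∈ W₂, ∃ v ∈ V', (v : M.G) = M.e w := fun w hw => by
      obtain ⟨-, v, hv, hve⟩ := mem_preimageAlong.1 hw
      exact ⟨v, hv, hve⟩
    have hW₂W₁ : W₂ ≤ W₁ := fun w hw => by
      obtain ⟨v, hv, hve⟩ := hW₂e w hw
      refine mem_of_ext1_mem_imgι M.real.1 hW₁N (mem_preimageAlong.1 hw).1 ?_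
      rw [show ext1 M.ι w = _ from hve.symm]
      exact hY.le hv.1
    have hD₂ : D₀ ≤ W₂ := fun d hd => by
      obtain ⟨v, hv, hve⟩ := hmem d hd
      exact mem_preimageAlong.2 ⟨hW₁N (hD₀ hd), ⟨v, hD hv, hve⟩⟩
    have hPW₂ := hPD.trans hD₂
    have hW₂N := hW₂W₁.trans hW₁
    -- decompose `x⁻¹`
    set J := Subgroup.closure {a : K | a ∈ N ∧ (orderOf a).Coprime p} with hJ
    have hJN : J ≤ N := (Subgroup.closure_le _).2 fun a ha => ha.1
    have hNJ : N ≤ Subgroup.normalizer (J : Set K) := by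
      intro a ha
      refine conjBy_eq_iff.1 (conjBy_eq_of_le ?_)
      rw [conjBy, hJ, MonoidHom.map_closure, Subgroup.closure_le]
      rintro _ ⟨b, hb, rfl⟩
      refine Subgroup.subset_closure ⟨N.mul_mem (N.mul_mem ha hb.1) (N.inv_mem ha), ?_⟩
      show (orderOf (MulAut.conj a b)).Coprime p
      rw [MulEquiv.orderOf_eq]
      exact hb.2
    have hdec := le_sup_of_pow_mem (p := p) hJN (inf_le_right : (Y : Subgroup K) ⊓ N ≤ N) hNJ hT.1
      fun a ha => by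
        obtain ⟨j, hj⟩ := Components.exists_coprime_pow (p := p) a
        exact ⟨j, Subgroup.subset_closure ⟨pow_mem ha _, hj⟩⟩
    have hxi := hdec (N.inv_mem hx)
    rw [sup_comm, ← SetLike.mem_coe,
      coe_mul_of_left_le_normalizer_right _ J (inf_le_right.trans hNJ)] at hxi
    obtain ⟨y, hy, β, hβ, hyβ⟩ := Set.mem_mul.1 hxi
    obtain ⟨uy, huy, huye⟩ := (mem_imgι hW₁N).1 (Subgroup.mem_subgroupOf.1 (hY.le hy.1))
    have huye' : M.e uy = (y : M.G) := huye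
    have hnorm : ∀ a ∈ N, ∀ w ∈ W₂, (a : M.G) * M.e w * (a : M.G)⁻¹ ∈ imgι M.ι W₂ := by
      intro a ha w hw
      obtain ⟨v, hv, hve⟩ := hW₂e w hw
      have h1 : a * v * a⁻¹ ∈ V' := (Subgroup.mem_normalizer_iff.1 ha v).1 hv
      obtain ⟨w', hw', hw'e⟩ := (mem_imgι hW₁N).1 (Subgroup.mem_subgroupOf.1 (hY.le h1.1))
      rw [← hve]
      exact (mem_imgι (hW₂W₁.trans hW₁N)).2
        ⟨w', mem_preimageAlong.2 ⟨hW₁N hw', ⟨_, h1, hw'e.symm⟩⟩, hw'e⟩
    have hJL : (β : M.G) ∈ hLoc h hP M ∧ ∃ fb, LMap h W₂ fb 1 ∧ Rz M W₂ fb (β : M.G) ∧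
        ∀ w ∈ W₂, fb w ∈ W₂ := by
      have h1 : (β : M.G) ∈ Subgroup.closure
          (K.subtype '' {a : K | a ∈ N ∧ (orderOf a).Coprime p}) := by
        rw [← MonoidHom.map_closure]
        exact ⟨β, hβ, rfl⟩
      have hgen : ∀ g ∈ K.subtype '' {a : K | a ∈ N ∧ (orderOf a).Coprime p},
          g ∈ hLoc h hP M ∧ ((orderOf g).Coprime p ∨ g ∈ imgι M.ι (normalizerIn T P)) ∧
            ∀ w ∈ W₂, g * M.e w * g⁻¹ ∈ imgι M.ι W₂ := by
        rintro _ ⟨a, ⟨haN, hao⟩, rfl⟩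
        have hao' : (orderOf (a : M.G)).Coprime p := by rwa [Subgroup.orderOf_coe]
        exact ⟨mem_hLoc_of_coprime h hP hW₁ a.2 hao', Or.inl hao', hnorm a haN⟩
      exact ⟨(Subgroup.closure_le _).2 (fun g hg => (hgen g hg).1) h1,
        piece_closure h hP hPW₂ hW₂N hgen h1⟩
    obtain ⟨hβL, fb, lb, rb, mb⟩ := hJL
    have huyN := hW₁ huy
    have hxe : (x : M.G)⁻¹ = M.e uy * (β : M.G) := by
      rw [huye']; exact (congrArg Subtype.val hyβ).symm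
    set f₁ := (fun w => uy * w * uy⁻¹) ∘ fb with hf₁
    have hl₁ : LMap h W₂ f₁ (nuB h uy) :=
      mul_one (nuB h uy) ▸ lb.comp (LMap.conj (hW₁S huy) (hW₂W₁.trans hW₁S)) mb
    have hr₁ : Rz M W₂ f₁ (x : M.G)⁻¹ :=
      hxe ▸ rb.comp (rz_conj h hP huyN (hW₂W₁.trans hW₁N)) mb
    have hv₁ : ∀ w ∈ W₂, f₁ w ∈ W₂ := fun w hw => by
      refine mem_of_ext1_mem_imgι M.real.1 (hW₂W₁.trans hW₁N) (mul_mem (mul_mem (hW₁N huy)
        (hW₁N (hW₂W₁ (mb w hw)))) (inv_mem (hW₁N huy))) ?_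
      have h1 := hnorm _ (N.inv_mem hx) w hw
      rwa [Subgroup.coe_inv, ← hr₁ w hw] at h1
    have hf₁P : ∀ w ∈ P, f₁ w ∈ P := fun w hw => by
      refine mem_of_ext1_mem_imgι M.real.1 (hP.le_nR h) (hW₁N (hW₂W₁ (hv₁ w (hPW₂ hw)))) ?_
      rw [show ext1 M.ι (f₁ w) = _ from hr₁ w (hPW₂ hw)]
      exact hP'_conj h hP (inv_mem (hKH x.2)) hw
    set D₁ := img D₀ f₁
    have hl₀ := hl₁.mono hD₂
    have hPD₁ : P ≤ D₁ := by
      rw [← img_eq_of_map_le hP.normalized.1 hl₁.isMap hPW₂ hf₁P]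
      exact hl₀.isMap.img_mono hPD
    obtain ⟨u', hu', hzu', f₂, hl₂, hr₂⟩ := ih D₁ hPD₁
      (hl₀.isMap.img_le_of_forall fun w hw => hW₂W₁ (hv₁ w (hD₂ hw))) fun w hw => by
        obtain ⟨w₀, hw₀, rfl⟩ := hl₀.isMap.mem_img.1 hw
        obtain ⟨v, hv, hve⟩ := hmem w₀ hw₀
        refine ⟨x⁻¹ * v * x⁻¹⁻¹, conj_mem_conjBy hv, ?_⟩
        rw [hr₁ w₀ (hD₂ hw₀)]
        simp [hve]
    refine ⟨u' * uy, mul_mem hu' huy, ?_, f₂ ∘ f₁, ?_, ?_⟩
    · rw [Subgroup.coe_mul, M.mul (hW₁N hu') (hW₁N huy), mul_inv_rev, mul_inv_rev,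
        show (z : M.G)⁻¹ * (x : M.G)⁻¹ * ((M.e uy)⁻¹ * (M.e u')⁻¹) =
          ((z : M.G)⁻¹ * ((x : M.G)⁻¹ * (M.e uy)⁻¹) * (z : M.G)⁻¹⁻¹) *
            ((z : M.G)⁻¹ * (M.e u')⁻¹) by group]
      refine mul_mem (hLoc_conj h hP (inv_mem (hKH z.2)) ?_) hzu'
      rw [hxe]
      exact hLoc_conj h hP (e_mem_hP' h hP huyN) hβL
    · rw [nuB_mul h (hW₁S hu') (hW₁S huy)]
      exact hl₀.comp hl₂ fun w hw => hl₀.isMap.mem_img.2 ⟨w, hw, rfl⟩
    · rw [Subgroup.coe_mul, mul_inv_rev]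
      exact (hr₁.mono hD₂).comp hr₂ fun w hw => hl₀.isMap.mem_img.2 ⟨w, hw, rfl⟩

/-- An element of `hLoc` conjugating a subgroup of `W₁` into `W₁` is labelled `1`. -/
theorem piece {W₁ : Subgroup Ω} (hV : normalizerIn T P ≤ W₁) (hW₁ : W₁ ≤ normalizerIn S P)
    {z : M.G} (hz : z ∈ hLoc h hP M) (hPD : P ≤ D) (hD : D ≤ W₁)
    (hzD : ∀ x ∈ D, z * M.e x * z⁻¹ ∈ imgι M.ι W₁) : ∃ f, LMap h D f 1 ∧ Rz M D f z := by
  haveI := M.fin
  set K : Subgroup M.G := hLoc h hP M ⊔ imgι M.ι W₁ with hK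
  have hW₁N := hW₁.trans (hP.nP_le h)
  have hp : IsPGroup p ((imgι M.ι W₁).subgroupOf K) :=
    (((h.pgroup.to_le inf_le_left : IsPGroup p (normalizerIn S (P ⊓ T))).to_subgroup _).map
      _).of_equiv (Subgroup.subgroupOfEquivOfLe (le_sup_right : imgι M.ι W₁ ≤ K)).symm
  let Y : Sylow p K := hp.toSylow (not_dvd_relIndex_sup h hP hW₁ hV)
  have hY : (Y : Subgroup K) = (imgι M.ι W₁).subgroupOf K := rfl
  have hzK : z ∈ K := Subgroup.mem_sup_left hz
  obtain ⟨D', hD', hc⟩ := exists_tameChain Y {d : K | ∃ x ∈ D, (d : M.G) = M.e x}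
    (⟨z, hzK⟩⁻¹ : K) (fun d ⟨x, hx, hde⟩ => by
      show d ∈ (Y : Subgroup K)
      rw [hY, Subgroup.mem_subgroupOf, hde]
      exact ext1_mem_imgι hW₁N (hD hx))
    (by
      rintro _ ⟨d, ⟨x, hx, hde⟩, rfl⟩
      show _ ∈ (Y : Subgroup K)
      rw [hY, Subgroup.mem_subgroupOf]
      simp only [Subgroup.coe_mul, InvMemClass.coe_inv, inv_inv, hde]
      exact hzD x hx)
  obtain ⟨u, hu, hzu, f, hl, hr⟩ := chain_piece h hP hW₁ Y hY hc D hPD hD fun x hx =>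
    ⟨⟨M.e x, Subgroup.mem_sup_right (ext1_mem_imgι hW₁N (hD hx))⟩,
      hD' ⟨x, hx, rfl⟩, rfl⟩
  simp only [InvMemClass.coe_inv, inv_inv] at hzu hr
  have huL : M.e u ∈ hLoc h hP M := by
    have h1 := mul_mem (inv_mem hzu) hz
    rwa [mul_inv_rev, inv_inv, inv_mul_cancel_right] at h1
  have huT : u ∈ T := (mem_nT_of_e h hP (hW₁N hu) huL.1 huL.2).1
  rw [nuB_of_T h huT] at hl
  exact ⟨f, hl, hr⟩

/-- Every element of the stabilizer conjugating `W` into `N_S(P)` gives a labelled map. -/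
theorem exists_ld
    (hex : ∀ (W' : Subgroup Ω) (f : Ω → Ω), IsMap F W' f → SelfC F T (W' ⊓ T) →
      Nat.card P < Nat.card W' → ∃ γ : Lbl h, LMap h W' f γ)
    {g : M.G} (hg : g ∈ hP' M) (hPW : P ≤ W) (hW : W ≤ normalizerIn S P)
    (hgW : ∀ x ∈ W, g * M.e x * g⁻¹ ∈ M.ι.range) :
    ∃ f γ, LMap h W f γ ∧ Rz M W f g ∧ Phi h hP M g γ := by
  haveI := M.fin
  obtain ⟨f₀, hf₀, hr₀, hf₀P, hf₀N⟩ := rz_map h hP hg hPW hW hgW
  set W' := img W f₀
  have hW' : W' ≤ normalizerIn S P := hf₀.img_le_of_forall hf₀N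
  set W₁ := normalizerIn T P ⊔ W with hW₁
  set W₁' := normalizerIn T P ⊔ W' with hW₁'
  have hW₁N : W₁ ≤ normalizerIn S P := sup_nT_le h hP hW
  have hW₁'N : W₁' ≤ normalizerIn S P := sup_nT_le h hP hW'
  have hNN := hP.nP_le h
  set K : Subgroup M.G := hLoc h hP M ⊔ imgι M.ι W₁'
  have hgY : conjBy g (imgι M.ι W₁) ≤ K := by
    refine conjBy_le_iff.2 fun y hy => ?_
    set B := preimageAlong M.ι (K.comap (MulAut.conj g).toMonoidHom)
    have hB : W₁ ≤ B := by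
      refine sup_le (fun t ht => mem_preimageAlong.2 ⟨hNN (hP.nT_le h ht), ?_⟩)
        fun w hw => mem_preimageAlong.2 ⟨hNN (hW hw), ?_⟩
      · exact Subgroup.mem_sup_left (hLoc_conj h hP hg (e_mem_h1 h hP ht))
      · show g * M.e w * g⁻¹ ∈ K
        rw [← hr₀ w hw]
        exact Subgroup.mem_sup_right (ext1_mem_imgι (hW₁'N.trans hNN)
          (Subgroup.mem_sup_right (hf₀.mem_img.2 ⟨w, hw, rfl⟩)))
    obtain ⟨w, hw, rfl⟩ := (mem_imgι (hW₁N.trans hNN)).1 hy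
    exact (mem_preimageAlong.1 (hB hw)).2
  have hYp : ∀ V : Subgroup Ω, IsPGroup p (imgι M.ι V) := fun V =>
    ((h.pgroup.to_le inf_le_left : IsPGroup p (normalizerIn S (P ⊓ T))).to_subgroup _).map _
  obtain ⟨y, hy, hyY⟩ := exists_conj_le_of_not_dvd_relIndex (hYp W₁') le_sup_right
    (not_dvd_relIndex_sup h hP hW₁'N le_sup_left) (isPGroup_conjBy g (hYp W₁)) hgY
  have hY'H : imgι M.ι W₁' ≤ hP' M := fun w hw => by
    obtain ⟨x, hx, rfl⟩ := (mem_imgι (hW₁'N.trans hNN)).1 hw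
    exact e_mem_hP' h hP (hW₁'N hx)
  rw [← SetLike.mem_coe, sup_comm,
    coe_mul_of_left_le_normalizer_right _ _ (hY'H.trans (le_normalizer_hLoc h hP))] at hy
  obtain ⟨y₂, hy₂, z, hz, rfl⟩ := Set.mem_mul.1 hy
  set n := z * g with hn
  have hnH : n ∈ hP' M := mul_mem hz.1 hg
  have hnY : ∀ x ∈ W₁, n * M.e x * n⁻¹ ∈ imgι M.ι W₁' := fun x hx => by
    have h1 := hyY (conj_mem_conjBy (g := y₂ * z) (conj_mem_conjBy (g := g)
      (ext1_mem_imgι (hW₁N.trans hNN) hx)))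
    have h2 := mul_mem (mul_mem (inv_mem hy₂) h1) hy₂
    rwa [show y₂⁻¹ * (y₂ * z * (g * ext1 M.ι x * g⁻¹) * (y₂ * z)⁻¹) * y₂ = n * M.e x * n⁻¹ by
      rw [hn, LModel.e]; group] at h2
  obtain ⟨k, hk, hkr, hkP, hkN⟩ := rz_map h hP hnH (hPW.trans le_sup_right) hW₁N
    fun x hx => imgι_le_range _ (hnY x hx)
  have hW₁S : W₁ ≤ S := hW₁N.trans inf_le_left
  obtain ⟨δ, hδ⟩ := hex W₁ k hk
    (hP.selfC.mono (le_inf (inf_le_left.trans (hPW.trans le_sup_right)) inf_le_right) inf_le_right)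
    (lt_of_lt_of_le (card_lt_nT h hP)
      (card_le_of_le' hW₁S (sup_le le_sup_left (hPW.trans le_sup_right))))
  have hUW : up T P ≤ W₁ := sup_le le_sup_left (hPW.trans le_sup_right)
  have hkU : ∀ x ∈ up T P, k x ∈ up T P := fun x hx => (hk.mono hUW).map_mem_of_sup
    (fun t ht => Subgroup.mem_sup_left (show k t ∈ normalizerIn T P from
      ⟨cl_mem h.closed hk (hUW (Subgroup.mem_sup_left ht)) ht.1,
        (hkN t (hUW (Subgroup.mem_sup_left ht))).2⟩))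
    (fun q hq => Subgroup.mem_sup_right (mem_of_img_eq hk (hPW.trans le_sup_right) hkP hq)) hx
  have hkW : ∀ x ∈ W₁, k x ∈ W₁' := fun x hx => mem_of_ext1_mem_imgι M.real.1 (hW₁'N.trans hNN)
    (hNN (hkN x hx)) (by show M.e (k x) ∈ _; rw [hkr x hx]; exact hnY x hx)
  -- the part in the local subgroup
  set D₀ := img W k
  have hkm := hk.mono (le_sup_right : W ≤ W₁)
  obtain ⟨fz, hlz, hrz⟩ := piece h hP (le_sup_left : normalizerIn T P ≤ W₁') hW₁'N
    (inv_mem hz) (D := D₀) (hkP.ge.trans (hkm.img_mono hPW))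
    (hkm.img_le_of_forall fun x hx => hkW x (Subgroup.mem_sup_right hx)) fun x hx => by
      obtain ⟨w, hw, rfl⟩ := hkm.mem_img.1 hx
      rw [hkr w (Subgroup.mem_sup_right hw),
        show z⁻¹ * (n * M.e w * n⁻¹) * z⁻¹⁻¹ = g * M.e w * g⁻¹ by rw [hn]; group, ← hr₀ w hw]
      exact ext1_mem_imgι (hW₁'N.trans hNN)
        (Subgroup.mem_sup_right (hf₀.mem_img.2 ⟨w, hw, rfl⟩))
  have hm : ∀ x ∈ W, k x ∈ D₀ := fun x hx => hkm.mem_img.2 ⟨x, hx, rfl⟩
  refine ⟨fz ∘ k, δ, one_mul δ ▸ (hδ.mono le_sup_right).comp hlz hm, ?_, hg, n, hnH, ?_, k,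
    hδ.mono hUW, hkr.mono hUW, hkU⟩
  · have := (hkr.mono (le_sup_right : W ≤ W₁)).comp hrz hm
    rwa [hn, inv_mul_cancel_left] at this
  · rw [hn, show (z * g)⁻¹ * g = g⁻¹ * z⁻¹ * g⁻¹⁻¹ by group]
    exact hLoc_conj h hP (inv_mem hg) (inv_mem hz)

end CfsgLib.Fusion.Balance
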