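import Cfsg.Agent.Lib.Fusion.Balance.Coherence

/-!
# The system over `A` cut out by the labels of `A`

For `T C_S(T) ≤ A ≤ S` the maps between subgroups of `A` composed of maps with labels in the image of `A`,
on subgroups meeting `T` in self-centralizing subgroups, form a saturated system on `A`.
-/

set_option autoImplicit false
set_option maxHeartbeats 1000000
set_option linter.style.haveILetI false
set_option linter.unusedSectionVars false

open Subgroup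
open scoped Classical Pointwise

namespace CfsgLib.Fusion.Balance

open Cfsg (FusionSystem autInducedBy)
open Cfsg.FusionSystem (normalizerIn centralizerIn preimageAlong)
open CfsgLib.Fusion CfsgLib.Fusion.CentLift CfsgLib.Fusion.Meet

universe u

variable {Ω : Type u} [Group Ω] {S T : Subgroup Ω} {F : FusionSystem S} {E : FusionSystem T}
  {p : ℕ} [Finite S] [Fact p.Prime] {A P Q R W D : Subgroup Ω} {f g : Ω → Ω}
  (h : Setup F p E E T)

/-- A homomorphic image does not increase indices. -/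
theorem relIndex_map_dvd {G G' : Type*} [Group G] [Group G'] (φ : G →* G') (H K : Subgroup G)
    (hHK : H ≤ K) : (H.map φ).relIndex (K.map φ) ∣ H.relIndex K := by
  have e : (H.subgroupOf K).map (φ.subgroupMap K) = (H.map φ).subgroupOf (K.map φ) := by
    ext ⟨y, hy⟩
    constructor
    · rintro ⟨⟨x, hx⟩, hxH, hxy⟩
      exact ⟨x, hxH, congrArg Subtype.val hxy⟩
    · rintro ⟨x, hx, hxy⟩
      exact ⟨⟨x, hHK hx⟩, hx, Subtype.ext hxy⟩
  rw [Subgroup.relIndex, Subgroup.relIndex, ← e]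
  exact Subgroup.index_map_dvd _ (φ.subgroupMap_surjective K)

/-- Elements with trivial label lie in `T C_S(T)`. -/
theorem mem_TC_of_nuB {s : Ω} (hs : s ∈ S) (h1 : nuB h s = 1) :
    s ∈ T ⊔ centralizerIn S T := by
  haveI := finite_of_le h.hTS
  haveI := finite_mulAut (P := T)
  have hn : nu h s ∈ E.autGroup T := (lab_eq_one_iff h _).1 h1
  have hTp := h.pgroup.to_le h.hTS
  obtain ⟨-, hi⟩ := (isFullyAutomized_iff hTp).1
    (IsSaturated.automized_receptive hTp h.side₁.sat isFullyNormalized_self).1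
  set Y := autInducedBy T T
  obtain ⟨n, hn'⟩ := IsPGroup.iff_card.1 h.pgroup
  have hpow : nu h s ^ p ^ n = 1 := autFun_ext fun x hx => by
    have hk : ∀ k : ℕ, ∀ y ∈ T, autFun (nu h s ^ k) y = s ^ k * y * (s ^ k)⁻¹ := by
      intro k
      induction k with
      | zero => intro y hy; simp [autFun_one hy]
      | succ k ih =>
        intro y hy
        rw [pow_succ', pow_succ', autFun_mul _ _ hy, autFun_nu h hs (autFun_mem _ hy), ih y hy]
        group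
    have hsn : s ^ p ^ n = 1 := by
      have := orderOf_dvd_natCard (⟨s, hs⟩ : S)
      rw [hn', ← Subgroup.orderOf_coe] at this
      exact orderOf_dvd_iff_pow_eq_one.1 this
    rw [hk _ x hx, hsn, autFun_one hx]
    group
  have hz : IsPGroup p (Subgroup.zpowers (nu h s)) :=
    IsPGroup.of_card_dvd_pow (n := n) (by
      rw [Nat.card_zpowers]
      exact orderOf_dvd_of_pow_eq_one hpow)
  have hnorm : Subgroup.zpowers (nu h s) ≤ Subgroup.normalizer (Y : Set (MulAut T)) := by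
    rw [Subgroup.zpowers_le]
    refine conjBy_eq_iff.1 (conjBy_eq_of_le (conjBy_le_iff.2 fun a ha => ?_))
    obtain ⟨t, ht, hte⟩ := mem_autInducedBy_iff.1 ha
    refine mem_autInducedBy_iff.2
      ⟨s * t * s⁻¹, (Subgroup.mem_normalizer_iff.1 (h.normal hs) t).1 ht, fun x hx => ?_⟩
    have hx' := autFun_mem (nu h s)⁻¹ hx
    rw [autFun_mul _ _ hx, autFun_mul _ _ hx', hte _ hx', autFun_nu h hs
      (T.mul_mem (T.mul_mem ht hx') (T.inv_mem ht))]
    have h2 := PPrime.autFun_symm' (α := nu h s) hx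
    rw [autFun_nu h hs hx'] at h2
    conv_rhs => rw [← h2]
    group
  have hsup : IsPGroup p (Y ⊔ Subgroup.zpowers (nu h s) : Subgroup (MulAut T)) := by
    rw [sup_comm]
    exact IsPGroup.to_sup_of_normal_right' hz (isPGroup_autInducedBy hTp) hnorm
  have he := eq_of_le_of_isPGroup_of_not_dvd_relIndex hsup le_sup_left
    (sup_le (autInducedBy_le_autGroup le_rfl) (by rwa [Subgroup.zpowers_le])) hi
  obtain ⟨t, ht, hte⟩ := mem_autInducedBy_iff.1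
    (he.le (Subgroup.mem_sup_right (Subgroup.mem_zpowers (nu h s))))
  have hc : t⁻¹ * s ∈ centralizerIn S T := by
    refine ⟨S.mul_mem (S.inv_mem (h.hTS ht)) hs, Subgroup.mem_centralizer_iff.2 fun x hx => ?_⟩
    have h2 := (autFun_nu h hs hx).symm.trans (hte x hx)
    calc x * (t⁻¹ * s) = t⁻¹ * (t * x * t⁻¹) * s := by group
      _ = t⁻¹ * s * x := by rw [← h2]; group
  have h3 := mul_mem (Subgroup.mem_sup_left (T := centralizerIn S T) ht)
    (Subgroup.mem_sup_right (S := T) hc)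
  rwa [mul_inv_cancel_left] at h3

/-- The labels of `A`. -/
def lam (A : Subgroup Ω) : Subgroup (Lbl h) where
  carrier := {γ | ∃ a ∈ A ⊓ S, nuB h a = γ}
  one_mem' := ⟨1, one_mem _, nuB_one h⟩
  mul_mem' := by
    rintro _ _ ⟨a, ha, rfl⟩ ⟨b, hb, rfl⟩
    exact ⟨a * b, mul_mem ha hb, nuB_mul h ha.2 hb.2⟩
  inv_mem' := by
    rintro _ ⟨a, ha, rfl⟩
    exact ⟨a⁻¹, inv_mem ha, nuB_inv h ha.2⟩

theorem nuB_mem_lam (hAS : A ≤ S) {a : Ω} (ha : a ∈ A) : nuB h a ∈ lam h A :=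
  ⟨a, ⟨ha, hAS ha⟩, rfl⟩

/-- The elements of `S` with labels in a conjugate of those of `A`. -/
def pre (A : Subgroup Ω) (γ : Lbl h) : Subgroup Ω where
  carrier := {s | s ∈ S ∧ γ⁻¹ * nuB h s * γ ∈ lam h A}
  one_mem' := ⟨one_mem S, by rw [nuB_one, mul_one, inv_mul_cancel]; exact one_mem _⟩
  mul_mem' := fun {a b} ha hb => ⟨mul_mem ha.1 hb.1, by
    rw [nuB_mul h ha.1 hb.1,
      show γ⁻¹ * (nuB h a * nuB h b) * γ = γ⁻¹ * nuB h a * γ * (γ⁻¹ * nuB h b * γ) by group]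
    exact mul_mem ha.2 hb.2⟩
  inv_mem' := fun {a} ha => ⟨inv_mem ha.1, by
    rw [nuB_inv h ha.1,
      show γ⁻¹ * (nuB h a)⁻¹ * γ = (γ⁻¹ * nuB h a * γ)⁻¹ by group]
    exact inv_mem ha.2⟩

theorem pre_le (γ : Lbl h) : pre h A γ ≤ S := fun _ hs => hs.1

theorem T_le_pre (γ : Lbl h) : T ≤ pre h A γ := fun t ht =>
  ⟨h.hTS ht, by rw [nuB_of_T h ht, mul_one, inv_mul_cancel]; exact one_mem _⟩

variable (hcT : centralizerIn S T ≤ A) (hTA : T ≤ A) (hAS : A ≤ S)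

include hcT hTA in
theorem mem_of_lam {s : Ω} (hs : s ∈ S) (hl : nuB h s ∈ lam h A) : s ∈ A := by
  obtain ⟨a, ha, hae⟩ := hl
  have h1 : a⁻¹ * s ∈ T ⊔ centralizerIn S T := mem_TC_of_nuB h (S.mul_mem (S.inv_mem ha.2) hs) (by
    rw [nuB_mul h (inv_mem ha.2) hs, nuB_inv h ha.2, hae, inv_mul_cancel])
  simpa using A.mul_mem ha.1 (sup_le hTA hcT h1)

variable {h}

include hcT hTA in
/-- A map with label in the labels of `A` carries `A` into `A`. -/
theorem LMap.mem_A {γ : Lbl h} (hl : LMap h P f γ) (hPA : P ≤ A) (hAS : A ≤ S) (hγ : γ ∈ lam h A)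
    {x : Ω} (hx : x ∈ P) : f x ∈ A := by
  refine mem_of_lam h hcT hTA (hl.isMap.mem_S hx) ?_
  rw [hl.twist x hx]
  exact mul_mem (mul_mem hγ (nuB_mem_lam h hAS (hPA hx))) (inv_mem hγ)

/-- A map pulls back into `pre` of the product of the labels. -/
theorem LMap.mem_pre {γ δ : Lbl h} (hl : LMap h P f γ) (hP : P ≤ pre h A δ) {x : Ω}
    (hx : x ∈ P) : f x ∈ pre h A (γ * δ) := by
  refine ⟨hl.isMap.mem_S hx, ?_⟩
  rw [hl.twist x hx,
    show (γ * δ)⁻¹ * (γ * nuB h x * γ⁻¹) * (γ * δ) = δ⁻¹ * nuB h x * δ by group]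
  exact (hP hx).2

variable (h)

/-- Maps with labels in the labels of `A`. -/
inductive BMap (A : Subgroup Ω) : Subgroup Ω → (Ω → Ω) → Prop
  | base {P : Subgroup Ω} {f : Ω → Ω} {γ : Lbl h} : LMap h P f γ → P ≤ A →
      SelfC F T (P ⊓ T) → γ ∈ lam h A → BMap A P f
  | mono {P R : Subgroup Ω} {f : Ω → Ω} : BMap A P f → R ≤ P → BMap A R f
  | congr {P : Subgroup Ω} {f g : Ω → Ω} : BMap A P f → (∀ x ∈ P, g x = f x) → BMap A P g
  | comp {P R : Subgroup Ω} {f g : Ω → Ω} : BMap A P f → BMap A R g →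
      (∀ x ∈ P, f x ∈ R) → BMap A P (g ∘ f)

variable {h}

theorem BMap.lmap (hb : BMap h A P f) : P ≤ A ∧ ∃ γ ∈ lam h A, LMap h P f γ := by
  induction hb with
  | base hl hP _ hγ => exact ⟨hP, _, hγ, hl⟩
  | mono _ hR ih => obtain ⟨hP, γ, hγ, hl⟩ := ih; exact ⟨hR.trans hP, γ, hγ, hl.mono hR⟩
  | congr _ he ih => obtain ⟨hP, γ, hγ, hl⟩ := ih; exact ⟨hP, γ, hγ, hl.congr he⟩
  | comp _ _ hm ih1 ih2 =>
    obtain ⟨hP, γ, hγ, hl⟩ := ih1
    obtain ⟨-, δ, hδ, hl'⟩ := ih2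
    exact ⟨hP, δ * γ, mul_mem hδ hγ, hl.comp hl' hm⟩

theorem BMap.isMap (hb : BMap h A P f) : IsMap F P f := by
  obtain ⟨-, γ, -, hl⟩ := hb.lmap
  exact hl.isMap

include hcT hTA hAS

theorem BMap.mem (hb : BMap h A P f) {x : Ω} (hx : x ∈ P) : f x ∈ A := by
  obtain ⟨hP, γ, hγ, hl⟩ := hb.lmap
  exact hl.mem_A hcT hTA hP hAS hγ hx

theorem BMap.exists_inv (hb : BMap h A P f) :
    ∃ f', BMap h A (img P f) f' ∧ (∀ x ∈ P, f' (f x) = x) ∧
      ∀ y ∈ img P f, f' y ∈ P ∧ f (f' y) = y := by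
  induction hb with
  | @base P f γ hl hP hs hγ =>
    obtain ⟨f', hl', h1, h2⟩ := hl.exists_inv
    refine ⟨f', BMap.base hl' ?_ ?_ (inv_mem hγ), h1, h2⟩
    · exact hl.isMap.img_le_of_forall fun x hx => hl.mem_A hcT hTA hP hAS hγ hx
    · rw [img_inf_T h hl.isMap]
      exact hs.map h.closed (hl.isMap.mono inf_le_left)
  | @mono P R f hb hR ih =>
    obtain ⟨f', hf', h1, h2⟩ := ih
    refine ⟨f', hf'.mono (hb.isMap.img_mono hR), fun x hx => h1 x (hR hx), fun y hy => ?_⟩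
    obtain ⟨x, hx, rfl⟩ := (hb.isMap.mono hR).mem_img.1 hy
    rw [h1 x (hR hx)]
    exact ⟨hx, rfl⟩
  | @congr P f g hb he ih =>
    obtain ⟨f', hf', h1, h2⟩ := ih
    rw [IsMap.img_congr he]
    exact ⟨f', hf', fun x hx => by rw [he x hx, h1 x hx],
      fun y hy => ⟨(h2 y hy).1, by rw [he _ (h2 y hy).1, (h2 y hy).2]⟩⟩
  | @comp P R f g hb hb' hm ih1 ih2 =>
    obtain ⟨f', hf', f1, f2⟩ := ih1
    obtain ⟨g', hg', g1, g2⟩ := ih2
    have hle : img P (g ∘ f) ≤ img R g := by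
      rw [← img_img hb.isMap]
      exact hb'.isMap.img_mono (hb.isMap.img_le_of_forall hm)
    have hback : ∀ y ∈ img P (g ∘ f), ∃ x ∈ P, g (f x) = y := fun y hy =>
      (hb.isMap.comp hb'.isMap hm).mem_img.1 hy
    refine ⟨f' ∘ g', (hg'.mono hle).comp hf' fun y hy => ?_, fun x hx => ?_, fun y hy => ?_⟩
    · obtain ⟨x, hx, rfl⟩ := hback y hy
      rw [g1 _ (hm x hx)]
      exact hb.isMap.mem_img.2 ⟨x, hx, rfl⟩
    · show f' (g' (g (f x))) = x
      rw [g1 _ (hm x hx), f1 x hx]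
    · obtain ⟨x, hx, rfl⟩ := hback y hy
      show f' (g' (g (f x))) ∈ P ∧ g (f (f' (g' (g (f x))))) = g (f x)
      rw [g1 _ (hm x hx), f1 x hx]
      exact ⟨hx, rfl⟩

theorem BMap.of_conj {a : Ω} (ha : a ∈ A) (hP : P ≤ A) :
    BMap h A P (fun x => a * x * a⁻¹) :=
  (BMap.base (LMap.conj (h := h) (hAS ha) hAS) le_rfl
    (by rw [inf_eq_right.2 hTA]; exact selfC_T h) (nuB_mem_lam h hAS ha)).mono hP

variable (h)

/-- The system on `A`. -/
noncomputable def bSys : FusionSystem A :=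
  mkSystem F A (BMap h A)
    (fun _ _ hb => ⟨hb.isMap, hb.lmap.1, fun _ hx => hb.mem hcT hTA hAS hx⟩)
    (fun _ _ _ hb he => hb.congr he)
    (fun _ _ hP ha => BMap.of_conj hcT hTA hAS ha hP)
    (fun _ _ _ _ hf hg hm => hf.comp hg hm)
    (fun P f f' hb hf' he => by
      obtain ⟨k, hk, hk1, -⟩ := hb.exists_inv hcT hTA hAS
      refine hk.congr fun y hy => ?_
      obtain ⟨x, hx, rfl⟩ := hb.isMap.mem_img.1 hy
      rw [he x hx, hk1 x hx])

theorem isMap_bSys : IsMap (bSys h hcT hTA hAS) P f ↔ BMap h A P f := isMap_mkSystem_iff _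

omit hcT in
/-- A map of `pre` into `A` with inverse label. -/
theorem exists_pull (γ : Lbl h) :
    ∃ q, LMap h (pre h A γ) q γ⁻¹ := by
  haveI := finite_of_le h.hTS
  haveI := finite_mulAut (P := T)
  have hTp := h.pgroup.to_le h.hTS
  obtain ⟨α₀, hα₀, hαl⟩ := lab_surj h γ⁻¹
  set G := F.autGroup T
  set YA := (autInducedBy A T).subgroupOf G with hYA
  set L := (lam h A).comap (QuotientGroup.mk' (eSub h)) with hL
  have hnuA : ∀ a ∈ A, (⟨nu h a, nu_mem h a⟩ : G) ∈ YA := fun a ha =>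
    Subgroup.mem_subgroupOf.2 (mem_autInducedBy_iff.2 ⟨a, ha, fun x hx => autFun_nu h (hAS ha) hx⟩)
  have hYL : YA ≤ L := fun y hy => by
    obtain ⟨a, ha, hae⟩ := mem_autInducedBy_iff.1 (Subgroup.mem_subgroupOf.1 hy)
    show lab h y.2 ∈ lam h A
    rw [lab_congr h y.2 (nu_mem h a) fun x hx => by rw [hae x hx, autFun_nu h (hAS ha) hx]]
    exact nuB_mem_lam h hAS ha
  have hLe : L ≤ eSub h ⊔ YA := fun y hy => by
    obtain ⟨a, ha, hae⟩ := (hy : (QuotientGroup.mk y : Lbl h) ∈ lam h A)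
    have h1 : (⟨nu h a, nu_mem h a⟩ : G)⁻¹ * y ∈ eSub h := QuotientGroup.eq.1 hae
    have h2 := mul_mem (Subgroup.mem_sup_right (S := eSub h) (hnuA a ha.1))
      (Subgroup.mem_sup_left (T := YA) h1)
    rwa [mul_inv_cancel_left] at h2
  have hEL : eSub h ≤ L := fun y hy => by
    show (QuotientGroup.mk y : Lbl h) ∈ lam h A
    rw [(QuotientGroup.eq_one_iff y).2 hy]
    exact one_mem _
  have hi : ¬ p ∣ YA.relIndex L := by
    rw [le_antisymm hLe (sup_le hEL hYL), Product.relIndex_sup_of_normal]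
    intro hd
    obtain ⟨-, hiT⟩ := (isFullyAutomized_iff hTp).1
      (IsSaturated.automized_receptive hTp h.side₁.sat isFullyNormalized_self).1
    refine hiT ?_
    have hEG : E.autGroup T ≤ G := fun b hb => (mem_autGroup_iff h.hTS).2
      (((mem_autGroup_iff le_rfl).1 hb).ofSubsystem h.side₁.sub)
    rw [← Subgroup.relIndex_subgroupOf hEG]
    exact hd.trans (Subgroup.relIndex_dvd_of_le_left _
      (Subgroup.comap_mono (autInducedBy_mono hTA)))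
  -- the automorphisms of `T` induced by `pre`, moved by `α₀`
  set Z := (autInducedBy (pre h A γ) T).subgroupOf G with hZ
  have hZp : IsPGroup p Z :=
    ((isPGroup_autInducedBy h.pgroup).to_le (autInducedBy_mono (pre_le h γ))).comap_subtype
  have hYAp : IsPGroup p YA :=
    ((isPGroup_autInducedBy h.pgroup).to_le (autInducedBy_mono hAS)).comap_subtype
  have hconj : conjBy (⟨α₀, hα₀⟩ : G) Z ≤ L := conjBy_le_iff.2 fun z hz => by
    obtain ⟨s, hs, hse⟩ := mem_autInducedBy_iff.1 (Subgroup.mem_subgroupOf.1 hz)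
    show QuotientGroup.mk' (eSub h) (⟨α₀, hα₀⟩ * z * ⟨α₀, hα₀⟩⁻¹) ∈ lam h A
    rw [map_mul, map_mul, map_inv]
    show lab h hα₀ * lab h z.2 * (lab h hα₀)⁻¹ ∈ lam h A
    rw [hαl, inv_inv, lab_congr h z.2 (nu_mem h s)
      fun x hx => by rw [hse x hx, autFun_nu h hs.1 hx]]
    exact hs.2
  obtain ⟨y, hy, hyA⟩ :=
    exists_conj_le_of_not_dvd_relIndex hYAp hYL hi (isPGroup_conjBy _ hZp) hconj
  obtain ⟨a, ha, hae⟩ := (hy : (QuotientGroup.mk y : Lbl h) ∈ lam h A)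
  set α : G := (⟨nu h a, nu_mem h a⟩ : G)⁻¹ * y * ⟨α₀, hα₀⟩ with hα
  have hαlab : lab h α.2 = γ⁻¹ := by
    show (QuotientGroup.mk α : Lbl h) = _
    rw [hα, QuotientGroup.mk_mul, QuotientGroup.mk_mul, QuotientGroup.mk_inv,
      show (QuotientGroup.mk (⟨nu h a, nu_mem h a⟩ : G) : Lbl h) = QuotientGroup.mk y from hae,
      inv_mul_cancel, one_mul]
    exact hαl
  have hn : F.IsFullyNormalized T := ⟨h.hTS, fun Q hQ => by
    obtain ⟨f, hf, rfl⟩ := isConj_iff.1 hQ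
    rw [img_eq_of_map_le h.hTS hf le_rfl fun x hx => cl_mem h.closed hf hx hx]⟩
  obtain ⟨q, hq, hqe⟩ := (isReceptive_iff.1
    (IsSaturated.automized_receptive h.pgroup h.sat hn).2).2 T (autFun (α : MulAut T))
    ((mem_autGroup_iff h.hTS).1 α.2) (img_autFun _)
  have hext : pre h A γ ≤ extSub S T (autFun (α : MulAut T)) := fun s hs => by
    have hsN := h.normal hs.1
    refine ⟨⟨hs.1, hsN⟩, ?_⟩
    have h1 : α * ⟨nu h s, nu_mem h s⟩ * α⁻¹ ∈ YA := by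
      have h2 := hyA (conj_mem_conjBy (g := y) (conj_mem_conjBy (g := (⟨α₀, hα₀⟩ : G))
        (show (⟨nu h s, nu_mem h s⟩ : G) ∈ Z from Subgroup.mem_subgroupOf.2
          (mem_autInducedBy_iff.2 ⟨s, hs, fun x hx => autFun_nu h hs.1 hx⟩))))
      have h3 := mul_mem (mul_mem (inv_mem (hnuA a ha.1)) h2) (hnuA a ha.1)
      convert h3 using 1
      rw [hα]
      group
    obtain ⟨b, hb, hbe⟩ := mem_autInducedBy_iff.1 (Subgroup.mem_subgroupOf.1 h1)
    refine ⟨b, hAS hb, fun x hx => ?_⟩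
    have h4 := hbe _ (autFun_mem (α : MulAut T) hx)
    rw [Subgroup.coe_mul, Subgroup.coe_mul, Subgroup.coe_inv,
      autFun_mul _ _ (autFun_mem _ hx), PPrime.autFun_symm hx, autFun_mul _ _ hx,
      autFun_nu h hs.1 hx] at h4
    exact h4
  exact ⟨q, hαlab ▸ LMap.top α.2 (T_le_pre h γ) (hq.mono hext) hqe⟩

omit hAS in
/-- A pulled element lies in `A`. -/
theorem pull_mem {γ : Lbl h} (hl : LMap h P f γ⁻¹) (hP : P ≤ pre h A γ) {x : Ω} (hx : x ∈ P) :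
    f x ∈ A := by
  refine mem_of_lam h hcT hTA (hl.isMap.mem_S hx) ?_
  rw [hl.twist x hx, inv_inv]
  exact (hP hx).2

omit hAS in
theorem bmap_pull {γ γ₀ : Lbl h} (hl : LMap h W f γ) (hW : W ≤ pre h A γ₀)
    (hs : SelfC F T (W ⊓ T)) {q₀ q₁ : Ω → Ω} (h₀ : LMap h (pre h A γ₀) q₀ γ₀⁻¹)
    (h₁ : LMap h (pre h A (γ * γ₀)) q₁ (γ * γ₀)⁻¹) :
    ∃ b, BMap h A (img W q₀) b ∧ ∀ x ∈ W, b (q₀ x) = q₁ (f x) := by
  have l₀ := h₀.mono hW
  obtain ⟨qi, li, hi1, hi2⟩ := l₀.exists_inv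
  rw [inv_inv] at li
  have hl₂ := (li.comp hl fun y hy => (hi2 y hy).1).comp h₁
    fun y hy => hl.mem_pre hW (hi2 y hy).1
  rw [inv_mul_cancel] at hl₂
  refine ⟨q₁ ∘ f ∘ qi, BMap.base hl₂ ?_ ?_ (one_mem _), fun x hx => ?_⟩
  · exact l₀.isMap.img_le_of_forall fun x hx => pull_mem h hcT hTA l₀ hW hx
  · rw [img_inf_T h l₀.isMap]
    exact hs.map h.closed (l₀.isMap.mono inf_le_left)
  · show q₁ (f (qi (q₀ x))) = _
    rw [hi1 x hx]

omit hAS in
/-- A labelled map is pulled back to a map of the system on `A`. -/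
theorem decomp (hAS : A ≤ S) {γ : Lbl h} (hl : LMap h D f γ) :
    ∀ (γ₀ : Lbl h) (R : Subgroup Ω) (q₀ q₁ : Ω → Ω), R ≤ D → R ≤ pre h A γ₀ →
      LMap h (pre h A γ₀) q₀ γ₀⁻¹ → LMap h (pre h A (γ * γ₀)) q₁ (γ * γ₀)⁻¹ →
        ∃ b, BMap h A (img R q₀) b ∧ ∀ x ∈ R, b (q₀ x) = q₁ (f x) := by
  induction hl with
  | @top P f α hα hTP hf he =>
    intro γ₀ R q₀ q₁ hR hR₀ h₀ h₁
    have hW : SelfC F T ((P ⊓ pre h A γ₀) ⊓ T) := by
      rw [inf_eq_right.2 (le_inf hTP (T_le_pre h γ₀))]; exact selfC_T h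
    obtain ⟨b, hb, hbe⟩ := bmap_pull h hcT hTA ((LMap.top hα hTP hf he).mono inf_le_left)
      inf_le_right hW h₀ h₁
    exact ⟨b, hb.mono ((h₀.isMap.mono inf_le_right).img_mono (le_inf hR hR₀)),
      fun x hx => hbe x ⟨hR hx, hR₀ hx⟩⟩
  | @good Q a hQ ha hs hco =>
    intro γ₀ R q₀ q₁ hR hR₀ h₀ h₁
    have hW : SelfC F T ((Q ⊓ pre h A γ₀) ⊓ T) :=
      hs.mono (le_inf (le_inf inf_le_left (inf_le_right.trans (T_le_pre h γ₀))) inf_le_right)
        inf_le_right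
    obtain ⟨b, hb, hbe⟩ := bmap_pull h hcT hTA ((LMap.good hQ ha hs hco).mono inf_le_left)
      inf_le_right hW h₀ h₁
    exact ⟨b, hb.mono ((h₀.isMap.mono inf_le_right).img_mono (le_inf hR hR₀)),
      fun x hx => hbe x ⟨hR hx, hR₀ hx⟩⟩
  | mono _ hR' ih => exact fun γ₀ R q₀ q₁ hR => ih γ₀ R q₀ q₁ (hR.trans hR')
  | @congr P f f₂ γ hf he ih =>
    intro γ₀ R q₀ q₁ hR hR₀ h₀ h₁
    obtain ⟨b, hb, hbe⟩ := ih γ₀ R q₀ q₁ hR hR₀ h₀ h₁
    exact ⟨b, hb, fun x hx => by rw [hbe x hx, he x (hR hx)]⟩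
  | @comp P P' f f₂ γ δ hf hg hm ih1 ih2 =>
    intro γ₀ R q₀ q₁ hR hR₀ h₀ h₁
    obtain ⟨qm, hqm⟩ := exists_pull h hTA hAS (γ * γ₀)
    have hfR := hf.mono hR
    obtain ⟨b₁, hb₁, he₁⟩ := ih1 γ₀ R q₀ qm hR hR₀ h₀ hqm
    rw [mul_assoc] at h₁
    have hR₁ : img R f ≤ pre h A (γ * γ₀) :=
      hfR.isMap.img_le_of_forall fun x hx => hfR.mem_pre hR₀ hx
    obtain ⟨b₂, hb₂, he₂⟩ := ih2 (γ * γ₀) (img R f) qm q₁
      (hfR.isMap.img_le_of_forall fun x hx => hm x (hR hx)) hR₁ hqm h₁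
    refine ⟨b₂ ∘ b₁, hb₁.comp hb₂ fun y hy => ?_, fun x hx => ?_⟩
    · obtain ⟨x, hx, rfl⟩ := (h₀.isMap.mono hR₀).mem_img.1 hy
      rw [he₁ x hx]
      exact (hqm.isMap.mono hR₁).mem_img.2 ⟨f x, hfR.isMap.mem_img.2 ⟨x, hx, rfl⟩, rfl⟩
    · show b₂ (b₁ (q₀ x)) = q₁ (f₂ (f x))
      rw [he₁ x hx, he₂ _ (hfR.isMap.mem_img.2 ⟨x, hx, rfl⟩)]

/-- A map of a subgroup of `A` followed by a pull of its image. -/
theorem decomp_one {γ : Lbl h} (hl : LMap h P f γ) (hP : P ≤ A) :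
    img P f ≤ pre h A γ ∧ ∀ q, LMap h (pre h A γ) q γ⁻¹ → BMap h A P (q ∘ f) := by
  have hP1 : P ≤ pre h A 1 := fun x hx =>
    ⟨hAS (hP hx), by rw [inv_one, one_mul, mul_one]; exact nuB_mem_lam h hAS (hP hx)⟩
  refine ⟨hl.isMap.img_le_of_forall fun x hx => mul_one γ ▸ hl.mem_pre hP1 hx, fun q hq => ?_⟩
  have h0 : LMap h (pre h A 1) id (1 : Lbl h)⁻¹ := (inv_one (G := Lbl h)).symm ▸ LMap.id' (pre_le h 1)
  obtain ⟨b, hb, hbe⟩ := decomp h hcT hTA hAS hl 1 P id q le_rfl hP1 h0 (by rwa [mul_one])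
  rw [img_id] at hb
  exact hb.congr fun x hx => (hbe x hx).symm

variable (hE : E.IsNormalIn F p) (hnil : Nil F T p)

include hnil in
/-- Outside the family some conjugate has an element outside acting in the `p`-core. -/
theorem exists_star (hP : P ≤ A) (hns : ¬ SelfC F T (P ⊓ T)) :
    ∃ Q, (bSys h hcT hTA hAS).IsConj P Q ∧
      ∃ n ∈ FamilySat.rSub (bSys h hcT hTA hAS) p Q, n ∉ Q := by
  have hPS := hP.trans hAS
  have hAp := h.pgroup.to_le hAS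
  haveI : Finite A := finite_of_le hAS
  obtain ⟨f₁, hf₁, hne⟩ : ∃ f₁, IsMap F (P ⊓ T) f₁ ∧
      ¬ centralizerIn T (img (P ⊓ T) f₁) ≤ img (P ⊓ T) f₁ := by
    by_contra hcon
    push Not at hcon
    exact hns ⟨inf_le_right, hcon⟩
  set R₁ := img (P ⊓ T) f₁
  have hR₁T : R₁ ≤ T := hf₁.img_le_of_forall fun x hx => cl_mem h.closed hf₁ hx hx.2
  obtain ⟨Q₀, hQ₀c, hQ₀⟩ := exists_fullyNormalized (F := F) (inf_le_left.trans hPS : P ⊓ T ≤ S)
  obtain ⟨hau, hre⟩ := IsSaturated.automized_receptive h.pgroup h.sat hQ₀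
  obtain ⟨θ, hθ, hθQ, -⟩ := exists_map_normalizer h.pgroup hau hre
    (isConj_trans (isConj_symm (isConj_iff.2 ⟨f₁, hf₁, rfl⟩)) hQ₀c : F.IsConj R₁ Q₀)
  obtain ⟨c, hc, hcR⟩ := SetLike.not_le_iff_exists.1 hne
  have hR₁N : R₁ ≤ normalizerIn S R₁ := le_normalizerIn hf₁.img_le
  have hcN : c ∈ normalizerIn S R₁ := centralizerIn_le_normalizerIn ⟨h.hTS hc.1, hc.2⟩
  have hθc : θ c ∈ centralizerIn T Q₀ := by
    have h1 := map_mem_centralizerIn hθ hR₁N hcN hc.2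
    rw [hθQ] at h1
    exact ⟨cl_mem h.closed hθ hcN hc.1, h1.2⟩
  have hθcQ : θ c ∉ Q₀ := fun hm => hcR (hθ.mem_of_mem_img hR₁N hcN (hθQ.ge hm))
  obtain ⟨f, hf, hfQ, hfN⟩ := exists_map_normalizer h.pgroup hau hre hQ₀c
  have hPN : P ≤ normalizerIn S (P ⊓ T) := (le_normalizerIn hPS).trans (normalizerIn_le_inf h.normal)
  obtain ⟨γ, hl⟩ := exists_lmap h hnil (hf.mono hPN)
  set Q := img P f
  have hQS : Q ≤ S := hl.isMap.img_le
  have hQQ₀ : Q ⊓ T = Q₀ := by rw [img_inf_T h hl.isMap, hfQ]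
  have hQ₀T : Q₀ ≤ T := hQQ₀ ▸ inf_le_right
  have hQN : Q ≤ normalizerIn S Q₀ := hl.isMap.img_le_of_forall fun x hx => hfN x (hPN hx)
  set C₀ := centralizerIn T Q₀
  have hC₀S : C₀ ≤ S := (inf_le_left : C₀ ≤ T).trans h.hTS
  have hQC : Q ≤ Subgroup.normalizer (C₀ : Set Ω) := fun q hq => by
    refine conjBy_eq_iff.1 (eq_of_le_of_card_le ((inf_le_left : C₀ ≤ T).trans h.hTS)
      (conjBy_le_iff.2 fun y hy => Subgroup.mem_inf.2
        ⟨(Subgroup.mem_normalizer_iff.1 (h.normal (hQS hq)) y).1 hy.1,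
          Subgroup.mem_centralizer_iff.2 fun u hu => ?_⟩) (card_conjBy q C₀).ge)
    have hu' : q⁻¹ * u * q ∈ Q₀ := (Subgroup.mem_normalizer_iff''.1 (hQN hq).2 u).1 hu
    have h1 := Subgroup.mem_centralizer_iff.1 hy.2 _ hu'
    calc u * (q * y * q⁻¹) = q * (q⁻¹ * u * q * y) * q⁻¹ := by group
      _ = q * (y * (q⁻¹ * u * q)) * q⁻¹ := by rw [h1]
      _ = q * y * q⁻¹ * u := by group
  have hJS : Q ⊔ C₀ ≤ S := sup_le hQS hC₀S
  haveI := finite_of_le hJS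
  haveI : Group.IsNilpotent (Q ⊔ C₀ : Subgroup Ω) := (h.pgroup.to_le hJS).isNilpotent
  have hC₀Q : ¬ C₀ ≤ Q := fun hle => hθcQ (hQQ₀ ▸ ⟨hle hθc, hθc.1⟩)
  obtain ⟨z, hz, hzQ⟩ := SetLike.exists_of_lt
    (lt_inf_normalizer (le_sup_left : Q ≤ Q ⊔ C₀) fun e => hC₀Q (e ▸ le_sup_right))
  have hz' : z ∈ ((Q ⊔ C₀ : Subgroup Ω) : Set Ω) := hz.1
  rw [coe_mul_of_left_le_normalizer_right Q C₀ hQC] at hz'
  obtain ⟨u, hu, x, hx, rfl⟩ := Set.mem_mul.1 hz'
  have hxQ : x ∉ Q := fun hxQ => hzQ (mul_mem hu hxQ)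
  have hxN : x ∈ Subgroup.normalizer (Q : Set Ω) := by
    have h1 := mul_mem (inv_mem (Subgroup.le_normalizer hu)) hz.2
    rwa [inv_mul_cancel_left] at h1
  -- pull back into `A`
  obtain ⟨hQpre, hb⟩ := decomp_one h hcT hTA hAS hl hP
  obtain ⟨q, hq⟩ := exists_pull h hTA hAS γ
  have hbm := hb q hq
  have hQq := hq.isMap.mono hQpre
  have hxpre : x ∈ pre h A γ := T_le_pre h γ hx.1
  set Q₁ := img Q q with hQ₁
  have hconj : (bSys h hcT hTA hAS).IsConj P Q₁ :=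
    isConj_iff.2 ⟨q ∘ f, (isMap_bSys h hcT hTA hAS).2 hbm, by rw [hQ₁, img_img hl.isMap]⟩
  have hQ₁A : Q₁ ≤ A := hQq.img_le_of_forall fun y hy => pull_mem h hcT hTA hq le_rfl (hQpre hy)
  have hnA : q x ∈ A := pull_mem h hcT hTA hq le_rfl hxpre
  have hnQ : q x ∉ Q₁ := fun hm => hxQ (hq.isMap.mem_of_mem_img hQpre hxpre hm)
  have hnN : q x ∈ Subgroup.normalizer (Q₁ : Set Ω) :=
    (map_mem_normalizerIn hq.isMap hQpre hxpre hxN).2
  refine ⟨Q₁, hconj, q x, ⟨⟨hnA, hnN⟩, SubsystemCentric.inO_of_stabilize hAp hQ₁A (M := Q₁ ⊓ T)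
    inf_le_left (fun α hα y hy => ⟨autFun_mem α hy.1, cl_mem h.closed
      ((isMap_bSys h hcT hTA hAS).1 ((mem_autGroup_iff hQ₁A).1 hα)).isMap hy.1 hy.2⟩)
    ⟨hnA, hnN⟩ (fun y hy => ?_) fun y hy => ?_⟩, hnQ⟩
  · rw [hQ₁, img_inf_T h hQq] at hy
    obtain ⟨y', hy', rfl⟩ := (hQq.mono inf_le_left).mem_img.1 hy
    rw [← hq.isMap.map_conj hxpre (hQpre hy'.1),
      ← Subgroup.mem_centralizer_iff.1 hx.2 y' (hQQ₀.le hy'), mul_inv_cancel_right]
  · refine ⟨Q₁.mul_mem (Q₁.inv_mem hy) ((Subgroup.mem_normalizer_iff.1 hnN y).1 hy), ?_⟩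
    have hnT : q x ∈ T := cl_mem h.closed hq.isMap hxpre hx.1
    have h1 := (Subgroup.mem_normalizer_iff.1
      (h.normal (S.inv_mem (hAS (hQ₁A hy)))) (q x)).1 hnT
    rw [show y⁻¹ * (q x * y * (q x)⁻¹) = y⁻¹ * q x * y⁻¹⁻¹ * (q x)⁻¹ by group]
    exact T.mul_mem h1 (T.inv_mem hnT)

omit hcT hTA hAS in
include h in
/-- The automorphisms of `R` with their labels. -/
theorem exists_pair_group (hR : R ≤ S) : ∃ G : Subgroup (MulAut R × Lbl h),
    ∀ q, q ∈ G ↔ LMap h R (autFun q.1) q.2 := by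
  refine ⟨{ carrier := {q | LMap h R (autFun q.1) q.2}
            one_mem' := (LMap.id' hR).congr fun x hx => autFun_one hx
            mul_mem' := fun {a b} ha hb => (hb.comp ha fun x hx => autFun_mem b.1 hx).congr
              fun x hx => autFun_mul _ _ hx
            inv_mem' := fun {a} ha => ?_ }, fun q => Iff.rfl⟩
  obtain ⟨a', ha', h1, h2⟩ := ha.exists_inv
  rw [img_autFun] at ha' h2
  refine ha'.congr fun x hx => ?_
  conv_rhs => rw [← PPrime.autFun_symm' (α := a.1) hx]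
  exact (h1 _ (autFun_mem _ hx)).symm

include hE hnil in
/-- Saturation on the family. -/
theorem exists_satAt (hP : P ≤ A) (hs : SelfC F T (P ⊓ T)) :
    FamilySat.SatAt (bSys h hcT hTA hAS) p P := by
  have hPS := hP.trans hAS
  have hAp := h.pgroup.to_le hAS
  haveI : Finite A := finite_of_le hAS
  set B := bSys h hcT hTA hAS
  obtain ⟨R, hPR, hR⟩ := exists_fullyNormalized (F := F) hPS
  obtain ⟨β₀, hβ₀, hβ₀R⟩ := isConj_iff.1 hPR
  obtain ⟨γ₀, hl₀⟩ := exists_lmap h hnil hβ₀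
  have hRS := hR.1
  have hRs : SelfC F T (R ⊓ T) := by
    rw [← hβ₀R, img_inf_T h hβ₀]
    exact hs.map h.closed (hβ₀.mono inf_le_left)
  have hRc := IsSaturated.isFullyCentralized h.pgroup h.sat hR
  obtain ⟨hau, hre⟩ := IsSaturated.automized_receptive h.pgroup h.sat hR
  obtain ⟨-, hiR⟩ := (isFullyAutomized_iff h.pgroup).1 hau
  haveI := finite_of_le hRS
  haveI := finite_mulAut (P := R)
  obtain ⟨G, hG⟩ := exists_pair_group h hRS
  let ρ : normalizerIn S R →* MulAut R × Lbl h :=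
    MonoidHom.mk' (fun s => (conjAut (s : Ω) s.2.2, nuB h s)) fun s t =>
      Prod.ext (map_mul R.normalizerMonoidHom ⟨(s : Ω), s.2.2⟩ ⟨(t : Ω), t.2.2⟩)
        (nuB_mul h s.2.1 t.2.1)
  have hρp : IsPGroup p ρ.range := by
    rw [MonoidHom.range_eq_map]
    exact ((h.pgroup.to_le inf_le_left : IsPGroup p (normalizerIn S R)).to_subgroup ⊤).map _
  have hρG : ρ.range ≤ G := by
    rintro _ ⟨s, rfl⟩
    exact (hG _).2 ((LMap.conj s.2.1 hRS).congr fun x hx => autFun_conjAut s.2.2 hx)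
  -- the pairs of `N_S(R)` form a Sylow subgroup
  have hρi : ¬ p ∣ ρ.range.relIndex G := by
    obtain ⟨Z, hρZ, hZG, hZp, hZi⟩ := exists_le_not_dvd_relIndex hρp hρG
    suffices Z = ρ.range by rwa [this] at hZi
    refine le_antisymm (fun z hz => ?_) hρZ
    have hfst : Z.map (MonoidHom.fst _ _) = autInducedBy S R :=
      eq_of_le_of_isPGroup_of_not_dvd_relIndex (hZp.map _) (fun a ha => by
        obtain ⟨n, hn, hna⟩ := mem_autInducedBy_iff.1 ha
        have hnN : n ∈ normalizerIn S R := ⟨hn, mem_normalizer_of_autFun hna⟩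
        exact ⟨ρ ⟨n, hnN⟩, hρZ ⟨_, rfl⟩,
          autFun_ext fun x hx => by
            show autFun (conjAut n hnN.2) x = _
            rw [autFun_conjAut _ hx, hna x hx]⟩)
        (fun a ⟨z', hz', hza⟩ => hza ▸ (mem_autGroup_iff hRS).2 ((hG _).1 (hZG hz')).isMap) hiR
    obtain ⟨n, hn, hnz⟩ := mem_autInducedBy_iff.1 (hfst.le ⟨z, hz, rfl⟩)
    have hnN : n ∈ normalizerIn S R := ⟨hn, mem_normalizer_of_autFun hnz⟩
    have hw : (ρ ⟨n, hnN⟩)⁻¹ * z ∈ G := mul_mem (inv_mem (hρG ⟨_, rfl⟩)) (hZG hz)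
    have hw1 : ((ρ ⟨n, hnN⟩)⁻¹ * z).1 = 1 := by
      show (conjAut n hnN.2)⁻¹ * z.1 = 1
      rw [inv_mul_eq_one]
      exact autFun_ext fun x hx => by
        rw [autFun_conjAut _ hx]; exact (hnz x hx).symm
    have hid : LMap h R id ((ρ ⟨n, hnN⟩)⁻¹ * z).2 := ((hG _).1 hw).congr fun x hx => by
      rw [hw1, autFun_one hx]; rfl
    obtain ⟨c, hc, hce⟩ := coherence h hE hnil hid hRc hRs
    have hcN : c ∈ normalizerIn S R := centralizerIn_le_normalizerIn hc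
    have hwc : (ρ ⟨n, hnN⟩)⁻¹ * z = ρ ⟨c, hcN⟩ := Prod.ext (by
      rw [hw1]
      exact autFun_ext fun x hx => by
        show autFun (1 : MulAut R) x = autFun (conjAut c hcN.2) x
        rw [autFun_one hx, autFun_conjAut _ hx, ← Subgroup.mem_centralizer_iff.1 hc.2 x hx,
          mul_inv_cancel_right]) hce
    rw [inv_mul_eq_iff_eq_mul] at hwc
    rw [hwc, ← map_mul]
    exact ⟨_, rfl⟩
  -- move a Sylow subgroup of the part over a conjugate of the labels of `A` into `N_S(R)`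
  set G₀ := G ⊓ (conjBy γ₀ (lam h A)).comap (MonoidHom.snd (MulAut R) (Lbl h))
  obtain ⟨X, -, hXG, hXp, hXi⟩ := exists_le_not_dvd_relIndex (IsPGroup.of_bot (p := p))
    (bot_le : (⊥ : Subgroup (MulAut R × Lbl h)) ≤ G₀)
  obtain ⟨y, hyG, hyX⟩ :=
    exists_conj_le_of_not_dvd_relIndex hρp hρG hρi hXp (hXG.trans inf_le_left)
  set γ₁ := y.2 * γ₀ with hγ₁
  set G₁ := G ⊓ (conjBy γ₁ (lam h A)).comap (MonoidHom.snd (MulAut R) (Lbl h)) with hG₁
  have hyG₁ : conjBy y G₀ = G₁ := by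
    ext z
    rw [mem_conjBy, hG₁, Subgroup.mem_inf, Subgroup.mem_inf, Subgroup.mem_comap,
      Subgroup.mem_comap, mem_conjBy, mem_conjBy, hγ₁]
    refine and_congr ⟨fun hz => ?_, fun hz => mul_mem (mul_mem (inv_mem hyG) hz) hyG⟩
      (iff_of_eq (congrArg (· ∈ lam h A) ?_))
    · have := mul_mem (mul_mem hyG hz) (inv_mem hyG)
      rwa [show y * (y⁻¹ * z * y) * y⁻¹ = z by group] at this
    · show γ₀⁻¹ * (y.2⁻¹ * z.2 * y.2) * γ₀ = (y.2 * γ₀)⁻¹ * z.2 * (y.2 * γ₀)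
      group
  have hi₁ : ¬ p ∣ (ρ.range ⊓ G₁).relIndex G₁ := fun hd => by
    have h1 := not_dvd_relIndex_conjBy y hXi
    rw [hyG₁] at h1
    exact h1 (hd.trans (Subgroup.relIndex_dvd_of_le_left _
      (le_inf hyX (hyG₁ ▸ conjBy_mono hXG))))
  -- the conjugate in `A`
  have hm₀ : ∀ x ∈ P, β₀ x ∈ R := fun x hx => hβ₀R.le (hβ₀.mem_img.2 ⟨x, hx, rfl⟩)
  have hl₁ : LMap h P (autFun y.1 ∘ β₀) γ₁ := hl₀.comp ((hG _).1 hyG) hm₀
  have hi₁R : img P (autFun y.1 ∘ β₀) = R := by rw [← img_img hβ₀, hβ₀R, img_autFun]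
  obtain ⟨hRpre, hb⟩ := decomp_one h hcT hTA hAS hl₁ hP
  rw [hi₁R] at hRpre
  obtain ⟨q, hq⟩ := exists_pull h hTA hAS γ₁
  have hqR := hq.mono hRpre
  set Q := img R q with hQ
  have hconj : B.IsConj P Q :=
    isConj_iff.2 ⟨q ∘ autFun y.1 ∘ β₀, (isMap_bSys h hcT hTA hAS).2 (hb q hq), by
      rw [← img_img hl₁.isMap, hi₁R]⟩
  have hQA : Q ≤ A := hqR.isMap.img_le_of_forall fun x hx => pull_mem h hcT hTA hqR hRpre hx
  have hQS := hQA.trans hAS
  haveI := finite_of_le hQS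
  haveI := finite_mulAut (P := Q)
  obtain ⟨qi, hqi, hqi1, hqi2⟩ := hqR.exists_inv
  rw [inv_inv] at hqi
  set e := MulAut.congr (mapEquiv hqR.isMap) with he
  let ψ : normalizerIn A Q →* MulAut R × Lbl h :=
    MonoidHom.mk' (fun a => (e.symm (conjAut (a : Ω) a.2.2), γ₁ * nuB h a * γ₁⁻¹)) fun a b =>
      Prod.ext (by
          show e.symm (conjAut _ _) = _
          rw [show conjAut ((a * b : normalizerIn A Q) : Ω) (a * b).2.2 =
            conjAut (a : Ω) a.2.2 * conjAut (b : Ω) b.2.2 from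
              map_mul Q.normalizerMonoidHom ⟨(a : Ω), a.2.2⟩ ⟨(b : Ω), b.2.2⟩, map_mul]
          rfl)
        (by
          show γ₁ * nuB h ((a : Ω) * b) * γ₁⁻¹ = γ₁ * nuB h a * γ₁⁻¹ * (γ₁ * nuB h b * γ₁⁻¹)
          rw [nuB_mul h (hAS a.2.1) (hAS b.2.1)]
          group)
  have hψp : IsPGroup p ψ.range := by
    rw [MonoidHom.range_eq_map]
    exact ((hAp.to_le inf_le_left : IsPGroup p (normalizerIn A Q)).to_subgroup ⊤).map _
  have hψact : ∀ (a : normalizerIn A Q), ∀ x ∈ R,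
      q (autFun (ψ a).1 x) = (a : Ω) * q x * (a : Ω)⁻¹ := fun a x hx => by
    rw [← autFun_congr hqR.isMap (ψ a).1 hx]
    show autFun (e (e.symm (conjAut (a : Ω) a.2.2))) (q x) = _
    rw [MulEquiv.apply_symm_apply, autFun_conjAut _ (hqR.isMap.mem_img.2 ⟨x, hx, rfl⟩)]
  have hψG : ψ.range ≤ G₁ := by
    rintro _ ⟨a, rfl⟩
    refine Subgroup.mem_inf.2 ⟨(hG _).2 ?_, ?_⟩
    · have hm : ∀ x ∈ R, (a : Ω) * q x * (a : Ω)⁻¹ ∈ Q := fun x hx =>
        (Subgroup.mem_normalizer_iff.1 a.2.2 _).1 (hqR.isMap.mem_img.2 ⟨x, hx, rfl⟩)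
      have h1 := (hqR.comp (LMap.conj (hAS a.2.1) hQS)
        fun x hx => hqR.isMap.mem_img.2 ⟨x, hx, rfl⟩).comp hqi hm
      rw [← mul_assoc] at h1
      refine h1.congr fun x hx => ?_
      show autFun (ψ a).1 x = qi ((a : Ω) * q x * (a : Ω)⁻¹)
      rw [← hψact a x hx, hqi1 _ (autFun_mem _ hx)]
    · rw [Subgroup.mem_comap, mem_conjBy]
      show γ₁⁻¹ * (γ₁ * nuB h a * γ₁⁻¹) * γ₁ ∈ lam h A
      rw [show γ₁⁻¹ * (γ₁ * nuB h a * γ₁⁻¹) * γ₁ = nuB h a by group]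
      exact nuB_mem_lam h hAS a.2.1
  have hρψ : ρ.range ⊓ G₁ ≤ ψ.range := by
    rintro _ ⟨⟨s, rfl⟩, hs₁⟩
    have hs₂ := (Subgroup.mem_inf.1 hs₁).2
    rw [Subgroup.mem_comap, mem_conjBy] at hs₂
    have hspre : (s : Ω) ∈ pre h A γ₁ := ⟨s.2.1, hs₂⟩
    have haN : q s ∈ normalizerIn A Q := ⟨pull_mem h hcT hTA hq le_rfl hspre,
      (map_mem_normalizerIn hq.isMap hRpre hspre s.2.2).2⟩
    refine ⟨⟨q s, haN⟩, Prod.ext (autFun_ext fun x hx => ?_) ?_⟩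
    · refine hqR.isMap.inj (autFun_mem _ hx) (autFun_mem _ hx) ?_
      rw [hψact _ x hx]
      show q (s : Ω) * q x * (q (s : Ω))⁻¹ = q (autFun (conjAut (s : Ω) s.2.2) x)
      rw [autFun_conjAut _ hx, hq.isMap.map_conj hspre (hRpre hx)]
    · show γ₁ * nuB h (q s) * γ₁⁻¹ = nuB h s
      rw [hq.twist _ hspre]
      group
  have hψi : ¬ p ∣ ψ.range.relIndex G₁ :=
    fun hd => hi₁ (hd.trans (Subgroup.relIndex_dvd_of_le_left _ hρψ))
  have hψρ : ψ.range ≤ ρ.range := fun z hz => by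
    rw [eq_of_le_of_isPGroup_of_not_dvd_relIndex hψp hρψ hψG hi₁] at hz
    exact hz.1
  refine ⟨Q, hconj, ?_, ?_⟩
  · -- fully automized
    refine (isFullyAutomized_iff hAp).2 ⟨hQA, ?_⟩
    set π := e.toMonoidHom.comp (MonoidHom.fst (MulAut R) (Lbl h))
    have hA' : ψ.range.map π ≤ autInducedBy A Q := by
      rintro _ ⟨_, ⟨a, rfl⟩, rfl⟩
      refine mem_autInducedBy_iff.2 ⟨a, a.2.1, fun z hz => ?_⟩
      show autFun (e (e.symm (conjAut (a : Ω) a.2.2))) z = _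
      rw [MulEquiv.apply_symm_apply, autFun_conjAut _ hz]
    have hB' : B.autGroup Q ≤ G₁.map π := fun b hb' => by
      obtain ⟨-, γ, hγ, hlb⟩ :=
        ((isMap_bSys h hcT hTA hAS).1 ((mem_autGroup_iff hQA).1 hb')).lmap
      refine ⟨(e.symm b, γ₁ * γ * γ₁⁻¹), Subgroup.mem_inf.2 ⟨(hG _).2 ?_, ?_⟩,
        (show e (e.symm b) = b from MulEquiv.apply_symm_apply _ _)⟩
      · have h1 := (hqR.comp hlb fun x hx => hqR.isMap.mem_img.2 ⟨x, hx, rfl⟩).comp hqi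
          fun x hx => autFun_mem b (hqR.isMap.mem_img.2 ⟨x, hx, rfl⟩)
        rw [← mul_assoc] at h1
        refine h1.congr fun x hx => ?_
        show autFun (e.symm b) x = qi (autFun b (q x))
        conv_rhs => rw [← MulEquiv.apply_symm_apply e b, autFun_congr hqR.isMap _ hx,
          hqi1 _ (autFun_mem _ hx)]
      · rw [Subgroup.mem_comap, mem_conjBy]
        show γ₁⁻¹ * (γ₁ * γ * γ₁⁻¹) * γ₁ ∈ lam h A
        rw [show γ₁⁻¹ * (γ₁ * γ * γ₁⁻¹) * γ₁ = γ by group]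
        exact hγ
    intro hd
    refine hψi ((hd.trans ?_).trans (relIndex_map_dvd π _ _ hψG))
    exact (Dvd.intro _ (Subgroup.relIndex_mul_relIndex _ _ _ (autInducedBy_le_autGroup hQA) hB')
      : (autInducedBy A Q).relIndex (B.autGroup Q) ∣
        (autInducedBy A Q).relIndex (G₁.map π)).trans (Subgroup.relIndex_dvd_of_le_left _ hA')
  · -- receptive
    refine isReceptive_iff.2 ⟨hQA, fun D f hf hfD => ?_⟩
    have hbf := (isMap_bSys h hcT hTA hAS).1 hf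
    obtain ⟨hDA, μ, hμ, hlf⟩ := hbf.lmap
    have hDS := hDA.trans hAS
    have hfQ : ∀ x ∈ D, f x ∈ Q := fun x hx => hfD.le (hf.mem_img.2 ⟨x, hx, rfl⟩)
    have hlk : LMap h D (qi ∘ f) (γ₁ * μ) := hlf.comp hqi hfQ
    have hkR : img D (qi ∘ f) = R := by
      rw [← img_img hlf.isMap, hfD]
      refine le_antisymm (hqi.isMap.img_le_of_forall fun z hz => (hqi2 z hz).1) fun x hx => ?_
      rw [← hqi1 x hx]
      exact hqi.isMap.mem_img.2 ⟨q x, hqR.isMap.mem_img.2 ⟨x, hx, rfl⟩, rfl⟩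
    obtain ⟨g, hg, hge⟩ := (isReceptive_iff.1 hre).2 D (qi ∘ f) hlk.isMap hkR
    have hN : extSub A D f ≤ extSub S D (qi ∘ f) := by
      rintro n ⟨hn, a, ha, hae⟩
      have haQ : a ∈ Subgroup.normalizer (Q : Set Ω) := by
        refine conjBy_eq_iff.1 (eq_of_le_of_card_le hQS (conjBy_le_iff.2 fun z hz => ?_)
          (card_conjBy a Q).ge)
        obtain ⟨x, hx, rfl⟩ := hf.mem_img.1 (hfD.ge hz)
        rw [← hae x hx]
        exact hfQ _ ((Subgroup.mem_normalizer_iff.1 hn.2 x).1 hx)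
      obtain ⟨s, hse⟩ := hψρ ⟨⟨a, ha, haQ⟩, rfl⟩
      refine ⟨⟨hAS hn.1, hn.2⟩, s, s.2.1, fun x hx => ?_⟩
      show qi (f (n * x * n⁻¹)) = (s : Ω) * qi (f x) * (s : Ω)⁻¹
      have hy : qi (f x) ∈ R := (hqi2 _ (hfQ x hx)).1
      have h1 := hψact ⟨a, ha, haQ⟩ _ hy
      rw [(hqi2 _ (hfQ x hx)).2, ← hse] at h1
      rw [hae x hx, ← h1, hqi1 _ (autFun_mem _ hy)]
      exact autFun_conjAut s.2.2 hy
    obtain ⟨δ, hlg⟩ := exists_lmap h hnil (hg.mono hN)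
    have hDN : D ≤ extSub A D f := le_extSub hf
    have hlg₀ := hlg.mono hDN
    have hloop := hlk.loop hlg₀ hge
    rw [hkR] at hloop
    obtain ⟨c, hc, hce⟩ := coherence h hE hnil hloop hRc hRs
    set g' := (fun z => c⁻¹ * z * c⁻¹⁻¹) ∘ g with hg'
    have hlg' : LMap h (extSub A D f) g' (γ₁ * μ) := by
      have h1 := hlg.comp (LMap.conj (inv_mem hc.1) le_rfl) fun x hx => hlg.isMap.mem_S hx
      rwa [nuB_inv h hc.1, ← hce,
        show (δ * (γ₁ * μ)⁻¹)⁻¹ * δ = γ₁ * μ by group] at h1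
    have hNA : extSub A D f ≤ A := fun n hn => hn.1.1
    have hmem : ∀ x ∈ extSub A D f, g' x ∈ pre h A γ₁ := fun x hx => by
      refine ⟨hlg'.isMap.mem_S hx, ?_⟩
      rw [hlg'.twist x hx,
        show γ₁⁻¹ * (γ₁ * μ * nuB h x * (γ₁ * μ)⁻¹) * γ₁ = μ * nuB h x * μ⁻¹ by group]
      exact mul_mem (mul_mem hμ (nuB_mem_lam h hAS (hNA hx))) (inv_mem hμ)
    have hfin := hlg'.comp hq hmem
    rw [inv_mul_cancel_left] at hfin
    have hDs : SelfC F T (D ⊓ T) := by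
      obtain ⟨fi, hfi, h1, h2⟩ := hlf.isMap.exists_inv
      rw [hfD] at hfi h2
      have hD : img Q fi = D := le_antisymm (hfi.img_le_of_forall fun z hz => (h2 z hz).1)
        fun x hx => hfi.mem_img.2 ⟨f x, hfQ x hx, h1 x hx⟩
      rw [← hD, img_inf_T h hfi]
      refine SelfC.map h.closed ?_ (hfi.mono inf_le_left)
      rw [hQ, img_inf_T h hqR.isMap]
      exact hRs.map h.closed (hqR.isMap.mono inf_le_left)
    refine ⟨q ∘ g', (isMap_bSys h hcT hTA hAS).2 (BMap.base hfin hNA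
      (hDs.mono (inf_le_inf_right _ hDN) inf_le_right) hμ), fun x hx => ?_⟩
    show q (c⁻¹ * g x * c⁻¹⁻¹) = f x
    rw [hge x hx]
    have hy : qi (f x) ∈ R := (hqi2 _ (hfQ x hx)).1
    rw [show c⁻¹ * (qi ∘ f) x * c⁻¹⁻¹ = qi (f x) by
      show c⁻¹ * qi (f x) * c⁻¹⁻¹ = _
      rw [mul_assoc, inv_inv, Subgroup.mem_centralizer_iff.1 hc.2 _ hy, inv_mul_cancel_left]]
    exact (hqi2 _ (hfQ x hx)).2

include hE hnil in
/-- The system on `A` is saturated. -/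
theorem isSaturated_bSys : (bSys h hcT hTA hAS).IsSaturated p := by
  haveI : Finite A := finite_of_le hAS
  refine FamilySat.isSaturated_of_family (ℋ := {R | R ≤ A ∧ SelfC F T (R ⊓ T)})
    (h.pgroup.to_le hAS) ?_ (fun R hR => exists_satAt h hcT hTA hAS hE hnil hR.1 hR.2) ?_
    fun P hP hns => exists_star h hcT hTA hAS hnil hP fun hc => hns ⟨hP, hc⟩
  · intro R hR R' hR'
    obtain ⟨f, hf, rfl⟩ := isConj_iff.1 hR'
    have hbf := (isMap_bSys h hcT hTA hAS).1 hf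
    refine ⟨hf.img_le, ?_⟩
    rw [img_inf_T h hbf.isMap]
    exact hR.2.map h.closed (hbf.isMap.mono inf_le_left)
  · intro E' hE' P φ hφ
    have key : ∀ {P : Subgroup Ω} {f : Ω → Ω}, BMap h A P f → IsMap E' P f := by
      intro P f hb
      induction hb with
      | @base P f γ hl hP hs hγ =>
        obtain ⟨ψ, hψ, hψf⟩ := (isMap_bSys h hcT hTA hAS).2 (BMap.base hl hP hs hγ)
        exact ⟨ψ, hE' P ⟨hP, hs⟩ hψ, hψf⟩
      | mono _ hR ih => exact ih.mono hR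
      | congr _ he ih => exact ih.congr he
      | comp _ _ hm ih1 ih2 => exact ih1.comp ih2 hm
    exact mem_hom_iff.2 (key ((isMap_bSys h hcT hTA hAS).1 (isMap_toFun hφ)))

end CfsgLib.Fusion.Balance
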