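import Cfsg.Agent.Lib.Fusion.Balance.Outer
import Cfsg.Agent.Lib.Fusion.System.PPowerNormal
import Cfsg.Agent.S5140
import Cfsg.Agent.S5141

/-!
# A normal subsystem of a normalizer system inside a normal subsystem

For `E` normal in `F` over `T`, `X` fully normalized and `T'` strongly closed in `T` containing the
displacements of the automorphisms of `E` of order prime to `p`, the normalizer system of `X` has a
normal subsystem over `N_{T'}(X)` all of whose maps are maps of `E`.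
-/

set_option autoImplicit false
set_option maxHeartbeats 1000000
set_option linter.style.haveILetI false
set_option linter.unusedSectionVars false

open Subgroup
open scoped Classical Pointwise

namespace CfsgLib.Fusion.Balance

open Cfsg (FusionSystem autInducedBy)
open Cfsg.FusionSystem (normalizerIn centralizerIn preimageAlong)
open CfsgLib.Fusion CfsgLib.Fusion.CentLift CfsgLib.Fusion.Meet

universe u

variable {Ω : Type u} [Group Ω] {S T : Subgroup Ω} {F : FusionSystem S} {E : FusionSystem T}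
  {p : ℕ} [Finite S] [Fact p.Prime] {A P Q R W D : Subgroup Ω} {f g : Ω → Ω}

/-- Chains are carried along an automorphism of the system. -/
theorem chain_transport {N₀ : Subgroup Ω} {G : FusionSystem N₀} {i j : Ω → Ω}
    (hi : IsMap F N₀ i) (him : ∀ x ∈ N₀, i x ∈ N₀) (hji : ∀ x ∈ N₀, j (i x) = x)
    (hG : ∀ (R : Subgroup Ω) (k : Ω → Ω), IsMap G R k → IsMap G (img R i) (i ∘ k ∘ j))
    {c : Ω} (hc : Chain G p P f c) : Chain G p (img P i) (i ∘ f ∘ j) (i c) := by
  induction hc with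
  | @conj P s hP hs =>
    have hiP := hi.mono hP
    refine (Chain.conj (hiP.img_le_of_forall fun x hx => him x (hP hx)) (him s hs)).congr
      fun y hy => ?_
    obtain ⟨x, hx, rfl⟩ := hiP.mem_img.1 hy
    show i (s * j (i x) * s⁻¹) = i s * i x * (i s)⁻¹
    rw [hji x (hP hx), hi.map_conj hs (hP hx)]
  | @aut P R hR α hco hPR =>
    have hiR := hi.mono hR
    have hiR' : img R i ≤ N₀ := hiR.img_le_of_forall fun x hx => him x (hR hx)
    have hae : ∀ x ∈ R, (i ∘ autFun (α : MulAut R) ∘ j) (i x) =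
        autFun (MulAut.congr (mapEquiv hiR) (α : MulAut R)) (i x) := fun x hx => by
      show i (autFun (α : MulAut R) (j (i x))) = _
      rw [hji x (hR hx), autFun_congr hiR _ hx]
    have hmem : MulAut.congr (mapEquiv hiR) (α : MulAut R) ∈ G.autGroup (img R i) :=
      (mem_autGroup_iff hiR').2 ((hG R _ ((mem_autGroup_iff hR).1 α.2)).congr fun y hy => by
        obtain ⟨x, hx, rfl⟩ := hiR.mem_img.1 hy
        exact (hae x hx).symm)
    have h1 : Chain G p (img P i)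
        (autFun (MulAut.congr (mapEquiv hiR) (α : MulAut R))) 1 :=
      Chain.aut hiR' (α := ⟨_, hmem⟩)
        (by rwa [← Subgroup.orderOf_coe, MulEquiv.orderOf_eq, Subgroup.orderOf_coe])
        (hiR.img_mono hPR)
    rw [hi.map_one]
    refine h1.congr fun y hy => ?_
    obtain ⟨x, hx, rfl⟩ := (hiR.mono hPR).mem_img.1 hy
    exact hae x (hPR hx)
  | @comp P R f f' c c' h1 h2 hm ih1 ih2 =>
    have hP := h1.isMap.le
    have hR := h2.isMap.le
    rw [hi.map_mul h2.mem_S h1.mem_S]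
    refine (ih1.comp ih2 fun y hy => ?_).congr fun y hy => ?_
    all_goals obtain ⟨x, hx, rfl⟩ := (hi.mono hP).mem_img.1 hy
    · show i (f (j (i x))) ∈ img R i
      rw [hji x (hP hx)]
      exact (hi.mono hR).mem_img.2 ⟨f x, hm x hx, rfl⟩
    · show i (f' (f (j (i x)))) = i (f' (j (i (f (j (i x))))))
      rw [hji x (hP hx), hji _ (hR (hm x hx))]
  | @congr P f f' c h1 he ih =>
    refine ih.congr fun y hy => ?_
    obtain ⟨x, hx, rfl⟩ := (hi.mono h1.isMap.le).mem_img.1 hy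
    show i (f' (j (i x))) = i (f (j (i x)))
    rw [hji x (h1.isMap.le hx), he x hx]

variable (h : Setup F p E E T) (hE : E.IsNormalIn F p) (hnil : Nil F T p)

include h hE hnil in
/-- A normal subsystem of `N_F(X)` over `N_{T'}(X)` inside `E`. -/
theorem sub_main {T' X : Subgroup Ω} (hX : F.IsFullyNormalized X) (hT' : F.StronglyClosed T')
    (hT'T : T' ≤ T)
    (hdisp : ∀ (P : Subgroup Ω) (a : MulAut P), P ≤ T → IsMap E P (autFun a) →
      (orderOf a).Coprime p → ∀ x ∈ P, x⁻¹ * autFun a x ∈ T') :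
    ∃ D : FusionSystem (normalizerIn T' X), D.IsNormalIn (nQ F X hX.1) p ∧
      ∀ (P : Subgroup Ω) (f : Ω → Ω), IsMap D P f → IsMap E P f := by
  have hXS := hX.1
  have hT'S := hT'.1
  have hT'n : S ≤ Subgroup.normalizer (T' : Set Ω) :=
    (le_normalizerIn_of_stronglyClosed hT').trans inf_le_right
  set A := base S T ⊔ X with hA
  have hTA : T ≤ A := (le_sup_left : T ≤ base S T).trans le_sup_left
  have hcT : centralizerIn S T ≤ A := (le_sup_right : centralizerIn S T ≤ base S T).trans le_sup_left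
  have hAS : A ≤ S := sup_le (base_le h.hTS) hXS
  have hXA : X ≤ A := le_sup_right
  haveI : Finite A := finite_of_le hAS
  have hAp := h.pgroup.to_le hAS
  set B := bSys h hcT hTA hAS
  have hBsat : B.IsSaturated p := isSaturated_bSys h hcT hTA hAS hE hnil
  have hlamX : ∀ μ ∈ lam h A, ∃ x ∈ X, nuB h x = μ := by
    have hle : A ≤ pre h X 1 := by
      refine sup_le (fun b hb => ?_) fun x hx => ?_
      · obtain ⟨hbS, hb1⟩ := (mem_base_iff h).1 hb
        exact ⟨hbS, by rw [inv_one, one_mul, mul_one, hb1]; exact one_mem _⟩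
      · exact ⟨hXS hx, by rw [inv_one, one_mul, mul_one]; exact nuB_mem_lam h hXS hx⟩
    rintro _ ⟨a, ha, rfl⟩
    obtain ⟨x, hx, hxe⟩ := (hle ha.1).2
    exact ⟨x, hx.1, by rw [hxe, inv_one, one_mul, mul_one]⟩
  -- `X` is fully normalized in the system on `A`
  have hXB : B.IsFullyNormalized X := by
    refine ⟨hXA, fun X' hX' => ?_⟩
    obtain ⟨f, hf, rfl⟩ := isConj_iff.1 hX'
    obtain ⟨-, γ, hγ, hlf⟩ := ((isMap_bSys h hcT hTA hAS).1 hf).lmap
    obtain ⟨hau, hre⟩ := IsSaturated.automized_receptive h.pgroup h.sat hX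
    obtain ⟨φ, hφ, hφX, hφN⟩ := exists_map_normalizer h.pgroup hau hre
      (isConj_symm (isConj_iff.2 ⟨f, hlf.isMap, rfl⟩) : F.IsConj (img X f) X)
    have hNN : normalizerIn A (img X f) ≤ normalizerIn S (img X f) := inf_le_inf_right _ hAS
    rw [← (hφ.mono hNN).card_img]
    refine card_le_of_le' (inf_le_left.trans hAS) ((hφ.mono hNN).img_le_of_forall fun a ha => ?_)
    refine Subgroup.mem_inf.2 ⟨?_, (hφN a (hNN ha)).2⟩
    obtain ⟨x, hx, hxe⟩ := hlamX _ (mul_mem (mul_mem (inv_mem hγ) (nuB_mem_lam h hAS ha.1)) hγ)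
    have hfx : f x ∈ img X f := hlf.isMap.mem_img.2 ⟨x, hx, rfl⟩
    have hfxS := hlf.isMap.mem_S hx
    have hfN : f x ∈ normalizerIn S (img X f) := le_normalizerIn hlf.isMap.img_le hfx
    have ht : a * (f x)⁻¹ ∈ base S T := by
      refine (mem_base_iff h).2 ⟨S.mul_mem (hAS ha.1) (S.inv_mem hfxS), ?_⟩
      rw [nuB_mul h (hAS ha.1) (inv_mem hfxS), nuB_inv h hfxS, hlf.twist x hx, hxe]
      group
    have htN : a * (f x)⁻¹ ∈ normalizerIn S (img X f) := mul_mem (hNN ha) (inv_mem hfN)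
    have h1 := mul_mem (Subgroup.mem_sup_left (T := X) (base_mem (h := h) hnil hφ htN ht))
      (Subgroup.mem_sup_right (S := base S T)
        (hφX.le ((hφ.mono (le_normalizerIn hlf.isMap.img_le)).mem_img.2 ⟨f x, hfx, rfl⟩)))
    rwa [← hφ.map_mul htN hfN, inv_mul_cancel_right] at h1
  set N₀ := normalizerIn A X with hN₀
  have hN₀A : N₀ ≤ A := inf_le_left
  have hN₀S : N₀ ≤ S := hN₀A.trans hAS
  have hN₀N : N₀ ≤ normalizerIn S X := inf_le_inf_right _ hAS
  have hXN₀ : X ≤ N₀ := le_normalizerIn hXA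
  haveI : Finite N₀ := finite_of_le hN₀S
  have hN₀p := h.pgroup.to_le hN₀S
  set NB := nSystem B N₀ X le_rfl hXB.1
  have hNBsat : NB.IsSaturated p := isSaturated_nQ hAp hBsat hXB
  have hext : ∀ {P : Subgroup Ω} {f : Ω → Ω}, IsMap NB P f → P ≤ N₀ ∧ (∀ x ∈ P, f x ∈ N₀) ∧
      ∃ k, ∃ γ ∈ lam h A, LMap h (P ⊔ X) k γ ∧ (∀ x ∈ P, k x = f x) ∧ img X k = X := by
    intro P f hf
    obtain ⟨h1, h2, k, hk, hke, hkX⟩ := isMap_nSystem_iff.1 hf
    obtain ⟨-, γ, hγ, hl⟩ := ((isMap_bSys h hcT hTA hAS).1 hk).lmap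
    exact ⟨h1, h2, k, γ, hγ, hl, hke, hkX⟩
  have hnb : ∀ {P : Subgroup Ω} {f k : Ω → Ω} {γ : Lbl h}, P ≤ N₀ → (∀ x ∈ P, f x ∈ N₀) →
      LMap h (P ⊔ X) k γ → γ ∈ lam h A → (∀ x ∈ P, k x = f x) → img X k = X → IsMap NB P f := by
    intro P f k γ h1 h2 hl hγ hke hkX
    exact isMap_nSystem_iff.2 ⟨h1, h2, k, (isMap_bSys h hcT hTA hAS).2
      (bmap_of_lmap hcT hTA hAS hl (sup_le (h1.trans hN₀A) hXA) hγ), hke, hkX⟩
  have hNBF : ∀ {P : Subgroup Ω} {f : Ω → Ω}, IsMap NB P f →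
      IsMap (nQ F X hX.1) P f ∧ IsMap F P f := by
    intro P f hf
    obtain ⟨h1, h2, k, γ, -, hl, hke, hkX⟩ := hext hf
    exact ⟨isMap_nSystem_iff.2 ⟨h1.trans hN₀N, fun x hx => hN₀N (h2 x hx), k, hl.isMap, hke, hkX⟩,
      (hl.isMap.mono le_sup_left).congr fun x hx => (hke x hx).symm⟩
  -- automorphisms of order prime to `p`
  have hone : ∀ {P : Subgroup Ω} {a : MulAut P}, IsMap NB P (autFun a) → (orderOf a).Coprime p →
      LMap h P (autFun a) 1 := by
    intro P a ha hco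
    obtain ⟨h1, -, k, γ, hγ, hl, hke, -⟩ := hext ha
    exact ((hl.mono le_sup_left).congr fun x hx => (hke x hx).symm).coprime_one
      (h1.trans hN₀S) hγ hco
  set U := normalizerIn T' X with hU
  have hUN₀ : U ≤ N₀ := inf_le_inf_right _ (hT'T.trans hTA)
  have hUT : U ≤ T := inf_le_left.trans hT'T
  have habs : Absorbs NB p U := by
    refine ⟨hUN₀, fun s hs => ?_, fun P hP α hco x hx => ?_⟩
    · refine conjBy_eq_iff.1 (eq_of_le_of_card_le ((inf_le_left : U ≤ T').trans hT'S)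
        (conjBy_le_iff.2 fun y hy => Subgroup.mem_inf.2
          ⟨(Subgroup.mem_normalizer_iff.1 (hT'n (hN₀S hs)) y).1 hy.1,
            mul_mem (mul_mem hs.2 hy.2) (inv_mem hs.2)⟩) (card_conjBy s _).ge)
    · have hco' : (orderOf (α : MulAut P)).Coprime p := by rwa [Subgroup.orderOf_coe]
      refine Subgroup.mem_inf.2 ⟨?_, mul_mem (inv_mem (hP hx).2) (hP (autFun_mem _ hx)).2⟩
      have hl := hone ((mem_autGroup_iff hP).1 α.2) hco'
      have hPS := hP.trans hN₀S
      have hdT := hl.disp_T hE hnil hPS hco'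
      refine disp_step h.pgroup hT'n hPS hco' hdT (fun z hz => ?_) x hx
      have ham := hl.isMap.mono (inf_le_left : P ⊓ T ≤ P)
      have hia : img (P ⊓ T) (autFun (α : MulAut P)) = P ⊓ T :=
        img_eq_of_map_le (inf_le_left.trans hPS) ham le_rfl fun y hy =>
          ⟨autFun_mem _ hy.1, cl_mem h.closed ham hy hy.2⟩
      have hd := hdisp _ (autOf ham hia) inf_le_right
        (((hl.mono inf_le_left).isMap_E inf_le_right).congr fun y hy => autFun_autOf ham hia hy)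
        (Nat.Coprime.coprime_dvd_left (Product.orderOf_dvd_of_agree inf_le_left fun y hy =>
          (autFun_autOf ham hia hy).symm) hco') z hz
      rwa [autFun_autOf ham hia hz] at hd
  have hhyp : NB.hyperfocalSubgroup p ≤ U := hyperfocal_le habs
  set D₁ := pSystem NB p U hUN₀ hhyp
  haveI : Finite U := finite_of_le (hUN₀.trans hN₀S)
  have hUp := h.pgroup.to_le (hUN₀.trans hN₀S)
  have hD₁s : D₁.IsSaturated p := isSaturated_pSystem hN₀p hNBsat
  have hD₁n : D₁.IsNormalIn NB p := pSystem_isNormalIn hN₀p hNBsat habs.normal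
  have hD₁side := Side.of_weaklyNormal hN₀p hD₁n.1
  have hD₁NB : ∀ {P : Subgroup Ω} {f : Ω → Ω}, IsMap D₁ P f → IsMap NB P f :=
    fun hf => hf.ofSubsystem hD₁side.sub
  -- inside `E`
  have hD₁E : ∀ (P : Subgroup Ω) (f : Ω → Ω), IsMap D₁ P f → IsMap E P f := by
    let EE : FusionSystem U := mkSystem E U
      (fun P f => IsMap E P f ∧ P ≤ U ∧ ∀ x ∈ P, f x ∈ U)
      (fun _ _ hf => hf)
      (fun _ _ _ hf he => ⟨hf.1.congr he, hf.2.1, fun x hx => by rw [he x hx]; exact hf.2.2 x hx⟩)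
      (fun _ t hP ht => ⟨isMap_conj (hP.trans hUT) (hUT ht), hP,
        fun x hx => U.mul_mem (U.mul_mem ht (hP hx)) (U.inv_mem ht)⟩)
      (fun _ _ _ _ hf hg hm => ⟨hf.1.comp hg.1 hm, hf.2.1, fun x hx => hg.2.2 _ (hm x hx)⟩)
      (fun P f f' hf hf' he => ⟨hf', hf.1.img_le_of_forall hf.2.2, fun y hy => by
        obtain ⟨x, hx, rfl⟩ := hf.1.mem_img.1 hy
        rw [he x hx]; exact hf.2.1 hx⟩)
    intro P f hf
    refine ((isMap_mkSystem_iff _).1 (isMap_of_autGroup_le hUp hD₁s (E := EE) (fun R hR α hα => ?_)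
      hf)).1
    have hRn : D₁.IsFullyNormalized R := by
      rcases hR with rfl | hR
      · exact isFullyNormalized_self
      · exact hR.2.1
    have hRU := hRn.1
    obtain ⟨n, hn, β, hβ, he⟩ := exists_conj_mul_residual
      (IsSaturated.automized_receptive hUp hD₁s hRn).1 ⟨α, hα⟩
    have hle : Cfsg.pResidual p (D₁.autGroup R) ≤ (E.autGroup R).comap (D₁.autGroup R).subtype :=
      (Subgroup.closure_le _).2 fun b hb => by
        have hb' : (orderOf (b : MulAut R)).Coprime p := by rwa [Subgroup.orderOf_coe]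
        exact (mem_autGroup_iff (hRU.trans hUT)).2
          ((hone (hD₁NB ((mem_autGroup_iff hRU).1 b.2)) hb').isMap_E (hRU.trans hUT))
    have hβE := (mem_autGroup_iff (hRU.trans hUT)).1 (hle hβ)
    have hc : IsMap E R (fun x => n * autFun (β : MulAut R) x * n⁻¹) :=
      hβE.comp (isMap_conj le_rfl (hUT hn.1)) fun x hx => hβE.mem_S hx
    refine (mem_autGroup_iff hRU).2 ((isMap_mkSystem_iff _).2
      ⟨hc.congr fun x hx => (he x hx), hRU, fun x hx => hRU (autFun_mem α hx)⟩)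
  -- weakly normal in the normalizer system
  set N := nQ F X hX.1 with hN
  haveI : Finite (normalizerIn S X) := finite_of_le (S := S) inf_le_left
  have hNp : IsPGroup p (normalizerIn S X) := h.pgroup.to_le inf_le_left
  have hNs : N.IsSaturated p := isSaturated_nQ h.pgroup h.sat hX
  have hD₁N : D₁.IsSubsystemOf N := fun P φ hφ =>
    mem_hom_iff.2 (hNBF (hD₁NB (isMap_toFun hφ))).1
  have hUcl : N.StronglyClosed U := stronglyClosed_iff.2 ⟨inf_le_inf_right _ hT'S,
    fun R f hR hf x hx =>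
      ⟨cl_mem hT' (isMap_of_nQ hX.1 hf) hx (hR hx).1, (hf.mem_S hx).2⟩⟩
  have hinv : StrongInv D₁ N := by
    intro P Q f g hPQ hQU hf hfQ hg
    obtain ⟨-, hgN, k, hk, hkg, hkX⟩ := isMap_nSystem_iff.1 hg
    obtain ⟨γ, hlk⟩ := exists_lmap h hnil hk
    have hkx : ∀ x ∈ X, k x ∈ X := fun x hx => mem_of_img_eq hk le_sup_right hkX hx
    have hΛ : ∀ μ ∈ lam h A, γ * μ * γ⁻¹ ∈ lam h A ∧ γ⁻¹ * μ * γ ∈ lam h A := by
      intro μ hμ
      obtain ⟨x, hx, rfl⟩ := hlamX μ hμ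
      refine ⟨?_, ?_⟩
      · rw [← hlk.twist x (Subgroup.mem_sup_right hx)]
        exact nuB_mem_lam h hAS (hXA (hkx x hx))
      · obtain ⟨x₀, hx₀, rfl⟩ := (hk.mono le_sup_right).mem_img.1 (hkX.ge hx)
        rw [hlk.twist x₀ (Subgroup.mem_sup_right hx₀),
          show γ⁻¹ * (γ * nuB h x₀ * γ⁻¹) * γ = nuB h x₀ by group]
        exact nuB_mem_lam h hAS (hXA hx₀)
    have hApre : A ≤ pre h A γ := fun a ha => ⟨hAS ha, (hΛ _ (nuB_mem_lam h hAS ha)).2⟩
    obtain ⟨q, hq⟩ := exists_pull h hTA hAS γ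
    have lq := hq.mono hApre
    have hqA : ∀ a ∈ A, q a ∈ A := fun a ha => pull_mem h hcT hTA hq le_rfl (hApre ha)
    set X₁ := img X q
    have hqX := lq.isMap.mono hXA
    have hX₁ : B.IsConj X₁ X := by
      have hlX := (hlk.mono le_sup_right).comp lq fun x hx => hXA (hkx x hx)
      rw [inv_mul_cancel] at hlX
      refine isConj_symm (isConj_iff.2 ⟨q ∘ k,
        (isMap_bSys h hcT hTA hAS).2 (bmap_of_lmap hcT hTA hAS hlX hXA (one_mem _)), ?_⟩)
      rw [← img_img (hk.mono le_sup_right), hkX]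
    obtain ⟨hau, hre⟩ := IsSaturated.automized_receptive hAp hBsat hXB
    obtain ⟨t, ht, htX, htN⟩ := exists_map_normalizer hAp hau hre hX₁
    obtain ⟨-, ν, hν, hlt⟩ := ((isMap_bSys h hcT hTA hAS).1 ht).lmap
    have hqN : ∀ a ∈ N₀, q a ∈ normalizerIn A X₁ := fun a ha => Subgroup.mem_inf.2
      ⟨hqA a ha.1, (map_mem_normalizerIn lq.isMap hXA ha.1 ha.2).2⟩
    set j := t ∘ q with hjdef
    have lj : LMap h N₀ j (ν * γ⁻¹) := (lq.mono hN₀A).comp hlt hqN
    have hjm : ∀ a ∈ N₀, j a ∈ N₀ := fun a ha => htN _ (hqN a ha)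
    have hjN : img N₀ j = N₀ := img_eq_of_map_le hN₀S lj.isMap le_rfl hjm
    have hX₁A : X₁ ≤ A := hqX.img_le_of_forall fun x hx => hqA x (hXA hx)
    have hjX : ∀ x ∈ X, j x ∈ X := fun x hx => htX.le
      ((ht.mono (le_normalizerIn hX₁A)).mem_img.2 ⟨q x, hqX.mem_img.2 ⟨x, hx, rfl⟩, rfl⟩)
    obtain ⟨i, li, hij, hji⟩ := lj.exists_inv
    rw [hjN] at li hji
    have him : ∀ a ∈ N₀, i a ∈ N₀ := fun a ha => (hji a ha).1
    have hjiX : img X j = X := img_eq_of_map_le hXS (lj.isMap.mono hXN₀) le_rfl hjX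
    have hiX : ∀ x ∈ X, i x ∈ X := fun x hx => by
      obtain ⟨x₀, hx₀, rfl⟩ := (lj.isMap.mono hXN₀).mem_img.1 (hjiX.ge hx)
      rw [hij x₀ (hXN₀ hx₀)]; exact hx₀
    -- `j ∘ g` is a map of the system over `N_A(X)`
    have hgU : ∀ x ∈ Q, g x ∈ U := fun x hx =>
      (stronglyClosed_iff.1 hUcl).2 Q g hQU hg x hx
    have hQN₀ : Q ≤ N₀ := hQU.trans hUN₀
    have hkN₀ : ∀ z ∈ Q ⊔ X, k z ∈ N₀ := fun z hz => hk.map_mem_of_sup
      (fun x hx => by rw [hkg x hx]; exact hUN₀ (hgU x hx)) (fun x hx => hXN₀ (hkx x hx)) hz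
    have hjg : IsMap NB Q (j ∘ g) := by
      have hl1 := hlk.comp lj hkN₀
      rw [inv_mul_cancel_right] at hl1
      refine hnb (γ := ν) hQN₀ (fun x hx => hjm _ (hUN₀ (hgU x hx))) hl1 hν
        (fun x hx => by show j (k x) = j (g x); rw [hkg x hx]) ?_
      rw [← img_img (hk.mono le_sup_right), hkX, hjiX]
    obtain ⟨k₁, hk₁, hk₁e⟩ := hD₁side.inv P Q f (j ∘ g) hPQ hQU hf hfQ hjg
    -- transport by `i`
    have hG : ∀ (R : Subgroup Ω) (k₀ : Ω → Ω), IsMap NB R k₀ →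
        IsMap NB (img R i) (i ∘ k₀ ∘ j) := by
      intro R k₀ hk₀
      obtain ⟨hR, hRm, e, μ, hμ, le, hee, heX⟩ := hext hk₀
      have hRX : R ⊔ X ≤ N₀ := sup_le hR hXN₀
      have heN : ∀ z ∈ R ⊔ X, e z ∈ N₀ := fun z hz => le.isMap.map_mem_of_sup
        (fun x hx => by rw [hee x hx]; exact hRm x hx)
        (fun x hx => hXN₀ (mem_of_img_eq le.isMap le_sup_right heX hx)) hz
      have liR := li.isMap.mono hR
      have hsrc : img R i ⊔ X ≤ N₀ :=
        sup_le (liR.img_le_of_forall fun x hx => him x (hR hx)) hXN₀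
      have hjsrc : ∀ z ∈ img R i ⊔ X, j z ∈ R ⊔ X := fun z hz =>
        (lj.isMap.mono hsrc).map_mem_of_sup (fun y hy => by
          obtain ⟨x, hx, rfl⟩ := liR.mem_img.1 hy
          exact Subgroup.mem_sup_left (by rw [(hji x (hR hx)).2]; exact hx))
          (fun x hx => Subgroup.mem_sup_right (hjX x hx)) hz
      have hl2 := ((lj.mono hsrc).comp le hjsrc).comp li fun z hz => heN _ (hjsrc z hz)
      refine hnb (γ := _) (hsrc.trans' le_sup_left) (fun y hy => ?_) hl2 ?_ (fun y hy => ?_) ?_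
      · obtain ⟨x, hx, rfl⟩ := liR.mem_img.1 hy
        show i (k₀ (j (i x))) ∈ N₀
        rw [(hji x (hR hx)).2]
        exact him _ (hRm x hx)
      · rw [show (ν * γ⁻¹)⁻¹ * (μ * (ν * γ⁻¹)) = γ * (ν⁻¹ * μ * ν) * γ⁻¹ by group]
        exact (hΛ _ (mul_mem (mul_mem (inv_mem hν) hμ) hν)).1
      · obtain ⟨x, hx, rfl⟩ := liR.mem_img.1 hy
        show i (e (j (i x))) = i (k₀ (j (i x)))
        rw [(hji x (hR hx)).2, hee x hx]
      · refine img_eq_of_map_le hXS hl2.isMap le_sup_right fun x hx => ?_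
        show i (e (j x)) ∈ X
        exact hiX _ (mem_of_img_eq le.isMap le_sup_right heX (hjX x hx))
    obtain ⟨hk₁U, c, hcU, hcc⟩ := isMap_pSystem_iff.1 hk₁
    have hct := chain_transport (p := p) (i := i) (j := j) li.isMap him
      (fun x hx => (hji x hx).2) hG hcc
    have hgP := hg.mono hPQ
    have himg : img (img P (j ∘ g)) i = img P g := by
      rw [img_img ((hjg.mono hPQ))]
      exact IsMap.img_congr fun x hx => hij _ (hUN₀ (hgU x (hPQ hx)))
    rw [himg] at hct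
    refine ⟨i ∘ k₁ ∘ j, isMap_pSystem_iff.2 ⟨hgP.img_le_of_forall fun x hx => hgU x (hPQ hx),
      i c, Subgroup.mem_inf.2 ⟨cl_mem hT' li.isMap (hUN₀ hcU) hcU.1, (him c (hUN₀ hcU)).2⟩, hct⟩,
      fun x hx => ?_⟩
    show i (k₁ (j (g x))) = g (f x)
    rw [show k₁ (j (g x)) = j (g (f x)) from hk₁e x hx, hij _ (hUN₀ (hgU _ (hfQ x hx)))]
  have hwn : D₁.IsWeaklyNormalIn N p :=
    ⟨hD₁s, hNs, (isInvariantIn_iff_strongInv hNp hNs hD₁N hUcl).2 hinv⟩
  obtain ⟨D, hD⟩ := Cfsg.Agent.S5140.result p hUp D₁ hD₁s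
  exact ⟨D, Cfsg.Agent.S5141.result p hNp N hNs D₁ hwn D hD,
    fun P f hf => hD₁E P f (hf.ofSubsystem hD.2.1.1)⟩

end CfsgLib.Fusion.Balance
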